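import Mathlib

/-!
# S1761: `GL(U)` over `ZMod 2` is generated by its transvections (helper622)

* `mem_of_transvections`: a subgroup of `GL(U)` containing all transvections is everything;
* `mem_of_axis`: so is a subgroup leaving no proper nonzero subspace invariant and containing all transvections
  with one given axis.
-/

set_option autoImplicit false

namespace Cfsg.Agent.LargeExtra.Red.GLGen

open Module

variable {U : Type*} [AddCommGroup U] [Module (ZMod 2) U]

theorem zcases (x : ZMod 2) : x = 0 ∨ x = 1 := by
  revert x; decide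

theorem vadd_self (u : U) : u + u = 0 := ZModModule.add_self u

theorem eq_of_add {u v : U} (h : u + v = 0) : u = v := by
  have h2 : u + v = v + v := by rw [h, vadd_self]
  exact add_right_cancel h2

/-- `t` is the transvection `x ↦ x + φ x • a`. -/
def IsT (t : U ≃ₗ[ZMod 2] U) (φ : Dual (ZMod 2) U) (a : U) : Prop := ∀ x, t x = x + φ x • a

theorem exists_isT (φ : Dual (ZMod 2) U) (a : U) (h : φ a = 0) : ∃ t : U ≃ₗ[ZMod 2] U, IsT t φ a :=
  ⟨LinearEquiv.transvection h, fun _ => rfl⟩

/-- A subgroup of `GL(U)` containing all transvections is everything. -/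
theorem mem_of_transvections [Finite U] (Γ : Subgroup (U ≃ₗ[ZMod 2] U))
    (hΓ : ∀ (φ : Dual (ZMod 2) U) (a : U), φ a = 0 → ∃ t ∈ Γ, IsT t φ a) (s : U ≃ₗ[ZMod 2] U) : s ∈ Γ := by
  classical
  have key : ∀ (n : ℕ) (s : U ≃ₗ[ZMod 2] U), Nat.card U - Nat.card {x : U // s x = x} ≤ n → s ∈ Γ := by
    intro n
    induction n with
    | zero =>
      intro s hs
      have h1 : Nat.card {x : U // s x = x} ≤ Nat.card U :=
        Nat.card_le_card_of_injective _ Subtype.val_injective
      have h2 : Nat.card {x : U // s x = x} = Nat.card U := by omega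
      have h3 : s = 1 := by
        ext x
        by_contra hx
        have h4 : Nat.card {x : U // s x = x} < Nat.card U := by
          refine Nat.lt_of_le_of_ne h1 ?_
          intro h5
          have h6 := (Nat.bijective_iff_injective_and_card
            (Subtype.val : {x : U // s x = x} → U)).2 ⟨Subtype.val_injective, h5⟩
          obtain ⟨y, hy⟩ := h6.2 x
          exact hx (by rw [← hy]; exact y.2)
        omega
      rw [h3]; exact one_mem _
    | succ n ih =>
      intro s hs
      by_cases hs1 : ∀ x, s x = x
      · have : s = 1 := by ext x; exact hs1 x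
        rw [this]; exact one_mem _
      push Not at hs1
      obtain ⟨x, hx⟩ := hs1
      -- the fixed space
      let W : Submodule (ZMod 2) U := LinearMap.eqLocus (s : U →ₗ[ZMod 2] U) LinearMap.id
      have hW : ∀ v, v ∈ W ↔ s v = v := fun v => Iff.rfl
      -- functional killing `W` and `x + s x`, taking the value one at `s x`
      have hnot : s x ∉ W ⊔ Submodule.span (ZMod 2) {x + s x} := by
        intro hm
        obtain ⟨w, hw, y, hy, hwy⟩ := Submodule.mem_sup.1 hm
        obtain ⟨c, rfl⟩ := Submodule.mem_span_singleton.1 hy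
        rcases zcases c with rfl | rfl
        · rw [zero_smul, add_zero] at hwy
          rw [hwy, hW] at hw
          exact hx (s.injective hw)
        · rw [one_smul] at hwy
          have : w = x := by
            have h1 : w + (x + s x) + s x = s x + s x := by rw [hwy]
            rw [vadd_self, add_assoc, add_assoc, vadd_self, add_zero] at h1
            exact eq_of_add h1
          rw [this, hW] at hw
          exact hx hw
      obtain ⟨φ, hφ, hφW⟩ := Submodule.exists_le_ker_of_notMem hnot
      have hφ1 : φ (s x) = 1 := (zcases _).resolve_left hφ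
      have hφ2 : φ (x + s x) = 0 :=
        hφW (Submodule.mem_sup_right (Submodule.mem_span_singleton_self _))
      have hφ3 : ∀ w, s w = w → φ w = 0 := fun w hw => hφW (Submodule.mem_sup_left ((hW w).2 hw))
      obtain ⟨t, ht, htt⟩ := hΓ φ (x + s x) hφ2
      have h1 : ∀ w, s w = w → (t * s) w = w := by
        intro w hw
        show t (s w) = w
        rw [hw, htt, hφ3 w hw, zero_smul, add_zero]
      have h2 : (t * s) x = x := by
        show t (s x) = x
        rw [htt, hφ1, one_smul, add_comm x, ← add_assoc, vadd_self, zero_add]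
      have h3 : Nat.card {w : U // s w = w} < Nat.card {w : U // (t * s) w = w} := by
        have h4 : Nat.card {w : U // s w = w} ≤ Nat.card {w : U // (t * s) w = w} :=
          Nat.card_le_card_of_injective (fun w => ⟨w.1, h1 w.1 w.2⟩)
            (fun a b hab => Subtype.ext (congrArg (fun y : {w : U // (t * s) w = w} => y.1) hab))
        refine Nat.lt_of_le_of_ne h4 ?_
        intro h5
        have h6 := (Nat.bijective_iff_injective_and_card
          (fun w : {w : U // s w = w} => (⟨w.1, h1 w.1 w.2⟩ : {w : U // (t * s) w = w}))).2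
            ⟨fun a b hab => Subtype.ext (congrArg (fun y : {w : U // (t * s) w = w} => y.1) hab), h5⟩
        obtain ⟨y, hy⟩ := h6.2 ⟨x, h2⟩
        have : y.1 = x := congrArg (fun y : {w : U // (t * s) w = w} => y.1) hy
        exact hx (by rw [← this]; exact y.2)
      have h7 : t * s ∈ Γ := ih (t * s) (by omega)
      have h8 := Γ.mul_mem (Γ.inv_mem ht) h7
      rwa [inv_mul_cancel_left] at h8
  exact key _ s le_rfl

/-- A subgroup of `GL(U)` which leaves no proper nonzero subspace invariant and contains all transvections with
one given axis is everything. -/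
theorem mem_of_axis [Finite U] (Γ : Subgroup (U ≃ₗ[ZMod 2] U))
    (hirr : ∀ W : Submodule (ZMod 2) U, (∀ t ∈ Γ, ∀ w ∈ W, t w ∈ W) → W = ⊥ ∨ W = ⊤)
    (φ : Dual (ZMod 2) U) (hφ : φ ≠ 0) (hΓ : ∀ a : U, φ a = 0 → ∃ t ∈ Γ, IsT t φ a)
    (s : U ≃ₗ[ZMod 2] U) : s ∈ Γ := by
  classical
  -- the set of good axes
  let S : Submodule (ZMod 2) (Dual (ZMod 2) U) :=
    { carrier := {ψ | ∀ a : U, ψ a = 0 → ∃ t ∈ Γ, IsT t ψ a}
      zero_mem' := fun a _ => ⟨1, one_mem _, fun x => by simp⟩
      add_mem' := by
        intro ψ χ hψ hχ a ha
        by_cases h0 : ψ = 0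
        · subst h0
          rw [zero_add] at ha ⊢
          exact hχ a ha
        by_cases h1 : χ = 0
        · subst h1
          rw [add_zero] at ha ⊢
          exact hψ a ha
        by_cases h2 : ψ = χ
        · refine ⟨1, one_mem _, fun x => ?_⟩
          have : (ψ + χ) x = 0 := by
            rw [h2]
            show χ x + χ x = 0
            exact vadd_self (χ x)
          rw [this, zero_smul, add_zero]; rfl
        -- `u` with `ψ u = 0`, `χ u = 1`
        have h3 : ∃ u, ψ u = 0 ∧ χ u = 1 := by
          by_contra hcon
          push Not at hcon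
          have hc : ∀ u, ψ u = 0 → χ u = 0 := fun u hu => (zcases _).resolve_right (hcon u hu)
          apply h2
          have hex : ∃ v, χ v = 1 := by
            by_contra hcon'
            push Not at hcon'
            exact h1 (LinearMap.ext fun v => (zcases _).resolve_right (hcon' v))
          obtain ⟨v, hv⟩ := hex
          have hψv : ψ v = 1 := (zcases _).resolve_left fun h => by
            rw [hc v h] at hv; exact zero_ne_one hv
          ext x
          rcases zcases (ψ x) with h | h
          · rw [h, hc x h]
          · have h4 : ψ (x + v) = 0 := by rw [map_add, h, hψv]; decide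
            have h5 := hc _ h4
            rw [map_add, hv] at h5
            rw [h]
            rcases zcases (χ x) with h6 | h6
            · rw [h6] at h5; exact absurd h5 (by decide)
            · exact h6.symm
        obtain ⟨u, hu, hu'⟩ := h3
        obtain ⟨t, ht, htt⟩ := hψ u hu
        -- `χ (t x) = (ψ + χ) x`
        have h4 : ∀ x, χ (t x) = (ψ + χ) x := by
          intro x
          rw [htt, map_add, map_smul, hu']
          show χ x + ψ x • (1 : ZMod 2) = ψ x + χ x
          rw [smul_eq_mul, mul_one, add_comm]
        have h5 : χ (t a) = 0 := by rw [h4]; exact ha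
        obtain ⟨r, hr, hrr⟩ := hχ (t a) h5
        refine ⟨t⁻¹ * r * t, Γ.mul_mem (Γ.mul_mem (Γ.inv_mem ht) hr) ht, fun x => ?_⟩
        show t.symm (r (t x)) = _
        rw [hrr, map_add, LinearEquiv.symm_apply_apply, map_smul, LinearEquiv.symm_apply_apply, h4]
      smul_mem' := by
        intro c ψ hψ
        rcases zcases c with rfl | rfl
        · rw [zero_smul]
          exact fun a _ => ⟨1, one_mem _, fun x => by simp⟩
        · rw [one_smul]; exact hψ }
  have hSmem : ∀ ψ, ψ ∈ S ↔ ∀ a : U, ψ a = 0 → ∃ t ∈ Γ, IsT t ψ a := fun ψ => Iff.rfl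
  -- `S` is invariant
  have hSinv : ∀ t ∈ Γ, ∀ ψ ∈ S, ψ.comp (t : U →ₗ[ZMod 2] U) ∈ S := by
    intro t ht ψ hψ a ha
    obtain ⟨r, hr, hrr⟩ := hψ (t a) ha
    refine ⟨t⁻¹ * r * t, Γ.mul_mem (Γ.mul_mem (Γ.inv_mem ht) hr) ht, fun x => ?_⟩
    show t.symm (r (t x)) = _
    rw [hrr, map_add, LinearEquiv.symm_apply_apply, map_smul, LinearEquiv.symm_apply_apply]
    rfl
  -- the common kernel
  have hK := hirr S.dualCoannihilator (by
    intro t ht w hw
    rw [Submodule.mem_dualCoannihilator] at hw ⊢
    intro ψ hψ
    exact hw _ (hSinv t ht ψ hψ))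
  have hK' : S.dualCoannihilator = ⊥ := by
    refine hK.resolve_right fun h => hφ ?_
    ext x
    have : x ∈ S.dualCoannihilator := by rw [h]; trivial
    exact (Submodule.mem_dualCoannihilator x).1 this φ hΓ
  have hfin : Module.Finite (ZMod 2) U := Module.Finite.of_finite
  have hS : S = ⊤ := by
    have h1 := Subspace.dualCoannihilator_dualAnnihilator_eq (W := S)
    rw [hK', Submodule.dualAnnihilator_bot] at h1
    exact h1.symm
  refine mem_of_transvections Γ (fun ψ a ha => ?_) s
  have : ψ ∈ S := by rw [hS]; trivial
  exact this a ha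

end Cfsg.Agent.LargeExtra.Red.GLGen
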