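import Mathlib
import Cfsg.Prelude.Def_TwoFusion
import Cfsg.Prelude.Def_Involutions
import Cfsg.Agent.S1335
import Cfsg.Agent.TwoFusion.StronglyEmbeddedBasic

/-!
# A self-centralizing TI-subgroup `A` with `N(A)/A = GL(A)`: conjugates of `z` in `N(A)` are in `A`

([R10] of the plan for S1761.)
-/

set_option autoImplicit false

namespace Cfsg.Agent.LargeExtra.Red.TIClose

open Subgroup

universe u

/-! ### two TI-subgroups -/

section Pair

variable {G : Type*} [Group G]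

/-- a self-centralizing elementary abelian TI-subgroup (TI in the strong form for elements) -/
structure TI (A : Subgroup G) : Prop where
  sq : ∀ x ∈ A, x * x = 1
  cent : ∀ x, (∀ y ∈ A, x * y = y * x) → x ∈ A
  ti : ∀ a ∈ A, a ≠ 1 → ∀ g, g * a * g⁻¹ ∈ A → g ∈ normalizer (A : Set G)

variable {A A' : Subgroup G}

theorem TI.inv (h : TI A) {x : G} (hx : x ∈ A) : x⁻¹ = x := inv_eq_of_mul_eq_one_left (h.sq x hx)

theorem TI.comm (h : TI A) {x y : G} (hx : x ∈ A) (hy : y ∈ A) : x * y = y * x := by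
  have h1 := h.inv (A.mul_mem hx hy)
  rw [mul_inv_rev, h.inv hx, h.inv hy] at h1
  exact h1.symm

theorem TI.conj (h : TI A) (g : G) : TI (A.map (MulAut.conj g).toMonoidHom) where
  sq := by
    rintro _ ⟨x, hx, rfl⟩
    show g * x * g⁻¹ * (g * x * g⁻¹) = 1
    calc g * x * g⁻¹ * (g * x * g⁻¹) = g * (x * x) * g⁻¹ := by group
      _ = 1 := by rw [h.sq x hx]; group
  cent := by
    intro x hx
    refine ⟨g⁻¹ * x * g, h.cent _ ?_, ?_⟩
    · intro y hy
      have h1 := hx (g * y * g⁻¹) ⟨y, hy, rfl⟩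
      calc g⁻¹ * x * g * y = g⁻¹ * (x * (g * y * g⁻¹)) * g := by group
        _ = g⁻¹ * ((g * y * g⁻¹) * x) * g := by rw [h1]
        _ = _ := by group
    · show g * (g⁻¹ * x * g) * g⁻¹ = x
      group
  ti := by
    rintro _ ⟨a, ha, rfl⟩ hne k ⟨b, hb, hbe⟩
    have hbe' : g * b * g⁻¹ = k * (g * a * g⁻¹) * k⁻¹ := hbe
    have ha1 : a ≠ 1 := by
      rintro rfl
      exact hne (map_one _)
    have h1 : (g⁻¹ * k * g) * a * (g⁻¹ * k * g)⁻¹ ∈ A := by
      have : (g⁻¹ * k * g) * a * (g⁻¹ * k * g)⁻¹ = b := by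
        calc (g⁻¹ * k * g) * a * (g⁻¹ * k * g)⁻¹ = g⁻¹ * (k * (g * a * g⁻¹) * k⁻¹) * g := by group
          _ = g⁻¹ * (g * b * g⁻¹) * g := by rw [hbe']
          _ = b := by group
      rw [this]; exact hb
    have h2 := h.ti a ha ha1 _ h1
    rw [Subgroup.mem_normalizer_iff] at h2 ⊢
    intro x
    constructor
    · rintro ⟨y, hy, rfl⟩
      refine ⟨(g⁻¹ * k * g) * y * (g⁻¹ * k * g)⁻¹, (h2 y).1 hy, ?_⟩
      show g * ((g⁻¹ * k * g) * y * (g⁻¹ * k * g)⁻¹) * g⁻¹ = k * (g * y * g⁻¹) * k⁻¹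
      group
    · rintro ⟨y, hy, hye⟩
      have hye' : g * y * g⁻¹ = k * x * k⁻¹ := hye
      refine ⟨g⁻¹ * x * g, (h2 _).2 ?_, ?_⟩
      · have : (g⁻¹ * k * g) * (g⁻¹ * x * g) * (g⁻¹ * k * g)⁻¹ = y := by
          calc (g⁻¹ * k * g) * (g⁻¹ * x * g) * (g⁻¹ * k * g)⁻¹ = g⁻¹ * (k * x * k⁻¹) * g := by group
            _ = g⁻¹ * (g * y * g⁻¹) * g := by rw [hye']
            _ = y := by group
        rw [this]; exact hy
      · show g * (g⁻¹ * x * g) * g⁻¹ = x
        group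

/-- the two "halves" commute -/
theorem comm_of (hd : A ⊓ A' = ⊥) {b s : G} (hb : b ∈ A) (hb' : b ∈ normalizer (A' : Set G))
    (hs : s ∈ A') (hs' : s ∈ normalizer (A : Set G)) : b * s = s * b := by
  have h1 : b * s * b⁻¹ * s⁻¹ ∈ A ⊓ A' := by
    constructor
    · have h2 := (Subgroup.mem_normalizer_iff.1 hs' b⁻¹).1 (A.inv_mem hb)
      have h3 := A.mul_mem hb h2
      have : b * s * b⁻¹ * s⁻¹ = b * (s * b⁻¹ * s⁻¹) := by group
      rw [this]; exact h3
    · exact A'.mul_mem ((Subgroup.mem_normalizer_iff.1 hb' s).1 hs) (A'.inv_mem hs)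
  rw [hd, Subgroup.mem_bot] at h1
  have h2 : b * s = (b * s * b⁻¹ * s⁻¹) * (s * b) := by group
  rw [h2, h1, one_mul]

theorem mem_of_comm (h' : TI A') {a s : G} (hs : s ∈ A') (hs1 : s ≠ 1) (e : a * s = s * a) :
    a ∈ normalizer (A' : Set G) := by
  apply h'.ti s hs hs1
  rw [e]
  have : s * a * a⁻¹ = s := by group
  rw [this]; exact hs

/-- if `s` is an involution normalising `A` then `[a, s]` commutes with `s` -/
theorem comm_comm (h : TI A) {a s : G} (ha : a ∈ A) (hs : s ∈ normalizer (A : Set G))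
    (hss : s * s = 1) : (a * (s * a * s⁻¹)) * s = s * (a * (s * a * s⁻¹)) := by
  have hsi : s⁻¹ = s := inv_eq_of_mul_eq_one_left hss
  have h1 : s * a * s⁻¹ ∈ A := (Subgroup.mem_normalizer_iff.1 hs a).1 ha
  calc (a * (s * a * s⁻¹)) * s = a * s * a := by group
    _ = (s * s) * a * s⁻¹ * a := by rw [hss, hsi]; group
    _ = s * ((s * a * s⁻¹) * a) := by group
    _ = s * (a * (s * a * s⁻¹)) := by rw [h.comm h1 ha]

theorem card_le [Finite G] (h : TI A) (h' : TI A') {a : G} (ha : a ∈ A)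
    (ha' : a ∉ normalizer (A' : Set G)) :
    Nat.card (A' ⊓ normalizer (A : Set G) : Subgroup G) ≤
      Nat.card (A ⊓ normalizer (A' : Set G) : Subgroup G) := by
  have hmem : ∀ s : (A' ⊓ normalizer (A : Set G) : Subgroup G),
      a * ((s : G) * a * (s : G)⁻¹) ∈ A ⊓ normalizer (A' : Set G) := by
    rintro ⟨s, hs1, hs2⟩
    have h1 : s * a * s⁻¹ ∈ A := (Subgroup.mem_normalizer_iff.1 hs2 a).1 ha
    refine ⟨A.mul_mem ha h1, ?_⟩
    by_cases hs : s = 1
    · subst hs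
      have : a * (1 * a * 1⁻¹) = 1 := by
        rw [one_mul, inv_one, mul_one, h.sq a ha]
      show a * (1 * a * 1⁻¹) ∈ normalizer (A' : Set G)
      rw [this]; exact Subgroup.one_mem _
    · exact mem_of_comm h' hs1 hs (comm_comm h ha hs2 (h'.sq s hs1))
  refine Nat.card_le_card_of_injective (fun s => (⟨_, hmem s⟩ :
    (A ⊓ normalizer (A' : Set G) : Subgroup G))) ?_
  rintro ⟨s, hs1, hs2⟩ ⟨r, hr1, hr2⟩ e
  have e1 : a * (s * a * s⁻¹) = a * (r * a * r⁻¹) := congrArg Subtype.val e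
  have e2 : s * a * s⁻¹ = r * a * r⁻¹ := mul_left_cancel e1
  apply Subtype.ext
  show s = r
  by_contra hne
  apply ha'
  have hri : r⁻¹ * s ∈ A' := A'.mul_mem (A'.inv_mem hr1) hs1
  refine mem_of_comm h' hri ?_ ?_
  · intro h1
    exact hne (by rw [← mul_one r, ← h1]; group)
  · calc a * (r⁻¹ * s) = r⁻¹ * (r * a * r⁻¹) * s := by group
      _ = r⁻¹ * (s * a * s⁻¹) * s := by rw [e2]
      _ = r⁻¹ * s * a := by group

/-- surjectivity of commutation -/
theorem exists_comm [Finite G] (h : TI A) (h' : TI A') {a b₀ : G} (ha : a ∈ A)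
    (ha' : a ∉ normalizer (A' : Set G)) (hb : b₀ ∈ A) (hb' : b₀ ∈ normalizer (A' : Set G))
    {a' : G} (ha1 : a' ∈ A') (ha2 : a' ∉ normalizer (A : Set G)) :
    ∃ s ∈ A', s ∈ normalizer (A : Set G) ∧ a * (s * a * s⁻¹) = b₀ := by
  have hmem : ∀ s : (A' ⊓ normalizer (A : Set G) : Subgroup G),
      a * ((s : G) * a * (s : G)⁻¹) ∈ A ⊓ normalizer (A' : Set G) := by
    rintro ⟨s, hs1, hs2⟩
    have h1 : s * a * s⁻¹ ∈ A := (Subgroup.mem_normalizer_iff.1 hs2 a).1 ha
    refine ⟨A.mul_mem ha h1, ?_⟩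
    by_cases hs : s = 1
    · subst hs
      have : a * (1 * a * 1⁻¹) = 1 := by
        rw [one_mul, inv_one, mul_one, h.sq a ha]
      show a * (1 * a * 1⁻¹) ∈ normalizer (A' : Set G)
      rw [this]; exact Subgroup.one_mem _
    · exact mem_of_comm h' hs1 hs (comm_comm h ha hs2 (h'.sq s hs1))
  let f : (A' ⊓ normalizer (A : Set G) : Subgroup G) → (A ⊓ normalizer (A' : Set G) : Subgroup G) :=
    fun s => ⟨_, hmem s⟩
  have hinj : Function.Injective f := by
    rintro ⟨s, hs1, hs2⟩ ⟨r, hr1, hr2⟩ e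
    have e1 : a * (s * a * s⁻¹) = a * (r * a * r⁻¹) := congrArg Subtype.val e
    have e2 : s * a * s⁻¹ = r * a * r⁻¹ := mul_left_cancel e1
    apply Subtype.ext
    show s = r
    by_contra hne
    apply ha'
    have hri : r⁻¹ * s ∈ A' := A'.mul_mem (A'.inv_mem hr1) hs1
    refine mem_of_comm h' hri ?_ ?_
    · intro h1
      exact hne (by rw [← mul_one r, ← h1]; group)
    · calc a * (r⁻¹ * s) = r⁻¹ * (r * a * r⁻¹) * s := by group
        _ = r⁻¹ * (s * a * s⁻¹) * s := by rw [e2]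
        _ = r⁻¹ * s * a := by group
  have hcard : Nat.card (A' ⊓ normalizer (A : Set G) : Subgroup G) =
      Nat.card (A ⊓ normalizer (A' : Set G) : Subgroup G) :=
    le_antisymm (card_le h h' ha ha') (card_le h' h ha1 ha2)
  have hbij := (Nat.bijective_iff_injective_and_card f).2 ⟨hinj, hcard⟩
  obtain ⟨⟨s, hs1, hs2⟩, hs⟩ := hbij.2 ⟨b₀, hb, hb'⟩
  exact ⟨s, hs1, hs2, congrArg Subtype.val hs⟩

end Pair

/-! ### coordinates -/

section Coord

variable {G : Type*} [Group G]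

/-- additive coordinates of an abelian subgroup -/
structure Coord (V : Type*) [AddCommGroup V] (A : Subgroup G) (E : V → G) : Prop where
  add : ∀ v w, E (v + w) = E v * E w
  inj : Function.Injective E
  mem : ∀ g, g ∈ A ↔ ∃ v, E v = g

theorem exists_coord {G : Type u} [Group G] {A : Subgroup G} (h : TI A) :
    ∃ (V : Type u) (_ : AddCommGroup V) (_ : Module (ZMod 2) V) (E : V → G), Coord V A E := by
  let inst : CommGroup A :=
    { (inferInstance : Group A) with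
      mul_comm := fun a b => Subtype.ext (h.comm a.2 b.2) }
  refine ⟨Additive A, inferInstance, AddCommGroup.zmodModule (n := 2) ?_,
    fun v => ((Additive.toMul v : A) : G), ?_, ?_, ?_⟩
  · intro x
    have h1 : (Additive.toMul x) ^ 2 = 1 := by
      rw [pow_two]; exact Subtype.ext (h.sq _ (Additive.toMul x).2)
    exact h1
  · intro v w; rfl
  · intro v w hvw
    exact Additive.toMul.injective (Subtype.ext hvw)
  · intro g
    constructor
    · intro hg; exact ⟨Additive.ofMul ⟨g, hg⟩, rfl⟩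
    · rintro ⟨v, rfl⟩; exact (Additive.toMul v).2

variable {A : Subgroup G} {V : Type*} [AddCommGroup V] {E : V → G}

theorem Coord.zero (h : Coord V A E) : E 0 = 1 := by
  have h1 := h.add 0 0
  rw [add_zero] at h1
  exact (mul_eq_left.1 h1.symm)

theorem Coord.mem_E (h : Coord V A E) (v : V) : E v ∈ A := (h.mem _).2 ⟨v, rfl⟩

theorem Coord.eq_one (h : Coord V A E) {v : V} : E v = 1 ↔ v = 0 := by
  constructor
  · intro e; exact h.inj (e.trans h.zero.symm)
  · rintro rfl; exact h.zero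

variable [Module (ZMod 2) V]

theorem add_self (v : V) : v + v = 0 := by
  have h1 : (2 : ZMod 2) • v = 0 := by
    rw [show (2 : ZMod 2) = 0 from rfl, zero_smul]
  rwa [two_smul] at h1

theorem smul_cases (k : ZMod 2) (v : V) : k • v = 0 ∨ k • v = v := by
  have h : ∀ k : ZMod 2, k = 0 ∨ k = 1 := by decide
  rcases h k with rfl | rfl
  · left; rw [zero_smul]
  · right; rw [one_smul]

/-- `x` acts by `L` -/
def Act (E : V → G) (x : G) (L : V →ₗ[ZMod 2] V) : Prop := ∀ v, x * E v * x⁻¹ = E (L v)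

theorem Coord.lin (h : Coord V A E) {x : G} (hx : x ∈ normalizer (A : Set G)) :
    ∃ L : V →ₗ[ZMod 2] V, Act E x L := by
  have h1 : ∀ v, ∃ w, E w = x * E v * x⁻¹ := fun v =>
    (h.mem _).1 ((Subgroup.mem_normalizer_iff.1 hx _).1 (h.mem_E v))
  choose f hf using h1
  let F : V →+ V :=
    { toFun := f
      map_zero' := by
        apply h.inj
        rw [hf, h.zero]; group
      map_add' := by
        intro v w
        apply h.inj
        rw [hf, h.add, h.add, hf, hf]; group }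
  exact ⟨F.toZModLinearMap 2, fun v => (hf v).symm⟩

theorem Act.mul {x y : G} {L M : V →ₗ[ZMod 2] V} (hx : Act E x L) (hy : Act E y M) :
    Act E (x * y) (L ∘ₗ M) := by
  intro v
  rw [LinearMap.comp_apply, ← hx, ← hy]; group

theorem Act.inv {x : G} {L : V →ₗ[ZMod 2] V} (hx : Act E x L)
    (hL : ∀ v, L (L v) = v) : Act E x⁻¹ L := by
  intro v
  have h1 := hx (L v)
  rw [hL] at h1
  rw [← h1]; group

theorem Act.congr {x : G} {L M : V →ₗ[ZMod 2] V} (hx : Act E x L) (hL : ∀ v, L v = M v) :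
    Act E x M := fun v => by rw [← hL]; exact hx v

theorem Coord.act_mem (h : Coord V A E) {x : G} {L : V →ₗ[ZMod 2] V} (hx : Act E x L)
    (hL : ∀ v, L (L v) = v) : x ∈ normalizer (A : Set G) := by
  rw [Subgroup.mem_normalizer_iff]
  intro g
  constructor
  · intro hg
    obtain ⟨v, rfl⟩ := (h.mem g).1 hg
    rw [hx]; exact h.mem_E _
  · intro hg
    obtain ⟨v, hv⟩ := (h.mem _).1 hg
    have h1 : g = E (L v) := by
      have h2 := Act.inv hx hL v
      rw [hv] at h2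
      rw [← h2]; group
    rw [h1]; exact h.mem_E _

theorem Coord.lift (h : Coord V A E)
    (aut : ∀ σ : MulAut A, ∃ x : G, ∀ a : A, x * a * x⁻¹ = ((σ a : A) : G))
    (L : V →ₗ[ZMod 2] V) (hL : ∀ v, L (L v) = v) : ∃ x : G, Act E x L := by
  let ε : V ≃ A := Equiv.ofBijective (fun v => (⟨E v, h.mem_E v⟩ : A))
    ⟨fun v w e => h.inj (congrArg Subtype.val e), fun a => by
      obtain ⟨v, hv⟩ := (h.mem a).1 a.2
      exact ⟨v, Subtype.ext hv⟩⟩
  have hε : ∀ v w, ε (v + w) = ε v * ε w := fun v w => Subtype.ext (h.add v w)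
  have hε' : ∀ a b, ε.symm (a * b) = ε.symm a + ε.symm b := by
    intro a b
    apply ε.injective
    rw [hε, Equiv.apply_symm_apply, Equiv.apply_symm_apply, Equiv.apply_symm_apply]
  let σ : MulAut A :=
    { toFun := fun a => ε (L (ε.symm a))
      invFun := fun a => ε (L (ε.symm a))
      left_inv := by
        intro a
        simp only [Equiv.symm_apply_apply, hL, Equiv.apply_symm_apply]
      right_inv := by
        intro a
        simp only [Equiv.symm_apply_apply, hL, Equiv.apply_symm_apply]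
      map_mul' := by
        intro a b
        show ε (L (ε.symm (a * b))) = ε (L (ε.symm a)) * ε (L (ε.symm b))
        rw [hε', map_add, hε] }
  obtain ⟨x, hx⟩ := aut σ
  refine ⟨x, fun v => ?_⟩
  have h1 := hx (ε v)
  have h2 : σ (ε v) = ε (L v) := by
    show ε (L (ε.symm (ε v))) = ε (L v)
    rw [Equiv.symm_apply_apply]
  rw [h2] at h1
  exact h1

end Coord


/-! ### linear algebra over the field with two elements -/

section Lin

variable {V : Type*} [AddCommGroup V] [Module (ZMod 2) V]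

theorem exists_fun (p : Submodule (ZMod 2) V) {v : V} (hv : v ∉ p) :
    ∃ f : V →ₗ[ZMod 2] ZMod 2, f v = 1 ∧ ∀ x ∈ p, f x = 0 := by
  obtain ⟨f, h1, h2⟩ := Submodule.exists_le_ker_of_notMem hv
  refine ⟨f, ?_, fun x hx => h2 hx⟩
  have h : ∀ k : ZMod 2, k ≠ 0 → k = 1 := by decide
  exact h _ h1

/-- `x ↦ x + ψ (τ x) a + ψ x (τ a)` -/
def gmap (τ : V →ₗ[ZMod 2] V) (a : V) (ψ : V →ₗ[ZMod 2] ZMod 2) : V →ₗ[ZMod 2] V :=
  LinearMap.id + (ψ.comp τ).smulRight a + ψ.smulRight (τ a)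

theorem gmap_apply (τ : V →ₗ[ZMod 2] V) (a : V) (ψ : V →ₗ[ZMod 2] ZMod 2) (x : V) :
    gmap τ a ψ x = x + ψ (τ x) • a + ψ x • τ a := rfl

/-- `x ↦ x + φ x w` -/
def umap (φ : V →ₗ[ZMod 2] ZMod 2) (w : V) : V →ₗ[ZMod 2] V :=
  LinearMap.id + φ.smulRight w

theorem umap_apply (φ : V →ₗ[ZMod 2] ZMod 2) (w : V) (x : V) :
    umap φ w x = x + φ x • w := rfl

theorem gmap_sq {τ : V →ₗ[ZMod 2] V} (hτ : ∀ x, τ (τ x) = 0) {a : V}
    {ψ : V →ₗ[ZMod 2] ZMod 2} (h1 : ψ (τ a) = 0) (h2 : ψ a = 0) (x : V) :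
    gmap τ a ψ (gmap τ a ψ x) = x := by
  rw [gmap_apply τ a ψ (gmap τ a ψ x)]
  have e1 : ψ (gmap τ a ψ x) = ψ x := by
    rw [gmap_apply, map_add, map_add, map_smul, map_smul, h1, h2, smul_zero, smul_zero,
      add_zero, add_zero]
  have e0 : τ (gmap τ a ψ x) = τ x + ψ (τ x) • τ a := by
    rw [gmap_apply]
    simp only [map_add, map_smul, hτ, smul_zero, add_zero]
  have e2 : ψ (τ (gmap τ a ψ x)) = ψ (τ x) := by
    rw [e0, map_add, map_smul, h1, smul_zero, add_zero]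
  rw [e1, e2, gmap_apply]
  have e3 := add_self (ψ (τ x) • a)
  have e4 := add_self (ψ x • τ a)
  calc x + ψ (τ x) • a + ψ x • τ a + ψ (τ x) • a + ψ x • τ a
      = x + (ψ (τ x) • a + ψ (τ x) • a) + (ψ x • τ a + ψ x • τ a) := by abel
    _ = x := by rw [e3, e4, add_zero, add_zero]

theorem gmap_comm {τ : V →ₗ[ZMod 2] V} (hτ : ∀ x, τ (τ x) = 0) (a : V)
    (ψ : V →ₗ[ZMod 2] ZMod 2) (x : V) : gmap τ a ψ (τ x) = τ (gmap τ a ψ x) := by
  rw [gmap_apply, gmap_apply, map_add, map_add, map_smul, map_smul, hτ, hτ, map_zero, zero_smul,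
    smul_zero]
  abel

theorem umap_sq {φ : V →ₗ[ZMod 2] ZMod 2} {w : V} (h : φ w = 0) (x : V) :
    umap φ w (umap φ w x) = x := by
  rw [umap_apply, umap_apply, map_add, map_smul, h, smul_zero, add_zero]
  rw [add_assoc, add_self, add_zero]

theorem umap_comm {τ : V →ₗ[ZMod 2] V} {φ : V →ₗ[ZMod 2] ZMod 2} {w : V} (h : ∀ x, φ (τ x) = 0)
    (hw : τ w = 0) (x : V) : umap φ w (τ x) = τ (umap φ w x) := by
  rw [umap_apply, umap_apply, map_add, map_smul, hw, h, zero_smul, smul_zero]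

/-- `g u' g u' = u` -/
theorem gmap_umap {τ : V →ₗ[ZMod 2] V} (hτ : ∀ x, τ (τ x) = 0) {a w' : V}
    {ψ φ : V →ₗ[ZMod 2] ZMod 2} (h1 : ψ (τ a) = 0) (h2 : ψ a = 0) (hw' : τ w' = 0)
    (hψ : ψ w' = 1) (hφ : ∀ x, φ (τ x) = 0) (ha : φ a = 0) (hφw : φ w' = 0) (x : V) :
    gmap τ a ψ (umap φ w' (gmap τ a ψ (umap φ w' x))) = umap φ (τ a) x := by
  have e1 : gmap τ a ψ w' = w' + τ a := by
    rw [gmap_apply, hw', map_zero, zero_smul, hψ, one_smul, add_zero]
  have e2 : φ (gmap τ a ψ x) = φ x := by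
    rw [gmap_apply, map_add, map_add, map_smul, map_smul, ha, hφ, smul_zero, smul_zero,
      add_zero, add_zero]
  have e3 : gmap τ a ψ (umap φ w' x) = gmap τ a ψ x + φ x • (w' + τ a) := by
    rw [umap_apply, map_add, map_smul, e1]
  have e4 : umap φ w' (gmap τ a ψ (umap φ w' x)) = gmap τ a ψ x + φ x • τ a := by
    rw [e3, umap_apply, map_add, e2, map_smul, map_add, hφw, hφ, add_zero, smul_zero, add_zero,
      smul_add]
    have e5 := add_self (φ x • w')
    calc gmap τ a ψ x + (φ x • w' + φ x • τ a) + φ x • w'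
        = gmap τ a ψ x + φ x • τ a + (φ x • w' + φ x • w') := by abel
      _ = _ := by rw [e5, add_zero]
  have e6 : gmap τ a ψ (τ a) = τ a := by
    rw [gmap_comm hτ]
    rw [gmap_apply, map_add, map_add, map_smul, map_smul, h1, h2, zero_smul, zero_smul, add_zero,
      add_zero]
  rw [e4, map_add, map_smul, e6, gmap_sq hτ h1 h2, umap_apply]

theorem gmap_ker {τ : V →ₗ[ZMod 2] V} (a : V)
    (ψ : V →ₗ[ZMod 2] ZMod 2) {x : V} (hx : τ x = 0) : ∃ y, gmap τ a ψ x = x + τ y := by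
  refine ⟨ψ x • a, ?_⟩
  rw [gmap_apply, hx, map_zero, zero_smul, add_zero, map_smul]

theorem umap_ker {τ : V →ₗ[ZMod 2] V} (φ : V →ₗ[ZMod 2] ZMod 2) {w' x' : V} (hw' : τ x' = w')
    (x : V) : ∃ y, umap φ w' x = x + τ y := by
  refine ⟨φ x • x', ?_⟩
  rw [umap_apply, map_smul, hw']

end Lin

/-! ### the cocycle -/

section Cocycle

variable {G : Type*} [Group G] {A : Subgroup G} {V : Type*} [AddCommGroup V] [Module (ZMod 2) V]
  {E : V → G} {t : G} {L : V →ₗ[ZMod 2] V}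

theorem exists_f (h : Coord V A E) (hA : TI A) (hL : Act E t L) (htt : t * t = 1)
    {x : G} {X : V →ₗ[ZMod 2] V} (hx : Act E x X) (hX : ∀ v, X (X v) = v)
    (hLL : ∀ v, L (L v) = v) (hcomm : ∀ v, X (L v) = L (X v)) :
    ∃ f : V, x * t * x⁻¹ = E f * t ∧ f + L f = 0 := by
  have hti : t⁻¹ = t := inv_eq_of_mul_eq_one_left htt
  have hxi := Act.inv hx hX
  have h1 : Act E (x * t * x⁻¹ * t) (((X ∘ₗ L) ∘ₗ X) ∘ₗ L) :=
    Act.mul (Act.mul (Act.mul hx hL) hxi) hL
  have h2 : x * t * x⁻¹ * t ∈ A := by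
    apply hA.cent
    intro y hy
    obtain ⟨v, rfl⟩ := (h.mem y).1 hy
    have h3 := h1 v
    have h4 : (((X ∘ₗ L) ∘ₗ X) ∘ₗ L) v = v := by
      show X (L (X (L v))) = v
      rw [hcomm v, hLL, hX]
    rw [h4] at h3
    calc x * t * x⁻¹ * t * E v = (x * t * x⁻¹ * t * E v * (x * t * x⁻¹ * t)⁻¹) *
          (x * t * x⁻¹ * t) := by group
      _ = _ := by rw [h3]
  obtain ⟨f, hf⟩ := (h.mem _).1 h2
  have h5 : x * t * x⁻¹ = E f * t := by
    rw [hf]
    calc x * t * x⁻¹ = x * t * x⁻¹ * (t * t) := by rw [htt, mul_one]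
      _ = _ := by group
  refine ⟨f, h5, ?_⟩
  rw [← h.eq_one, h.add]
  have h6 : t * E f * t⁻¹ = E (L f) := hL f
  rw [← h6, hti]
  calc E f * (t * E f * t) = (E f * t) * (E f * t) := by group
    _ = (x * t * x⁻¹) * (x * t * x⁻¹) := by rw [h5]
    _ = x * (t * t) * x⁻¹ := by group
    _ = 1 := by rw [htt]; group

theorem coc_mul (h : Coord V A E) {x y : G} {X : V →ₗ[ZMod 2] V} (hx : Act E x X) {f f' : V}
    (e : x * t * x⁻¹ = E f * t) (e' : y * t * y⁻¹ = E f' * t) :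
    x * y * t * (x * y)⁻¹ = E (X f' + f) * t := by
  rw [h.add, ← hx f']
  calc x * y * t * (x * y)⁻¹ = x * (y * t * y⁻¹) * x⁻¹ := by group
    _ = x * (E f' * t) * x⁻¹ := by rw [e']
    _ = x * E f' * x⁻¹ * (x * t * x⁻¹) := by group
    _ = x * E f' * x⁻¹ * (E f * t) := by rw [e]
    _ = _ := by group

theorem coc_inv (h : Coord V A E) (hA : TI A) {x : G} {X : V →ₗ[ZMod 2] V} (hx : Act E x X)
    (hX : ∀ v, X (X v) = v) {f : V} (e : x * t * x⁻¹ = E f * t) :
    x⁻¹ * t * x⁻¹⁻¹ = E (X f) * t := by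
  have h1 := Act.inv hx hX f
  rw [inv_inv] at h1 ⊢
  rw [← h1]
  have h2 : E f * E f = 1 := hA.sq _ (h.mem_E f)
  calc x⁻¹ * t * x = x⁻¹ * ((E f * E f) * t) * x := by rw [h2]; group
    _ = x⁻¹ * E f * (E f * t) * x := by group
    _ = x⁻¹ * E f * (x * t * x⁻¹) * x := by rw [e]
    _ = x⁻¹ * E f * x * t := by group

theorem fix_up (h : Coord V A E) (hA : TI A) (hL : Act E t L) {x : G} {a : V}
    (e : x * t * x⁻¹ = E (a + L a) * t) : (E a * x) * t = t * (E a * x) := by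
  have h2 : E a * E a = 1 := hA.sq _ (h.mem_E a)
  calc (E a * x) * t = E a * (x * t * x⁻¹) * x := by group
    _ = E a * (E (a + L a) * t) * x := by rw [e]
    _ = E a * (E a * E (L a) * t) * x := by rw [h.add]
    _ = (E a * E a) * E (L a) * t * x := by group
    _ = (t * E a * t⁻¹) * t * x := by rw [h2, one_mul, hL a]
    _ = t * (E a * x) := by group

end Cocycle


/-! ### the theorem -/

section Main

variable {G : Type*} [Group G] {A A' : Subgroup G}

/-- the data: `t ∈ A'` normalises `A` -/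
structure Conf (V : Type*) [AddCommGroup V] [Module (ZMod 2) V] (A A' : Subgroup G) (E : V → G)
    (t : G) (L : V →ₗ[ZMod 2] V) : Prop where
  co : Coord V A E
  ti : TI A
  ti' : TI A'
  disj : A ⊓ A' = ⊥
  ht : t ∈ A'
  ht1 : t ≠ 1
  act : Act E t L

variable {V : Type*} [AddCommGroup V] [Module (ZMod 2) V] {E : V → G} {t : G}
  {L : V →ₗ[ZMod 2] V}

theorem Act.sq (h : Coord V A E) {s : G} {T : V →ₗ[ZMod 2] V} (hs : Act E s T) (hss : s * s = 1)
    (v : V) : T (T v) = v := by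
  apply h.inj
  rw [← hs, ← hs]
  have hsi : s⁻¹ = s := inv_eq_of_mul_eq_one_left hss
  rw [hsi]
  calc s * (s * E v * s) * s = (s * s) * E v * (s * s) := by group
    _ = E v := by rw [hss]; group

theorem Conf.tt (c : Conf V A A' E t L) : t * t = 1 := c.ti'.sq t c.ht

theorem Conf.LL (c : Conf V A A' E t L) (v : V) : L (L v) = v := Act.sq c.co c.act c.tt v

theorem Conf.t_mem (c : Conf V A A' E t L) : t ∈ normalizer (A : Set G) :=
  c.co.act_mem c.act c.LL

theorem sub_zero_iff (x y : V) : x + y = 0 ↔ y = x := by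
  constructor
  · intro e
    have h1 : x + y + x = x := by rw [e, zero_add]
    calc y = (x + x) + y := by rw [add_self, zero_add]
      _ = x + y + x := by abel
      _ = x := h1
  · rintro rfl
    exact add_self y

/-- the same kernel for all elements of `A' ∩ N(A)` -/
theorem Conf.ker (c : Conf V A A' E t L) {s : G} (hs : s ∈ A') (hs1 : s ≠ 1)
    {T : V →ₗ[ZMod 2] V} (hT : Act E s T) (v : V) :
    T v = v ↔ E v ∈ normalizer (A' : Set G) := by
  constructor
  · intro e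
    apply mem_of_comm c.ti' hs hs1
    have h1 := hT v
    rw [e] at h1
    calc E v * s = (s * E v * s⁻¹) * s := by rw [h1]
      _ = s * E v := by group
  · intro e
    have h1 := comm_of c.disj (c.co.mem_E v) e hs
      (c.co.act_mem hT (Act.sq c.co hT (c.ti'.sq s hs)))
    apply c.co.inj
    rw [← hT]
    rw [← h1]; group

/-- commutation is onto the kernel -/
theorem Conf.onto [Finite G] (c : Conf V A A' E t L) {a b : V} (ha : L a ≠ a) (hb : L b = b)
    (hcard : Nat.card A' = Nat.card A) :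
    ∃ s ∈ A', ∃ T : V →ₗ[ZMod 2] V, Act E s T ∧ a + T a = b := by
  have ha' : E a ∉ normalizer (A' : Set G) := fun h => ha ((c.ker c.ht c.ht1 c.act a).2 h)
  have hb' : E b ∈ normalizer (A' : Set G) := (c.ker c.ht c.ht1 c.act b).1 hb
  have h1 : ∃ a' ∈ A', a' ∉ normalizer (A : Set G) := by
    by_contra hcon
    push Not at hcon
    have h2 := card_le c.ti c.ti' (c.co.mem_E a) ha'
    have h3 : A' ⊓ normalizer (A : Set G) = A' := inf_eq_left.2 hcon
    rw [h3, hcard] at h2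
    have h4 : A ⊓ normalizer (A' : Set G) = A := by
      have h5 := Subgroup.eq_of_le_of_card_ge (inf_le_left (a := A)
        (b := normalizer (A' : Set G))) h2
      exact h5
    apply ha'
    have h6 : E a ∈ A ⊓ normalizer (A' : Set G) := by rw [h4]; exact c.co.mem_E a
    exact h6.2
  obtain ⟨a', ha1, ha2⟩ := h1
  obtain ⟨s, hs, hsn, e⟩ := exists_comm c.ti c.ti' (c.co.mem_E a) ha' (c.co.mem_E b) hb' ha1 ha2
  obtain ⟨T, hT⟩ := c.co.lin hsn
  refine ⟨s, hs, T, hT, ?_⟩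
  apply c.co.inj
  rw [c.co.add, ← hT]; exact e

/-- `[c', s]` for `c'` commuting with `t` -/
theorem Conf.bracket (c : Conf V A A' E t L) {x : G} (hx : x * t = t * x)
    {X : V →ₗ[ZMod 2] V} (hX : Act E x X) (hXX : ∀ v, X (X v) = v) {s : G} (hs : s ∈ A')
    {T : V →ₗ[ZMod 2] V} (hT : Act E s T) :
    x * s * x⁻¹ * s ∈ A' ∧ Act E (x * s * x⁻¹ * s) (((X ∘ₗ T) ∘ₗ X) ∘ₗ T) := by
  refine ⟨?_, Act.mul (Act.mul (Act.mul hX hT) (Act.inv hX hXX)) hT⟩
  have h1 : x ∈ normalizer (A' : Set G) := mem_of_comm c.ti' c.ht c.ht1 hx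
  exact A'.mul_mem ((Subgroup.mem_normalizer_iff.1 h1 s).1 hs) hs


/-- the common choices in both cases -/
theorem Conf.choice (c : Conf V A A' E t L)
    (rank : ∀ e ∈ A', e ≠ 1 → ∀ T : V →ₗ[ZMod 2] V, Act E e T →
      ∀ w, ¬ ∀ v, v + T v = 0 ∨ v + T v = w) :
    ∃ (τ : V →ₗ[ZMod 2] V) (a x' : V) (ψ : V →ₗ[ZMod 2] ZMod 2), (∀ x, τ x = x + L x) ∧
      (∀ x, τ (τ x) = 0) ∧ τ a ≠ 0 ∧ ψ (τ a) = 0 ∧ ψ a = 0 ∧ ψ (τ x') = 1 := by
  let τ : V →ₗ[ZMod 2] V := LinearMap.id + L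
  have hτ : ∀ x, τ x = x + L x := fun x => rfl
  have hτ2 : ∀ x, τ (τ x) = 0 := by
    intro x
    rw [hτ (τ x), hτ x, map_add, c.LL]
    calc x + L x + (L x + x) = (x + x) + (L x + L x) := by abel
      _ = 0 := by rw [add_self, add_self, add_zero]
  have h1 := rank t c.ht c.ht1 L c.act 0
  push Not at h1
  obtain ⟨a, ha, -⟩ := h1
  have h2 := rank t c.ht c.ht1 L c.act (τ a)
  push Not at h2
  obtain ⟨x', hx1, hx2⟩ := h2
  have hp : τ x' ∉ Submodule.span (ZMod 2) {τ a, a} := by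
    intro hcon
    obtain ⟨k, l, e⟩ := Submodule.mem_span_pair.1 hcon
    have e1 : l • τ a = 0 := by
      have e2 := congrArg τ e
      rw [map_add, map_smul, map_smul, hτ2, hτ2, smul_zero, zero_add] at e2
      exact e2
    have hl : l = 0 := by
      have h : ∀ l : ZMod 2, l = 0 ∨ l = 1 := by decide
      rcases h l with h | h
      · exact h
      · rw [h, one_smul] at e1
        exact absurd e1 ha
    rw [hl, zero_smul, add_zero] at e
    rcases smul_cases k (τ a) with h | h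
    · rw [h] at e; exact hx1 e.symm
    · rw [h] at e; exact hx2 e.symm
  obtain ⟨ψ, hψ1, hψ2⟩ := exists_fun _ hp
  exact ⟨τ, a, x', ψ, hτ, hτ2, ha, hψ2 _ (Submodule.mem_span_of_mem (by simp)),
    hψ2 _ (Submodule.mem_span_of_mem (by simp)), hψ1⟩

/-- Case I is impossible -/
theorem Conf.case_one [Finite G] (c : Conf V A A' E t L) (hcard : Nat.card A' = Nat.card A)
    (aut : ∀ σ : MulAut A, ∃ x : G, ∀ a : A, x * a * x⁻¹ = ((σ a : A) : G))
    (rank : ∀ e ∈ A', e ≠ 1 → ∀ T : V →ₗ[ZMod 2] V, Act E e T →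
      ∀ w, ¬ ∀ v, v + T v = 0 ∨ v + T v = w) (b : V) (hb : L b = b) : ∃ x, x + L x = b := by
  by_contra hcon
  push Not at hcon
  obtain ⟨τ, a, x', ψ, hτ, hτ2, ha, hψw, hψa, hψ⟩ := c.choice rank
  have hker : ∀ x, τ x = 0 ↔ L x = x := fun x => by rw [hτ, sub_zero_iff]
  have hLτ : ∀ x, L x = x + τ x := by
    intro x
    rw [hτ, ← add_assoc, add_self, zero_add]
  have ha' : L a ≠ a := fun h => ha ((hker a).2 h)
  obtain ⟨s, hs, T, hT, hTa⟩ := c.onto ha' hb hcard
  -- the functional `φ`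
  have hp : b ∉ LinearMap.range τ ⊔ Submodule.span (ZMod 2) {a} := by
    intro hcon'
    obtain ⟨y, ⟨x, rfl⟩, z, hz, e⟩ := Submodule.mem_sup.1 hcon'
    obtain ⟨k, rfl⟩ := Submodule.mem_span_singleton.1 hz
    have e1 : k • τ a = 0 := by
      have e2 := congrArg τ e
      rw [map_add, map_smul, hτ2, zero_add, (hker b).2 hb] at e2
      exact e2
    rcases smul_cases k a with h | h
    · rw [h, add_zero] at e
      exact hcon x (by rw [← hτ]; exact e)
    · rw [← map_smul, h] at e1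
      exact ha e1
  obtain ⟨φ, hφb, hφ⟩ := exists_fun _ hp
  have hφτ : ∀ x, φ (τ x) = 0 := fun x => hφ _ (Submodule.mem_sup_left ⟨x, rfl⟩)
  have hφa : φ a = 0 :=
    hφ _ (Submodule.mem_sup_right (Submodule.mem_span_of_mem (by simp)))
  -- the two maps
  set g := gmap τ a ψ with hgdef
  set u' := umap φ (τ x') with hudef
  have hgg : ∀ v, g (g v) = v := gmap_sq hτ2 hψw hψa
  have huu : ∀ v, u' (u' v) = v := umap_sq (hφτ x')
  have hgτ : ∀ v, g (τ v) = τ (g v) := gmap_comm hτ2 a ψ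
  have huτ : ∀ v, u' (τ v) = τ (u' v) := umap_comm hφτ (hτ2 x')
  have hgL : ∀ v, g (L v) = L (g v) := fun v => by rw [hLτ, hLτ, map_add, hgτ]
  have huL : ∀ v, u' (L v) = L (u' v) := fun v => by rw [hLτ, hLτ, map_add, huτ]
  obtain ⟨xg, hxg⟩ := c.co.lift aut g hgg
  obtain ⟨xu, hxu⟩ := c.co.lift aut u' huu
  obtain ⟨q, hq, hq0⟩ := exists_f c.co c.ti c.act c.tt hxg hgg c.LL hgL
  obtain ⟨p, hp1, hp0⟩ := exists_f c.co c.ti c.act c.tt hxu huu c.LL huL
  rw [← hτ] at hq0 hp0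
  -- the commutator
  have e1 := coc_inv c.co c.ti hxg hgg hq
  have e2 := coc_inv c.co c.ti hxu huu hp1
  have e3 := coc_mul c.co (Act.mul (Act.mul hxg hxu) (Act.inv hxg hgg))
    (coc_mul c.co (Act.mul hxg hxu) (coc_mul c.co hxg hq hp1) e1) e2
  have hact := Act.mul (Act.mul (Act.mul hxg hxu) (Act.inv hxg hgg)) (Act.inv hxu huu)
  have hu : ∀ v, g (u' (g (u' v))) = umap φ (τ a) v :=
    gmap_umap hτ2 hψw hψa (hτ2 x') hψ hφτ hφa (hφτ x')
  -- the cocycle value is in the range of `τ`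
  have hmod : ∀ y, τ y = 0 → (∃ z, g y = y + τ z) ∧ ∃ z, u' y = y + τ z := fun y hy =>
    ⟨gmap_ker a ψ hy, umap_ker φ rfl y⟩
  have hval : ∃ a2, g (u' (g (u' p))) + (g (u' (g q)) + (g p + q)) = τ a2 := by
    have hfin : ∀ y, τ y = 0 → ∀ y', (∃ z, y' = y + τ z) → (∃ z, g y' = y + τ z) ∧
        ∃ z, u' y' = y + τ z := by
      rintro y hy _ ⟨z, rfl⟩
      obtain ⟨⟨z1, h1⟩, ⟨z2, h2⟩⟩ := hmod y hy
      refine ⟨⟨z1 + g z, ?_⟩, ⟨z2 + u' z, ?_⟩⟩
      · rw [map_add, h1, hgτ, map_add, add_assoc]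
      · rw [map_add, h2, huτ, map_add, add_assoc]
    have h0 : ∀ y : V, ∃ z, y = y + τ z := fun y => ⟨0, by rw [map_zero, add_zero]⟩
    obtain ⟨z1, h1⟩ := (hfin p hp0 _ (hfin p hp0 _ (hfin p hp0 _ (hfin p hp0 p (h0 p)).2).1).2).1
    obtain ⟨z2, h2⟩ := (hfin q hq0 _ (hfin q hq0 _ (hfin q hq0 q (h0 q)).1).2).1
    obtain ⟨z3, h3⟩ := (hfin p hp0 p (h0 p)).1
    refine ⟨z1 + z2 + z3, ?_⟩
    rw [h1, h2, h3, map_add, map_add]
    calc p + τ z1 + (q + τ z2 + (p + τ z3 + q)) =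
        (p + p) + (q + q) + (τ z1 + τ z2 + τ z3) := by abel
      _ = _ := by rw [add_self, add_self, zero_add, zero_add]
  obtain ⟨a2, ha2⟩ := hval
  set x₀ := xg * xu * xg⁻¹ * xu⁻¹ with hx₀
  have e4 : x₀ * t * x₀⁻¹ = E (a2 + L a2) * t := by
    rw [← hτ, ← ha2]; exact e3
  have hcomm := fix_up c.co c.ti c.act e4
  have hactU : Act E (E a2 * x₀) (umap φ (τ a)) := by
    intro v
    rw [← hu v]
    have h1 : x₀ * E v * x₀⁻¹ = E (g (u' (g (u' v)))) := hact v
    have h2 := c.ti.comm (c.co.mem_E a2) (c.co.mem_E (g (u' (g (u' v)))))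
    calc E a2 * x₀ * E v * (E a2 * x₀)⁻¹ = E a2 * (x₀ * E v * x₀⁻¹) * (E a2)⁻¹ := by group
      _ = E a2 * E (g (u' (g (u' v)))) * (E a2)⁻¹ := by rw [h1]
      _ = E (g (u' (g (u' v)))) * E a2 * (E a2)⁻¹ := by rw [h2]
      _ = _ := by group
  obtain ⟨he, hacte⟩ := c.bracket hcomm hactU (umap_sq (hφτ a)) hs hT
  have hs1 : s ≠ 1 := by
    rintro rfl
    have h1 := hT a
    have h2 : T a = a := c.co.inj (by rw [← h1]; group)
    rw [h2, add_self] at hTa
    exact hcon 0 (by rw [map_zero, add_zero]; exact hTa)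
  have hkerT : ∀ y, T y = y ↔ τ y = 0 := fun y => by
    rw [c.ker hs hs1 hT, hker, c.ker c.ht c.ht1 c.act]
  have hTT : ∀ v, T (T v) = v := Act.sq c.co hT (c.ti'.sq s hs)
  have hTw : T (τ a) = τ a := (hkerT _).2 (hτ2 a)
  have hval : ∀ v, (((umap φ (τ a) ∘ₗ T) ∘ₗ umap φ (τ a)) ∘ₗ T) v = v + φ (v + T v) • τ a := by
    intro v
    show umap φ (τ a) (T (umap φ (τ a) (T v))) = _
    rw [umap_apply φ _ (T v), map_add, map_smul, hTw, hTT, umap_apply, map_add, map_smul, hφτ,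
      smul_zero, add_zero, map_add, add_smul]
    abel
  refine rank _ he ?_ _ hacte (τ a) ?_
  · intro h1
    have h2 := hacte a
    rw [h1, hval, hTa, hφb, one_smul] at h2
    have h3 : E a = E (a + τ a) := by rw [← h2]; group
    have h4 := c.co.inj h3
    exact ha (left_eq_add.1 h4)
  · intro v
    rw [hval, ← add_assoc, add_self, zero_add]
    exact smul_cases _ _

/-- Case II forces `|A| ≤ 16` -/
theorem Conf.case_two [Finite G] [Finite V] (c : Conf V A A' E t L)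
    (hcard : Nat.card A' = Nat.card A)
    (aut : ∀ σ : MulAut A, ∃ x : G, ∀ a : A, x * a * x⁻¹ = ((σ a : A) : G))
    (rank : ∀ e ∈ A', e ≠ 1 → ∀ T : V →ₗ[ZMod 2] V, Act E e T →
      ∀ w, ¬ ∀ v, v + T v = 0 ∨ v + T v = w) : Nat.card V ≤ 16 := by
  obtain ⟨τ, a, x', ψ, hτ, hτ2, ha, hψw, hψa, hψ⟩ := c.choice rank
  have hsurj : ∀ b, τ b = 0 → ∃ x, τ x = b := by
    intro b hb
    rw [hτ, sub_zero_iff] at hb
    obtain ⟨x, hx⟩ := c.case_one hcard aut rank b hb
    exact ⟨x, by rw [hτ]; exact hx⟩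
  have hker : ∀ x, τ x = 0 ↔ L x = x := fun x => by rw [hτ, sub_zero_iff]
  have hLτ : ∀ x, L x = x + τ x := by
    intro x
    rw [hτ, ← add_assoc, add_self, zero_add]
  have ha' : L a ≠ a := fun h => ha ((hker a).2 h)
  obtain ⟨s, hs, T, hT, hTa⟩ := c.onto ha' ((hker _).1 (hτ2 x')) hcard
  set g := gmap τ a ψ with hgdef
  have hgg : ∀ v, g (g v) = v := gmap_sq hτ2 hψw hψa
  have hgτ : ∀ v, g (τ v) = τ (g v) := gmap_comm hτ2 a ψ
  have hgL : ∀ v, g (L v) = L (g v) := fun v => by rw [hLτ, hLτ, map_add, hgτ]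
  obtain ⟨xg, hxg⟩ := c.co.lift aut g hgg
  obtain ⟨q, hq, hq0⟩ := exists_f c.co c.ti c.act c.tt hxg hgg c.LL hgL
  rw [← hτ] at hq0
  obtain ⟨a2, ha2⟩ := hsurj q hq0
  have e4 : xg * t * xg⁻¹ = E (a2 + L a2) * t := by
    rw [← hτ, ha2]; exact hq
  have hcomm := fix_up c.co c.ti c.act e4
  have hactU : Act E (E a2 * xg) g := by
    intro v
    have h2 := c.ti.comm (c.co.mem_E a2) (c.co.mem_E (g v))
    calc E a2 * xg * E v * (E a2 * xg)⁻¹ = E a2 * (xg * E v * xg⁻¹) * (E a2)⁻¹ := by group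
      _ = E a2 * E (g v) * (E a2)⁻¹ := by rw [hxg v]
      _ = E (g v) * E a2 * (E a2)⁻¹ := by rw [h2]
      _ = _ := by group
  obtain ⟨he, hacte⟩ := c.bracket hcomm hactU hgg hs hT
  have hs1 : s ≠ 1 := by
    rintro rfl
    have h1 := hT a
    have h2 : T a = a := c.co.inj (by rw [← h1]; group)
    rw [h2, add_self] at hTa
    rw [← hTa, map_zero] at hψ
    exact absurd hψ (by decide)
  have hkerT : ∀ y, T y = y ↔ τ y = 0 := fun y => by
    rw [c.ker hs hs1 hT, hker, c.ker c.ht c.ht1 c.act]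
  have hTT : ∀ v, T (T v) = v := Act.sq c.co hT (c.ti'.sq s hs)
  have hTw : ∀ y, T (τ y) = τ y := fun y => (hkerT _).2 (hτ2 y)
  have hTv : ∀ v, T v = v + (v + T v) := fun v => by
    rw [← add_assoc, add_self, zero_add]
  have hτN : ∀ v, τ (v + T v) = 0 := by
    intro v
    rw [← hkerT, map_add, hTT, add_comm]
  have hTa' : T a = a + τ x' := by rw [hTv a, hTa]
  have hga : g a = a := by
    rw [hgdef, gmap_apply, hψw, hψa, zero_smul, zero_smul, add_zero, add_zero]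
  have hgx : g (τ x') = τ x' + τ a := by
    rw [hgdef, gmap_apply, hτ2, map_zero, zero_smul, add_zero, hψ, one_smul]
  have hgw : g (τ a) = τ a := by
    rw [hgdef, gmap_apply, hτ2, map_zero, zero_smul, add_zero, hψw, zero_smul, add_zero]
  have hval : ∀ v, (((g ∘ₗ T) ∘ₗ g) ∘ₗ T) v =
      v + (ψ (τ v) • (τ x' + τ a) + ψ (v + T v) • τ a) := by
    intro v
    show g (T (g (T v))) = _
    have h1 : g (T v) = T v + ψ (τ v) • a + ψ (T v) • τ a := by
      rw [hgdef, gmap_apply]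
      have h2 : τ (T v) = τ v := by
        rw [hTv v, map_add, hτN, add_zero]
      rw [h2]
    have h1' : T (g (T v)) = v + ψ (τ v) • (a + τ x') + ψ (T v) • τ a := by
      rw [h1]
      simp only [map_add, map_smul, hTT, hTw, hTa']
    have h1'' : g (T (g (T v))) = g v + ψ (τ v) • (a + (τ x' + τ a)) + ψ (T v) • τ a := by
      rw [h1']
      simp only [map_add, map_smul, hga, hgx, hgw]
    have h3 : g v = v + ψ (τ v) • a + ψ v • τ a := by rw [hgdef, gmap_apply]
    rw [h1'', h3, map_add, add_smul, smul_add (ψ (τ v)) a]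
    have h4 := add_self (ψ (τ v) • a)
    calc v + ψ (τ v) • a + ψ v • τ a + (ψ (τ v) • a + ψ (τ v) • (τ x' + τ a)) +
          ψ (T v) • τ a = v + (ψ (τ v) • a + ψ (τ v) • a) + ψ (τ v) • (τ x' + τ a) +
          ψ v • τ a + ψ (T v) • τ a := by abel
      _ = _ := by rw [h4]; abel
  have hne : E a2 * xg * s * (E a2 * xg)⁻¹ * s ≠ 1 := by
    intro h1
    have h2 := hacte a
    rw [h1, hval, hTa, hψw, hψ, zero_smul, zero_add, one_smul] at h2
    have h3 : E a = E (a + τ a) := by rw [← h2]; group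
    have h4 := c.co.inj h3
    exact ha (left_eq_add.1 h4)
  have hkey : ∀ v, ψ (τ v) = 0 → ψ (v + T v) = 0 → τ v = 0 := by
    intro v h1 h2
    have h3 := hval v
    rw [h1, h2, zero_smul, zero_smul, add_zero, add_zero] at h3
    rw [hker, c.ker c.ht c.ht1 c.act, ← c.ker he hne hacte]
    exact h3
  -- counting
  let cl : V →ₗ[ZMod 2] (ZMod 2 × ZMod 2) := (ψ.comp τ).prod (ψ.comp (LinearMap.id + T))
  have hcl : ∀ v, cl v = 0 → τ v = 0 := by
    intro v hv
    exact hkey v (congrArg Prod.fst hv) (congrArg Prod.snd hv)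
  have hy : ∀ b, ∃ y, τ b = 0 → τ y = b := by
    intro b
    by_cases hb : τ b = 0
    · obtain ⟨y, hy⟩ := hsurj b hb
      exact ⟨y, fun _ => hy⟩
    · exact ⟨0, fun h => absurd h hb⟩
  choose y hy using hy
  have hr : ∀ k : ZMod 2 × ZMod 2, ∃ r : V, (∃ x, cl x = k) → cl r = k := by
    intro k
    by_cases hk : ∃ x, cl x = k
    · obtain ⟨x, hx⟩ := hk
      exact ⟨x, fun _ => hx⟩
    · exact ⟨0, fun h => absurd h hk⟩
  choose r hr using hr
  have hinj : Function.Injective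
      (fun x : V => ((cl x, cl (y (x - r (cl x)))) : (ZMod 2 × ZMod 2) × (ZMod 2 × ZMod 2))) := by
    intro x1 x2 hx
    have h1 : cl x1 = cl x2 := congrArg Prod.fst hx
    have h2 : cl (y (x1 - r (cl x1))) = cl (y (x2 - r (cl x2))) := congrArg Prod.snd hx
    have h3 : ∀ x, τ (x - r (cl x)) = 0 := by
      intro x
      apply hcl
      rw [map_sub, hr _ ⟨x, rfl⟩, sub_self]
    have h4 : τ (y (x1 - r (cl x1)) - y (x2 - r (cl x2))) = 0 := by
      apply hcl
      rw [map_sub, h2, sub_self]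
    rw [map_sub, hy _ (h3 x1), hy _ (h3 x2), h1] at h4
    have h5 : x1 - x2 = 0 := by
      rw [← h4]; abel
    exact sub_eq_zero.1 h5
  have h6 := Nat.card_le_card_of_injective _ hinj
  have h7 : Nat.card ((ZMod 2 × ZMod 2) × (ZMod 2 × ZMod 2)) = 16 := by
    rw [Nat.card_eq_fintype_card]; rfl
  omega

/-- the hypotheses on `A` -/
structure Hyp (A : Subgroup G) (z : G) : Prop where
  ti : TI A
  card : 16 < Nat.card A
  aut : ∀ σ : MulAut A, ∃ x : G, ∀ a : A, x * a * x⁻¹ = ((σ a : A) : G)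
  conj : ∀ a ∈ A, a ≠ 1 → IsConj z a
  rank : ∀ t ∈ normalizer (A : Set G), IsConj z t →
    (∃ v ∈ A, ∀ a ∈ A, a * (t * a * t⁻¹) = 1 ∨ a * (t * a * t⁻¹) = v) → t ∈ A

theorem map_conj_eq {g : G} (hg : g ∈ normalizer (A : Set G)) :
    A.map (MulAut.conj g).toMonoidHom = A := by
  ext x
  constructor
  · rintro ⟨y, hy, rfl⟩
    exact (Subgroup.mem_normalizer_iff.1 hg y).1 hy
  · intro hx
    refine ⟨g⁻¹ * x * g, ?_, ?_⟩
    · rw [SetLike.mem_coe, Subgroup.mem_normalizer_iff.1 hg]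
      have : g * (g⁻¹ * x * g) * g⁻¹ = x := by group
      rw [this]; exact hx
    · show g * (g⁻¹ * x * g) * g⁻¹ = x
      group

/-- **conjugates of `z` normalising `A` are in `A`** -/
theorem Hyp.mem [Finite G] {z t : G} (h : Hyp A z) (ht : t ∈ normalizer (A : Set G))
    (hzt : IsConj z t) : t ∈ A := by
  by_contra htA
  have hA : ∃ a ∈ A, a ≠ 1 := by
    by_contra hcon
    push Not at hcon
    have h1 : A = ⊥ := (Subgroup.eq_bot_iff_forall _).2 hcon
    have h2 := h.card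
    rw [h1, Subgroup.card_bot] at h2
    omega
  obtain ⟨a₀, ha₀, ha₀1⟩ := hA
  obtain ⟨g, hg⟩ := isConj_iff.1 ((h.conj a₀ ha₀ ha₀1).symm.trans hzt)
  have hti' : TI (A.map (MulAut.conj g).toMonoidHom) := h.ti.conj g
  have ht' : t ∈ A.map (MulAut.conj g).toMonoidHom := ⟨a₀, ha₀, hg⟩
  have ht1 : t ≠ 1 := by
    rintro rfl
    exact htA (A.one_mem)
  have hdisj : A ⊓ A.map (MulAut.conj g).toMonoidHom = ⊥ := by
    rw [Subgroup.eq_bot_iff_forall]
    rintro x ⟨hx, y, hy, hyx⟩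
    by_contra hx1
    have hyx' : g * y * g⁻¹ = x := hyx
    have hy1 : y ≠ 1 := by
      rintro rfl
      exact hx1 (by rw [← hyx']; group)
    have h1 := h.ti.ti y hy hy1 g (by rw [hyx']; exact hx)
    apply htA
    have h2 := (Subgroup.mem_normalizer_iff.1 h1 a₀).1 ha₀
    rw [hg] at h2; exact h2
  obtain ⟨V, _, _, E, hco⟩ := exists_coord h.ti
  obtain ⟨L, hL⟩ := hco.lin ht
  have hVfin : Finite V := Finite.of_injective E hco.inj
  have c : Conf V A (A.map (MulAut.conj g).toMonoidHom) E t L :=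
    { co := hco, ti := h.ti, ti' := hti', disj := hdisj, ht := ht', ht1 := ht1, act := hL }
  have hcard : Nat.card (A.map (MulAut.conj g).toMonoidHom) = Nat.card A :=
    Subgroup.card_map_of_injective (MulAut.conj g).injective
  have hrank : ∀ e ∈ A.map (MulAut.conj g).toMonoidHom, e ≠ 1 → ∀ T : V →ₗ[ZMod 2] V,
      Act E e T → ∀ w, ¬ ∀ v, v + T v = 0 ∨ v + T v = w := by
    rintro e he he1 T hT w hw
    have hee : e * e = 1 := hti'.sq e he
    have hen : e ∈ normalizer (A : Set G) := hco.act_mem hT (Act.sq hco hT hee)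
    have hze : IsConj z e := by
      obtain ⟨y, hy, hye⟩ := he
      have hye' : g * y * g⁻¹ = e := hye
      have hy1 : y ≠ 1 := by
        rintro rfl
        exact he1 (by rw [← hye']; group)
      exact (h.conj y hy hy1).trans (isConj_iff.2 ⟨g, hye'⟩)
    have heA : e ∈ A := by
      apply h.rank e hen hze
      refine ⟨E w, hco.mem_E w, ?_⟩
      intro a ha
      obtain ⟨v, rfl⟩ := (hco.mem a).1 ha
      rw [hT v, ← hco.add]
      rcases hw v with h1 | h1
      · left; rw [h1, hco.zero]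
      · right; rw [h1]
    have h1 : e ∈ A ⊓ A.map (MulAut.conj g).toMonoidHom := ⟨heA, he⟩
    rw [hdisj, Subgroup.mem_bot] at h1
    exact he1 h1
  have h1 := c.case_two hcard h.aut hrank
  have h2 : Nat.card V = Nat.card A := by
    refine Nat.card_congr (Equiv.ofBijective (fun v => (⟨E v, hco.mem_E v⟩ : A))
      ⟨fun v w e => hco.inj (congrArg Subtype.val e), fun a => ?_⟩)
    obtain ⟨v, hv⟩ := (hco.mem a).1 a.2
    exact ⟨v, Subtype.ext hv⟩
  have h3 := h.card
  omega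

/-- **the closing argument**: such a group is not simple as soon as `N(A)` has an involution
outside `A` (`gold` is Goldschmidt's theorem S1169) -/
theorem Hyp.false_of_involution [Finite G] {z t : G} (h : Hyp A z)
    (gold : ∀ (S : Sylow 2 G) (B : Subgroup G), B ≠ ⊥ → IsMulCommutative B →
      Cfsg.IsStronglyClosed B (S : Subgroup G) →
      IsMulCommutative (S : Subgroup G) ∨ ∃ H : Subgroup G, Cfsg.IsStronglyEmbedded H)
    (ht : t ∈ normalizer (A : Set G)) (htt : t * t = 1) (htA : t ∉ A) : False := by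
  classical
  have hclosed : ∀ a ∈ A, ∀ g : G, g * a * g⁻¹ ∈ normalizer (A : Set G) → g * a * g⁻¹ ∈ A := by
    intro a ha g hg
    by_cases ha1 : a = 1
    · subst ha1
      have : g * 1 * g⁻¹ = 1 := by group
      rw [this]; exact A.one_mem
    · exact h.mem hg ((h.conj a ha ha1).trans (isConj_iff.2 ⟨g, rfl⟩))
  have ht1 : t ≠ 1 := by
    rintro rfl
    exact htA A.one_mem
  have hto : orderOf t = 2 := orderOf_eq_prime (by rw [pow_two]; exact htt) ht1
  -- a Sylow subgroup of `N(A)` containing `t`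
  have hAp : IsPGroup 2 A := by
    intro a
    refine ⟨1, ?_⟩
    rw [pow_one, pow_two]
    exact Subtype.ext (h.ti.sq a a.2)
  have htp : IsPGroup 2 (Subgroup.zpowers (⟨t, ht⟩ : normalizer (A : Set G))) := by
    have h1 : Nat.card (Subgroup.zpowers (⟨t, ht⟩ : normalizer (A : Set G))) = 2 ^ 1 := by
      rw [Nat.card_zpowers, Subgroup.orderOf_mk, hto, pow_one]
    exact IsPGroup.of_card h1
  obtain ⟨P, hP⟩ := htp.exists_le_sylow
  have hAP : A ≤ (P : Subgroup (normalizer (A : Set G))).map (Subgroup.subtype _) := by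
    have hAnorm : (A.subgroupOf (normalizer (A : Set G))).Normal := Subgroup.normal_in_normalizer
    have hAp' : IsPGroup 2 (A.subgroupOf (normalizer (A : Set G))) :=
      hAp.comap_of_injective _ (Subgroup.subtype_injective _)
    have h1 : IsPGroup 2 (P ⊔ A.subgroupOf (normalizer (A : Set G)) :
        Subgroup (normalizer (A : Set G))) := IsPGroup.to_sup_of_normal_right P.isPGroup' hAp'
    have h2 : (P ⊔ A.subgroupOf (normalizer (A : Set G)) :
        Subgroup (normalizer (A : Set G))) = P := P.is_maximal' h1 le_sup_left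
    intro a ha
    have h3 : (⟨a, Subgroup.le_normalizer ha⟩ : normalizer (A : Set G)) ∈
        (P : Subgroup (normalizer (A : Set G))) := by
      rw [← h2]
      exact Subgroup.mem_sup_right (Subgroup.mem_subgroupOf.2 ha)
    exact ⟨_, h3, rfl⟩
  have hNP : Subgroup.normalizer (((P : Subgroup (normalizer (A : Set G))).map
      (Subgroup.subtype _) : Subgroup G) : Set G) ≤ normalizer (A : Set G) := by
    intro g hg
    have h1 : ∀ a ∈ A, g * a * g⁻¹ ∈ A := by
      intro a ha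
      apply hclosed a ha g
      obtain ⟨⟨y, hy⟩, -, hye⟩ := (Subgroup.mem_normalizer_iff.1 hg a).1 (hAP ha)
      have : y = g * a * g⁻¹ := hye
      rw [← this]; exact hy
    by_cases hA : ∃ a ∈ A, a ≠ 1
    · obtain ⟨a, ha, ha1⟩ := hA
      exact h.ti.ti a ha ha1 g (h1 a ha)
    · push Not at hA
      have hbot : A = ⊥ := (Subgroup.eq_bot_iff_forall _).2 hA
      have h2 := h.card
      rw [hbot, Subgroup.card_bot] at h2
      omega
  obtain ⟨S, hS⟩ := Cfsg.Agent.S1335.sylow_of_normalizer_le _ P hNP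
  have hAS : A ≤ (S : Subgroup G) := by rw [hS]; exact hAP
  have hSN : (S : Subgroup G) ≤ normalizer (A : Set G) := by
    rw [hS]
    rintro _ ⟨⟨y, hy⟩, -, rfl⟩
    exact hy
  have htS : t ∈ (S : Subgroup G) := by
    rw [hS]
    exact ⟨⟨t, ht⟩, hP (Subgroup.mem_zpowers _), rfl⟩
  have hA : ∃ a ∈ A, a ≠ 1 := by
    by_contra hcon
    push Not at hcon
    have h1 : A = ⊥ := (Subgroup.eq_bot_iff_forall _).2 hcon
    have h2 := h.card
    rw [h1, Subgroup.card_bot] at h2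
    omega
  obtain ⟨a₀, ha₀, ha₀1⟩ := hA
  have hcl : Cfsg.IsStronglyClosed A (S : Subgroup G) :=
    ⟨hAS, fun x hx g hg => hclosed x hx g (hSN hg)⟩
  have hcomm : IsMulCommutative A := ⟨⟨fun a b => Subtype.ext (h.ti.comm a.2 b.2)⟩⟩
  rcases gold S A (fun e => ha₀1 (by rw [e, Subgroup.mem_bot] at ha₀; exact ha₀)) hcomm hcl with
    h1 | ⟨H, hH⟩
  · apply htA
    apply h.ti.cent
    intro y hy
    exact congrArg Subtype.val (h1.is_comm.comm (⟨t, htS⟩ : (S : Subgroup G)) ⟨y, hAS hy⟩)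
  · have ha₀o : orderOf a₀ = 2 :=
      orderOf_eq_prime (by rw [pow_two]; exact h.ti.sq a₀ ha₀) ha₀1
    have h2 := Cfsg.Agent.TwoFusion.StronglyEmbeddedBasic.isConj_of_involutions hH a₀ t ha₀o hto
    exact htA (h.mem ht ((h.conj a₀ ha₀ ha₀1).trans h2))

end Main

end Cfsg.Agent.LargeExtra.Red.TIClose
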