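import Cfsg.Agent.LargeExtra.Red.Pre
import Cfsg.Agent.LargeExtra.Red.GLGen
import Cfsg.Agent.LargeExtra.Red.TIClose
import Cfsg.Agent.LargeExtra.Perp
import Cfsg.Agent.Lib.Cores

/-!
# S1761, case II, (A1): `A / ⟨z⟩` minimal totally singular and `z^{N(A)} ≠ {z}` (helper622)

* `MinN Q z A`: `⟨z⟩ < A ≤ Q` elementary abelian, `C_G(z)`-invariant and minimal.
* `exists_norm`: if some `g ∈ N(A)` moves `z`, then `z^{N(A)} = A^#`.
* `centralizer_le`: then `C_G(A) = A`.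
* `ti`, `aut`: `A` is a TI-subgroup, all automorphisms of `A` are induced by `N(A)`.
* `glCase`: `C_G(z)/Q = GL(A/⟨z⟩)`, `A/⟨z⟩` is its own orthogonal space.
-/

set_option autoImplicit false

namespace Cfsg.Agent.LargeExtra.Red

open Cfsg.Agent.Co2Type.Quad Cfsg.Agent.LargeExtra.Base Cfsg.Agent.LargeExtra.TwoCentral
open Cfsg.Agent.LargeExtra.Siegel Cfsg.Agent.LargeExtra.SiegelOrbit
open Cfsg.Agent.LargeExtra.Local Cfsg.Agent.LargeExtra.Perp

variable {G : Type*} [Group G] {Q : Subgroup G} {z : G}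

/-! ### general facts on `U = U^⊥` -/

theorem b_range (h : Large Q z) {f : h.V ≃ₗ[ZMod 2] h.V} (hf : f ∈ h.act.range) (v w : h.V) :
    h.b (f v) (f w) = h.b v w := by
  obtain ⟨c, rfl⟩ := hf
  exact h.b_act c v w

theorem q_range (h : Large Q z) {f : h.V ≃ₗ[ZMod 2] h.V} (hf : f ∈ h.act.range) (v : h.V) :
    h.q (f v) = h.q v := by
  obtain ⟨c, rfl⟩ := hf
  exact h.q_act c v

/-- `H` is faithful on an invariant `U = U^⊥`. -/
theorem faithful_of_perp [Finite G] (h : Large Q z) (hO : O2 h) {U : Submodule (ZMod 2) h.V} (hU : Inv h U)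
    (hp : ∀ v, v ∈ U ↔ ∀ u ∈ U, h.b v u = 0) {f : h.V ≃ₗ[ZMod 2] h.V} (hf : f ∈ h.act.range)
    (hfix : ∀ u ∈ U, f u = u) : f = 1 := by
  let N : Subgroup (h.V ≃ₗ[ZMod 2] h.V) :=
    { carrier := {g | g ∈ h.act.range ∧ ∀ u ∈ U, g u = u}
      one_mem' := ⟨one_mem _, fun _ _ => rfl⟩
      mul_mem' := by
        rintro a b ⟨ha, ha'⟩ ⟨hb, hb'⟩
        refine ⟨mul_mem ha hb, fun u hu => ?_⟩
        show a (b u) = u
        rw [hb' u hu, ha' u hu]
      inv_mem' := by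
        rintro a ⟨ha, ha'⟩
        refine ⟨inv_mem ha, fun u hu => ?_⟩
        show a.symm u = u
        rw [LinearEquiv.symm_apply_eq, ha' u hu] }
  refine eq_one_of_normal h hO (N := N) (fun g hg => hg.1) ?_ ?_ (g := f) ⟨hf, hfix⟩
  · rintro g hg a ⟨ha, ha'⟩
    refine ⟨mul_mem (mul_mem hg ha) (inv_mem hg), fun u hu => ?_⟩
    show g (a (g.symm u)) = u
    have h1 : g.symm u ∈ U := hU _ (inv_mem hg) u hu
    rw [ha' _ h1, LinearEquiv.apply_symm_apply]
  · rintro g ⟨hg, hg'⟩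
    refine ⟨1, ?_⟩
    rw [pow_one, pow_two]
    ext v
    show g (g v) = v
    have h1 : g v + v ∈ U := by
      rw [hp]
      intro u hu
      rw [map_add, LinearMap.add_apply]
      have h2 : h.b (g v) u = h.b v u := by
        have := b_range h hg v u
        rwa [hg' u hu] at this
      rw [h2]
      exact GLGen.vadd_self (U := ZMod 2) _
    have h2 := hg' _ h1
    rw [map_add] at h2
    have h3 : g (g v) + g v + g v = g v + v + g v := by rw [h2]
    rw [add_assoc, h.add_self, add_zero, add_comm (g v) v, add_assoc, h.add_self, add_zero] at h3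
    exact h3

/-- transvections generate -/
theorem full_of_transvections [Finite G] (h : Large Q z) {U : Submodule (ZMod 2) h.V}
    (ht : ∀ (φ : Module.Dual (ZMod 2) U) (a : U), a ≠ 0 → φ a = 0 → ∃ f ∈ h.act.range,
      ∀ x : U, f x = x + φ x • (a : h.V)) :
    ∀ s : U ≃ₗ[ZMod 2] U, ∃ f ∈ h.act.range, ∀ u : U, f u = s u := by
  have hfin : Finite h.V := inferInstance
  let Γ : Subgroup (U ≃ₗ[ZMod 2] U) :=
    { carrier := {s | ∃ f ∈ h.act.range, ∀ u : U, f u = s u}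
      one_mem' := ⟨1, one_mem _, fun _ => rfl⟩
      mul_mem' := by
        rintro a b ⟨f, hf, hf'⟩ ⟨g, hg, hg'⟩
        refine ⟨f * g, mul_mem hf hg, fun u => ?_⟩
        show f (g u) = a (b u)
        rw [hg', hf']
      inv_mem' := by
        rintro a ⟨f, hf, hf'⟩
        refine ⟨f⁻¹, inv_mem hf, fun u => ?_⟩
        show f.symm u = a.symm u
        rw [LinearEquiv.symm_apply_eq, hf', LinearEquiv.apply_symm_apply] }
  intro s
  have := GLGen.mem_of_transvections Γ (fun φ a hφ => ?_) s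
  · exact this
  obtain ⟨t, ht'⟩ := GLGen.exists_isT φ a hφ
  refine ⟨t, ?_, ht'⟩
  by_cases ha : a = 0
  · refine ⟨1, one_mem _, fun u => ?_⟩
    rw [ht', ha, smul_zero, add_zero]; rfl
  · obtain ⟨f, hf, hf'⟩ := ht φ a ha hφ
    refine ⟨f, hf, fun u => ?_⟩
    rw [hf', ht']
    rfl

/-! ### the subgroup `A` -/

/-- `A` is elementary abelian, `⟨z⟩ < A ≤ Q`, `C_G(z)`-invariant and minimal with this property. -/
structure MinN (Q : Subgroup G) (z : G) (A : Subgroup G) : Prop where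
  le : A ≤ Q
  z_mem : z ∈ A
  inv : ∀ c, c * z = z * c → ∀ x ∈ A, c * x * c⁻¹ ∈ A
  sq : ∀ x ∈ A, x * x = 1
  irr : ∀ B : Subgroup G, B ≤ A → z ∈ B → (∀ c, c * z = z * c → ∀ x ∈ B, c * x * c⁻¹ ∈ B) →
    (∃ x ∈ B, x ≠ 1 ∧ x ≠ z) → B = A

namespace MinN

variable {A : Subgroup G}

theorem inv_eq (m : MinN Q z A) {x : G} (hx : x ∈ A) : x⁻¹ = x := inv_eq_of_mul_eq_one_left (m.sq x hx)

theorem comm (m : MinN Q z A) {x y : G} (hx : x ∈ A) (hy : y ∈ A) : x * y = y * x := by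
  have h1 := m.inv_eq (A.mul_mem hx hy)
  rw [mul_inv_rev, m.inv_eq hx, m.inv_eq hy] at h1
  exact h1.symm

theorem mem_normalizer (m : MinN Q z A) {c : G} (hc : c * z = z * c) :
    c ∈ Subgroup.normalizer (A : Set G) := by
  have hc' : c⁻¹ * z = z * c⁻¹ := by
    calc c⁻¹ * z = c⁻¹ * (z * c) * c⁻¹ := by group
      _ = z * c⁻¹ := by rw [← hc]; group
  rw [Subgroup.mem_normalizer_iff]
  intro x
  refine ⟨m.inv c hc x, fun hx => ?_⟩
  have h1 := m.inv _ hc' _ hx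
  have e : c⁻¹ * (c * x * c⁻¹) * c⁻¹⁻¹ = x := by group
  rwa [e] at h1

/-- (A1), first step: `A^# = z^{N(A)}`. -/
theorem exists_norm (h : Large Q z) (m : MinN Q z A) {g : G} (hg : g ∈ Subgroup.normalizer (A : Set G))
    (hgz : g * z * g⁻¹ ≠ z) {a : G} (ha : a ∈ A) (ha1 : a ≠ 1) :
    ∃ n ∈ Subgroup.normalizer (A : Set G), n * z * n⁻¹ = a := by
  have hnm : ∀ n ∈ Subgroup.normalizer (A : Set G), ∀ x ∈ A, n * x * n⁻¹ ∈ A :=
    fun n hn x hx => (Subgroup.mem_normalizer_iff.1 hn x).1 hx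
  have hsqz : ∀ n : G, (n * z * n⁻¹) * (n * z * n⁻¹) = 1 := fun n => by
    calc (n * z * n⁻¹) * (n * z * n⁻¹) = n * (z * z) * n⁻¹ := by group
      _ = 1 := by rw [h.z_sq]; group
  let B : Subgroup G :=
    { carrier := {a | a = 1 ∨ ∃ n ∈ Subgroup.normalizer (A : Set G), n * z * n⁻¹ = a}
      one_mem' := Or.inl rfl
      inv_mem' := by
        rintro a (rfl | ⟨n, hn, rfl⟩)
        · left; exact inv_one
        · right
          exact ⟨n, hn, (inv_eq_of_mul_eq_one_left (hsqz n)).symm⟩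
      mul_mem' := by
        rintro a b (rfl | ⟨n, hn, rfl⟩) (rfl | ⟨k, hk, rfl⟩)
        · left; exact one_mul 1
        · right; exact ⟨k, hk, (one_mul _).symm⟩
        · right; exact ⟨n, hn, (mul_one _).symm⟩
        · by_cases heq : n * z * n⁻¹ = k * z * k⁻¹
          · left; rw [heq]; exact hsqz k
          right
          -- `c = k⁻¹ a k`
          have hkn := Subgroup.mul_mem _ (Subgroup.inv_mem _ hk) hn
          have hcA : (k⁻¹ * n) * z * (k⁻¹ * n)⁻¹ ∈ A := hnm _ hkn z m.z_mem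
          have hc1 : (k⁻¹ * n) * z * (k⁻¹ * n)⁻¹ ≠ 1 := by
            intro h1
            apply h.z_ne
            calc z = (k⁻¹ * n)⁻¹ * ((k⁻¹ * n) * z * (k⁻¹ * n)⁻¹) * (k⁻¹ * n) := by group
              _ = 1 := by rw [h1]; group
          have hcz : (k⁻¹ * n) * z * (k⁻¹ * n)⁻¹ ≠ z := by
            intro h1
            apply heq
            calc n * z * n⁻¹ = k * ((k⁻¹ * n) * z * (k⁻¹ * n)⁻¹) * k⁻¹ := by group
              _ = k * z * k⁻¹ := by rw [h1]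
          obtain ⟨y, hy, hyc⟩ := exists_not_comm h (m.le hcA) hc1 hcz
          have hyz := h.comm_z y hy
          refine ⟨k * (y * (k⁻¹ * n)), Subgroup.mul_mem _ hk (Subgroup.mul_mem _ (m.mem_normalizer hyz) hkn), ?_⟩
          have e1 : y * ((k⁻¹ * n) * z * (k⁻¹ * n)⁻¹) * y⁻¹ = (k⁻¹ * n) * z * (k⁻¹ * n)⁻¹ * z := by
            rw [hyc, mul_assoc _ y z, hyz]; group
          calc k * (y * (k⁻¹ * n)) * z * (k * (y * (k⁻¹ * n)))⁻¹
              = k * (y * ((k⁻¹ * n) * z * (k⁻¹ * n)⁻¹) * y⁻¹) * k⁻¹ := by group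
            _ = k * ((k⁻¹ * n) * z * (k⁻¹ * n)⁻¹ * z) * k⁻¹ := by rw [e1]
            _ = n * z * n⁻¹ * (k * z * k⁻¹) := by group }
  have hBA : B ≤ A := by
    rintro x (rfl | ⟨n, hn, rfl⟩)
    · exact A.one_mem
    · exact hnm n hn z m.z_mem
  have hzB : z ∈ B := Or.inr ⟨1, one_mem _, by group⟩
  have hB : B = A := by
    refine m.irr B hBA hzB ?_ ⟨g * z * g⁻¹, Or.inr ⟨g, hg, rfl⟩, ?_, hgz⟩
    · rintro c hc x (rfl | ⟨n, hn, rfl⟩)
      · left; group
      · right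
        exact ⟨c * n, Subgroup.mul_mem _ (m.mem_normalizer hc) hn, by group⟩
    · intro h1
      apply h.z_ne
      calc z = g⁻¹ * (g * z * g⁻¹) * g := by group
        _ = 1 := by rw [h1]; group
  have : a ∈ B := by rw [hB]; exact ha
  rcases this with h1 | h1
  · exact absurd h1 ha1
  · exact h1

/-- A normal 2-subgroup of `C_G(z)`, as a subgroup of `G`. -/
theorem le_of_O2 {h : Large Q z} (hO : O2 h) {N : Subgroup G} (hN : ∀ x ∈ N, x * z = z * x)
    (hinv : ∀ c, c * z = z * c → ∀ x ∈ N, c * x * c⁻¹ ∈ N) (h2 : IsPGroup 2 N) : N ≤ Q := by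
  intro x hx
  have hxC : x ∈ Subgroup.centralizer ({z} : Set G) := Subgroup.mem_centralizer_singleton_iff.2 (hN x hx)
  refine hO (N.subgroupOf _) ⟨fun y hy c => ?_⟩ h2.comap_subtype ⟨x, hxC⟩ hx
  exact hinv c (Subgroup.mem_centralizer_singleton_iff.1 c.2) y hy

/-- `C_Q(A)` is invariant under `N(A)`. -/
theorem inv_cent [Finite G] (h : Large Q z) (hO : O2 h) (m : MinN Q z A) {n x : G}
    (hn : n ∈ Subgroup.normalizer (A : Set G)) (hxQ : x ∈ Q) (hxA : ∀ y ∈ A, x * y = y * x) :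
    n * x * n⁻¹ ∈ Q ∧ ∀ y ∈ A, n * x * n⁻¹ * y = y * (n * x * n⁻¹) := by
  classical
  set K := Subgroup.centralizer (A : Set G) with hK
  have hKz : ∀ k ∈ K, k * z = z * k := fun k hk => (Subgroup.mem_centralizer_iff.1 hk z m.z_mem).symm
  have hKn : ∀ n ∈ Subgroup.normalizer (A : Set G), ∀ k ∈ K, n * k * n⁻¹ ∈ K := by
    intro n hn k hk
    rw [hK, Subgroup.mem_centralizer_iff]
    intro y hy
    have h1 : n⁻¹ * y * n ∈ A := by
      have := (Subgroup.mem_normalizer_iff.1 (Subgroup.inv_mem _ hn) y).1 hy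
      rwa [inv_inv] at this
    have h2 := Subgroup.mem_centralizer_iff.1 hk _ h1
    calc y * (n * k * n⁻¹) = n * ((n⁻¹ * y * n) * k) * n⁻¹ := by group
      _ = n * (k * (n⁻¹ * y * n)) * n⁻¹ := by rw [h2]
      _ = n * k * n⁻¹ * y := by group
  let O : Subgroup G := (Cfsg.pCore 2 K).map K.subtype
  have hOn : ∀ n ∈ Subgroup.normalizer (A : Set G), ∀ x ∈ O, n * x * n⁻¹ ∈ O := by
    rintro n hn _ ⟨x, hx, rfl⟩
    let e : K ≃* K :=
      { toFun := fun k => ⟨n * k * n⁻¹, hKn n hn k k.2⟩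
        invFun := fun k => ⟨n⁻¹ * k * n, by
          have := hKn _ (Subgroup.inv_mem _ hn) k k.2
          rwa [inv_inv] at this⟩
        left_inv := fun k => Subtype.ext (by
          show n⁻¹ * (n * k * n⁻¹) * n = (k : G)
          group)
        right_inv := fun k => Subtype.ext (by
          show n * (n⁻¹ * k * n) * n⁻¹ = (k : G)
          group)
        map_mul' := fun k l => Subtype.ext (by
          show n * ((k : G) * l) * n⁻¹ = n * k * n⁻¹ * (n * l * n⁻¹)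
          group) }
    refine ⟨e x, ?_, rfl⟩
    rw [← Cfsg.Agent.Lib.Cores.map_equiv_pCore e 2]
    exact ⟨x, hx, rfl⟩
  have hOK : O ≤ K := Subgroup.map_subtype_le _
  have hO2' : IsPGroup 2 O := (Cfsg.Agent.Lib.Cores.pCore_isPGroup 2).map _
  have hOQ : O ≤ Q := le_of_O2 hO (fun x hx => hKz x (hOK hx))
    (fun c hc => hOn c (m.mem_normalizer hc)) hO2'
  -- `C_Q(A) ≤ O`
  have hTO : K ⊓ Q ≤ O := by
    intro y hy
    have hy' := Subgroup.mem_inf.1 hy
    refine ⟨⟨y, hy'.1⟩, ?_, rfl⟩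
    refine Cfsg.Agent.Lib.Cores.le_pCore (N := (K ⊓ Q).subgroupOf K) ⟨fun t ht k => ?_⟩ ?_
      (x := ⟨y, hy'.1⟩) ?_
    · rw [Subgroup.mem_subgroupOf, Subgroup.mem_inf] at ht ⊢
      exact ⟨(k * t * k⁻¹).2, h.conj_mem k (hKz k k.2) t ht.2⟩
    · exact ((Base.isPGroup h).to_le inf_le_right).comap_subtype
    · rw [Subgroup.mem_subgroupOf]; exact hy
  have hx : x ∈ O := hTO (Subgroup.mem_inf.2 ⟨Subgroup.mem_centralizer_iff.2 fun y hy => (hxA y hy).symm, hxQ⟩)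
  have h1 := hOn n hn x hx
  exact ⟨hOQ h1, fun y hy => (Subgroup.mem_centralizer_iff.1 (hOK h1) y hy).symm⟩

/-- `C_Q(A) = A` -/
theorem mem_of_cent [Finite G] (h : Large Q z) (hO : O2 h) (m : MinN Q z A) {g : G}
    (hg : g ∈ Subgroup.normalizer (A : Set G)) (hgz : g * z * g⁻¹ ≠ z) {x : G} (hxQ : x ∈ Q)
    (hxA : ∀ y ∈ A, x * y = y * x) : x ∈ A := by
  -- exponent two
  have hsq : ∀ x ∈ Q, (∀ y ∈ A, x * y = y * x) → x * x = 1 := by
    intro x hxQ hxA
    rcases h.sq x hxQ with h1 | h1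
    · exact h1
    exfalso
    obtain ⟨h2, -⟩ := m.inv_cent h hO hg hxQ hxA
    have h3 : g * x * g⁻¹ * (g * x * g⁻¹) = g * z * g⁻¹ := by
      calc g * x * g⁻¹ * (g * x * g⁻¹) = g * (x * x) * g⁻¹ := by group
        _ = _ := by rw [h1]
    rcases h.sq _ h2 with h4 | h4
    · rw [h3] at h4
      apply h.z_ne
      calc z = g⁻¹ * (g * z * g⁻¹) * g := by group
        _ = 1 := by rw [h4]; group
    · exact hgz (h3.symm.trans h4)
  have hcomm : ∀ x ∈ Q, (∀ y ∈ A, x * y = y * x) → ∀ x' ∈ Q, (∀ y ∈ A, x' * y = y * x') →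
      x * x' = x' * x := by
    intro x hxQ hxA x' hxQ' hxA'
    have h1 := hsq (x * x') (Q.mul_mem hxQ hxQ') (fun y hy => by
      rw [mul_assoc, hxA' y hy, ← mul_assoc, hxA y hy, mul_assoc])
    have h2 := hsq x hxQ hxA
    have h3 := hsq x' hxQ' hxA'
    calc x * x' = x * (x * x' * (x * x')) * x' * ((x * x) * (x' * x')) := by rw [h1, h2, h3]; group
      _ = (x * x) * (x' * x) * (x' * x') * ((x * x) * (x' * x')) := by group
      _ = x' * x := by rw [h2, h3]; group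
  rw [← pr_mem_sub h m.z_mem ⟨x, hxQ⟩]
  apply mem_of_perp h
  intro w hw
  obtain ⟨y, rfl⟩ := h.pr_surjective w
  rw [h.b_pr]
  refine hcomm y y.2 (fun t ht => ?_) x hxQ hxA
  exact ((h.b_pr _ _).1 (hw (h.pr ⟨t, m.le ht⟩) ⟨⟨t, m.le ht⟩, ht, rfl⟩)).symm

/-- `A/⟨z⟩` is its own orthogonal space. -/
theorem perp [Finite G] (h : Large Q z) (hO : O2 h) (m : MinN Q z A) {g : G}
    (hg : g ∈ Subgroup.normalizer (A : Set G)) (hgz : g * z * g⁻¹ ≠ z) (v : h.V) :
    v ∈ sub h A ↔ ∀ u ∈ sub h A, h.b v u = 0 := by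
  constructor
  · rintro ⟨x, hx, rfl⟩ _ ⟨y, hy, rfl⟩
    rw [h.b_pr]
    exact m.comm hx hy
  · intro hv
    obtain ⟨x, rfl⟩ := h.pr_surjective v
    rw [pr_mem_sub h m.z_mem]
    refine m.mem_of_cent h hO hg hgz x.2 fun y hy => ?_
    exact (h.b_pr _ ⟨y, m.le hy⟩).1 (hv _ ⟨⟨y, m.le hy⟩, hy, rfl⟩)

theorem inv_sub (h : Large Q z) (m : MinN Q z A) : Inv h (sub h A) := by
  rintro _ ⟨c, rfl⟩ _ ⟨x, hx, rfl⟩
  rw [h.act_pr]
  exact ⟨_, m.inv c (Subgroup.mem_centralizer_singleton_iff.1 c.2) x hx, rfl⟩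

/-- `C_G(A) = A` -/
theorem mem_of_comm [Finite G] (h : Large Q z) (hO : O2 h) (m : MinN Q z A) {g : G}
    (hg : g ∈ Subgroup.normalizer (A : Set G)) (hgz : g * z * g⁻¹ ≠ z) {x : G}
    (hx : ∀ y ∈ A, x * y = y * x) : x ∈ A := by
  have hxC : x ∈ Subgroup.centralizer ({z} : Set G) :=
    Subgroup.mem_centralizer_singleton_iff.2 (hx z m.z_mem)
  have h1 : h.act ⟨x, hxC⟩ = 1 := by
    refine faithful_of_perp h hO (m.inv_sub h) (m.perp h hO hg hgz) ⟨_, rfl⟩ ?_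
    rintro _ ⟨y, hy, rfl⟩
    apply Pair.act_pr_coe
    show x * (y : G) * x⁻¹ = y
    rw [hx y hy]; group
  exact m.mem_of_cent h hO hg hgz (h.mem_of_act _ h1) hx

/-- `A` is a TI-subgroup in the form of `TIClose`. -/
theorem ti [Finite G] (h : Large Q z) (hO : O2 h) (m : MinN Q z A) {g : G}
    (hg : g ∈ Subgroup.normalizer (A : Set G)) (hgz : g * z * g⁻¹ ≠ z) : TIClose.TI A where
  sq := m.sq
  cent := fun _ hx => m.mem_of_comm h hO hg hgz hx
  ti := by
    intro a ha ha1 k hk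
    obtain ⟨n, hn, rfl⟩ := m.exists_norm h hg hgz ha ha1
    have hk1 : k * (n * z * n⁻¹) * k⁻¹ ≠ 1 := by
      intro h1
      apply ha1
      calc n * z * n⁻¹ = k⁻¹ * (k * (n * z * n⁻¹) * k⁻¹) * k := by group
        _ = 1 := by rw [h1]; group
    obtain ⟨l, hl, hle⟩ := m.exists_norm h hg hgz hk hk1
    have h1 : (l⁻¹ * k * n) * z = z * (l⁻¹ * k * n) := by
      calc (l⁻¹ * k * n) * z = l⁻¹ * (k * (n * z * n⁻¹) * k⁻¹) * k * n := by group
        _ = l⁻¹ * (l * z * l⁻¹) * k * n := by rw [hle]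
        _ = _ := by group
    have h2 := m.mem_normalizer h1
    have e : k = l * (l⁻¹ * k * n) * n⁻¹ := by group
    rw [e]
    exact Subgroup.mul_mem _ (Subgroup.mul_mem _ hl h2) (Subgroup.inv_mem _ hn)

end MinN

/-- `Q` induces on `A ≤ Q` all transvections with centre `z`. -/
theorem exists_Q_transv [Finite G] (h : Large Q z) {A : Subgroup G} (hA : A ≤ Q) (hz : z ∈ A)
    (ψ : A →* Multiplicative (ZMod 2)) (hψ : ψ ⟨z, hz⟩ = 1) :
    ∃ y ∈ Q, ∀ x : A, (ψ x = 1 → y * x * y⁻¹ = x) ∧ (ψ x ≠ 1 → y * x * y⁻¹ = x * z) := by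
  classical
  have hW : ∀ v : sub h A, ∃ x : A, h.pr ⟨x, hA x.2⟩ = v := by
    rintro ⟨v, x, hx, rfl⟩
    exact ⟨⟨x, hx⟩, rfl⟩
  choose r hr using hW
  have hind : ∀ (v : sub h A) (x : A), h.pr ⟨x, hA x.2⟩ = v → ψ (r v) = ψ x := by
    intro v x hx
    have h1 : h.pr ⟨r v, hA (r v).2⟩ = h.pr ⟨x, hA x.2⟩ := (hr v).trans hx.symm
    rcases h.pr_eq_pr.1 h1 with h2 | h2
    · have : r v = x := Subtype.ext h2
      rw [this]
    · have : r v = x * ⟨z, hz⟩ := Subtype.ext h2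
      rw [this, map_mul, hψ, mul_one]
  let f : sub h A →ₗ[ZMod 2] ZMod 2 := AddMonoidHom.toZModLinearMap 2
    { toFun := fun v => Multiplicative.toAdd (ψ (r v))
      map_zero' := by
        rw [hind 0 1 h.pr_one, map_one]; rfl
      map_add' := by
        intro v w
        rw [hind (v + w) (r v * r w) (by
          have := h.pr_mul ⟨r v, hA (r v).2⟩ ⟨r w, hA (r w).2⟩
          rw [hr, hr] at this
          exact this), map_mul]
        rfl }
  have hf : ∀ x : A, f ⟨h.pr ⟨x, hA x.2⟩, ⟨x, hA x.2⟩, x.2, rfl⟩ = Multiplicative.toAdd (ψ x) := by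
    intro x
    show Multiplicative.toAdd (ψ (r _)) = _
    rw [hind _ x rfl]
  obtain ⟨F, hF⟩ := LinearMap.exists_extend f
  have hF' : ∀ w : sub h A, F w = f w := fun w => by rw [← hF]; rfl
  obtain ⟨v, hv⟩ := h.exists_b_eq F
  obtain ⟨y, rfl⟩ := h.pr_surjective v
  have key : ∀ x : A, h.b (h.pr y) (h.pr ⟨x, hA x.2⟩) = Multiplicative.toAdd (ψ x) := by
    intro x
    rw [hv, ← hf x, ← hF']
  refine ⟨y, y.2, fun x => ⟨fun hx => ?_, fun hx => ?_⟩⟩
  · have h1 := key x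
    rw [hx, toAdd_one] at h1
    have h2 : (y : G) * x = x * y := (h.b_pr _ _).1 h1
    rw [h2]; group
  · have h1 := key x
    have h3 : Multiplicative.toAdd (ψ x) = 1 := by
      rcases zmod_two (Multiplicative.toAdd (ψ x)) with h4 | h4
      · exact absurd (Multiplicative.toAdd.injective h4) hx
      · exact h4
    rw [h3] at h1
    have h2 : (y : G) * x = x * y * z := (h.b_pr_one _ _).1 h1
    rw [h2, mul_assoc _ z, ← (h.commz y.2).inv_left.eq]; group

namespace MinN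

variable {A : Subgroup G}

/-- `N(A)` induces on `A` all transvections. -/
theorem exists_transv [Finite G] (h : Large Q z) (m : MinN Q z A) {g : G}
    (hg : g ∈ Subgroup.normalizer (A : Set G)) (hgz : g * z * g⁻¹ ≠ z) {a : G} (ha : a ∈ A) (ha1 : a ≠ 1)
    (ψ : A →* Multiplicative (ZMod 2)) (hψ : ψ ⟨a, ha⟩ = 1) :
    ∃ y : G, ∀ x : A, (ψ x = 1 → y * x * y⁻¹ = x) ∧ (ψ x ≠ 1 → y * x * y⁻¹ = x * a) := by
  obtain ⟨n, hn, hna⟩ := m.exists_norm h hg hgz ha ha1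
  have hn' := Subgroup.inv_mem _ hn
  let e : A →* A :=
    { toFun := fun x => ⟨n * x * n⁻¹, (Subgroup.mem_normalizer_iff.1 hn x).1 x.2⟩
      map_one' := Subtype.ext (by show n * 1 * n⁻¹ = 1; group)
      map_mul' := fun x y => Subtype.ext (by
        show n * ((x : G) * y) * n⁻¹ = n * x * n⁻¹ * (n * y * n⁻¹)
        group) }
  have he : e ⟨z, m.z_mem⟩ = ⟨a, ha⟩ := Subtype.ext hna
  obtain ⟨y, hy, hyx⟩ := exists_Q_transv h m.le m.z_mem (ψ.comp e) (by
    rw [MonoidHom.comp_apply, he, hψ])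
  refine ⟨n * y * n⁻¹, fun x => ?_⟩
  have hx' : n⁻¹ * x * n ∈ A := by
    have := (Subgroup.mem_normalizer_iff.1 hn' x).1 x.2
    rwa [inv_inv] at this
  have hex : e ⟨n⁻¹ * x * n, hx'⟩ = x := Subtype.ext (by
    show n * (n⁻¹ * x * n) * n⁻¹ = (x : G)
    group)
  obtain ⟨h1, h2⟩ := hyx ⟨n⁻¹ * x * n, hx'⟩
  rw [MonoidHom.comp_apply, hex] at h1 h2
  have e2 : n * y * n⁻¹ * x * (n * y * n⁻¹)⁻¹ = n * (y * (n⁻¹ * x * n) * y⁻¹) * n⁻¹ := by group
  refine ⟨fun h3 => ?_, fun h3 => ?_⟩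
  · have h4 : y * (n⁻¹ * x * n) * y⁻¹ = n⁻¹ * x * n := h1 h3
    rw [e2, h4]; group
  · have h4 : y * (n⁻¹ * x * n) * y⁻¹ = n⁻¹ * x * n * z := h2 h3
    rw [e2, h4, ← hna]; group

/-- all automorphisms of `A` are induced by conjugation in `G` -/
theorem aut [Finite G] (h : Large Q z) (hO : O2 h) (m : MinN Q z A) {g : G}
    (hg : g ∈ Subgroup.normalizer (A : Set G)) (hgz : g * z * g⁻¹ ≠ z) (σ : MulAut A) :
    ∃ x : G, ∀ a : A, x * a * x⁻¹ = ((σ a : A) : G) := by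
  classical
  obtain ⟨U, _, _, E, hE⟩ := TIClose.exists_coord (m.ti h hO hg hgz)
  have hfin : Finite U := Finite.of_injective E hE.inj
  let Γ : Subgroup (U ≃ₗ[ZMod 2] U) :=
    { carrier := {s | ∃ x : G, ∀ u : U, x * E u * x⁻¹ = E (s u)}
      one_mem' := ⟨1, fun u => by show 1 * E u * 1⁻¹ = E u; group⟩
      mul_mem' := by
        rintro a b ⟨x, hx⟩ ⟨y, hy⟩
        refine ⟨x * y, fun u => ?_⟩
        show x * y * E u * (x * y)⁻¹ = E (a (b u))
        rw [← hx, ← hy]; group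
      inv_mem' := by
        rintro a ⟨x, hx⟩
        refine ⟨x⁻¹, fun u => ?_⟩
        show x⁻¹ * E u * x⁻¹⁻¹ = E (a.symm u)
        have h1 := hx (a.symm u)
        rw [LinearEquiv.apply_symm_apply] at h1
        rw [← h1]; group }
  have hΓ : ∀ s : U ≃ₗ[ZMod 2] U, s ∈ Γ := by
    refine GLGen.mem_of_transvections Γ fun φ u hu => ?_
    obtain ⟨t, ht⟩ := GLGen.exists_isT φ u hu
    refine ⟨t, ?_, ht⟩
    by_cases hu0 : u = 0
    · refine ⟨1, fun v => ?_⟩
      rw [ht, hu0, smul_zero, add_zero]; group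
    have hE1 : E u ≠ 1 := fun h1 => hu0 (hE.eq_one.1 h1)
    have hr : ∀ x : A, ∃ v : U, E v = x := fun x => (hE.mem _).1 x.2
    choose r hr using hr
    have hrE : ∀ v (hv : E v ∈ A), r ⟨E v, hv⟩ = v := fun v hv => hE.inj (hr _)
    let ψ : A →* Multiplicative (ZMod 2) :=
      { toFun := fun x => Multiplicative.ofAdd (φ (r x))
        map_one' := by
          have : r 1 = 0 := hE.inj (by rw [hr, hE.zero]; rfl)
          rw [this, map_zero]; rfl
        map_mul' := fun x y => by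
          have : r (x * y) = r x + r y := hE.inj (by rw [hr, hE.add, hr, hr]; rfl)
          rw [this, map_add]; rfl }
    have hψ : ∀ v (hv : E v ∈ A), ψ ⟨E v, hv⟩ = Multiplicative.ofAdd (φ v) := fun v hv => by
      show Multiplicative.ofAdd (φ (r ⟨E v, hv⟩)) = _
      rw [hrE]
    obtain ⟨y, hy⟩ := m.exists_transv h hg hgz (hE.mem_E u) hE1 ψ (by rw [hψ, hu]; rfl)
    refine ⟨y, fun v => ?_⟩
    obtain ⟨h1, h2⟩ := hy ⟨E v, hE.mem_E v⟩
    rw [hψ] at h1 h2
    rw [ht]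
    rcases zmod_two (φ v) with h3 | h3
    · rw [h3, zero_smul, add_zero]
      exact h1 (by rw [h3]; rfl)
    · rw [h3, one_smul, hE.add]
      refine h2 (fun h4 => ?_)
      rw [h3] at h4
      exact one_ne_zero (Multiplicative.ofAdd.injective h4)
  -- the automorphism in coordinates
  let ε : U ≃ A := Equiv.ofBijective (fun v => (⟨E v, hE.mem_E v⟩ : A))
    ⟨fun v w e => hE.inj (congrArg Subtype.val e), fun a => by
      obtain ⟨v, hv⟩ := (hE.mem a).1 a.2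
      exact ⟨v, Subtype.ext hv⟩⟩
  have hε : ∀ v w, ε (v + w) = ε v * ε w := fun v w => Subtype.ext (hE.add v w)
  have hε' : ∀ a b, ε.symm (a * b) = ε.symm a + ε.symm b := by
    intro a b
    apply ε.injective
    rw [hε, Equiv.apply_symm_apply, Equiv.apply_symm_apply, Equiv.apply_symm_apply]
  let s : U ≃ₗ[ZMod 2] U :=
    { AddMonoidHom.toZModLinearMap 2 (AddMonoidHom.mk' (fun v => ε.symm (σ (ε v))) (fun v w => by
        rw [hε, map_mul, hε'])) with
      invFun := fun v => ε.symm (σ.symm (ε v))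
      left_inv := fun v => by
        show ε.symm (σ.symm (ε (ε.symm (σ (ε v))))) = v
        rw [Equiv.apply_symm_apply, MulEquiv.symm_apply_apply, Equiv.symm_apply_apply]
      right_inv := fun v => by
        show ε.symm (σ (ε (ε.symm (σ.symm (ε v))))) = v
        rw [Equiv.apply_symm_apply, MulEquiv.apply_symm_apply, Equiv.symm_apply_apply] }
  obtain ⟨x, hx⟩ := hΓ s
  refine ⟨x, fun a => ?_⟩
  obtain ⟨v, hv⟩ := (hE.mem a).1 a.2
  have hva : a = ε v := Subtype.ext hv.symm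
  have h1 := hx v
  have h2 : E (s v) = ((ε (s v) : A) : G) := rfl
  have h3 : ε (s v) = σ a := by
    show ε (ε.symm (σ (ε v))) = σ a
    rw [Equiv.apply_symm_apply, ← hva]
  rw [h2, h3, hv] at h1
  exact h1

/-- (A1) in the language of `V`. -/
theorem glCase [Finite G] (h : Large Q z) (hO : O2 h) (m : MinN Q z A) {g : G}
    (hg : g ∈ Subgroup.normalizer (A : Set G)) (hgz : g * z * g⁻¹ ≠ z) : GLCase h (sub h A) where
  inv := m.inv_sub h
  ts := by
    rintro _ ⟨x, hx, rfl⟩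
    exact h.q_eq_zero.2 (m.sq x hx)
  perp := fun v hv => (m.perp h hO hg hgz v).2 fun u hu => by rw [h.b_comm]; exact hv u hu
  faithful := fun f hf hfix => faithful_of_perp h hO (m.inv_sub h) (m.perp h hO hg hgz) hf hfix
  gl := by
    refine full_of_transvections h ?_
    rintro φ ⟨_, a, ha, rfl⟩ ha0 hφ
    let ψ : A →* Multiplicative (ZMod 2) :=
      { toFun := fun x => Multiplicative.ofAdd (φ ⟨h.pr ⟨x, m.le x.2⟩, ⟨x, m.le x.2⟩, x.2, rfl⟩)
        map_one' := by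
          have : (⟨h.pr ⟨((1 : A) : G), m.le (1 : A).2⟩, ⟨((1 : A) : G), m.le (1 : A).2⟩, (1 : A).2, rfl⟩ :
              sub h A) = 0 := Subtype.ext h.pr_one
          rw [this, map_zero]; rfl
        map_mul' := fun x y => by
          have : (⟨h.pr ⟨((x * y : A) : G), m.le (x * y).2⟩, ⟨((x * y : A) : G), m.le (x * y).2⟩,
              (x * y).2, rfl⟩ : sub h A) = ⟨h.pr ⟨x, m.le x.2⟩, ⟨x, m.le x.2⟩, x.2, rfl⟩ +
              ⟨h.pr ⟨y, m.le y.2⟩, ⟨y, m.le y.2⟩, y.2, rfl⟩ :=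
            Subtype.ext (h.pr_mul ⟨x, m.le x.2⟩ ⟨y, m.le y.2⟩)
          rw [this, map_add]; rfl }
    have hψ : ∀ x : A, ψ x = Multiplicative.ofAdd (φ ⟨h.pr ⟨x, m.le x.2⟩, ⟨x, m.le x.2⟩, x.2, rfl⟩) :=
      fun _ => rfl
    have ha1 : (a : G) ≠ 1 := by
      intro h1
      exact ha0 (Subtype.ext (h.pr_eq_zero.2 (Or.inl h1)))
    obtain ⟨y, hy⟩ := m.exists_transv h hg hgz ha ha1 ψ (by rw [hψ]; exact congrArg Multiplicative.ofAdd hφ)
    have hyz : y * z = z * y := by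
      have h1 := (hy ⟨z, m.z_mem⟩).1 (by
        rw [hψ]
        have : (⟨h.pr ⟨z, m.le m.z_mem⟩, ⟨z, m.le m.z_mem⟩, m.z_mem, rfl⟩ : sub h A) = 0 :=
          Subtype.ext (h.pr_eq_zero.2 (Or.inr rfl))
        rw [this, map_zero]; rfl)
      rwa [mul_inv_eq_iff_eq_mul] at h1
    have hyC : y ∈ Subgroup.centralizer ({z} : Set G) := Subgroup.mem_centralizer_singleton_iff.2 hyz
    refine ⟨h.act ⟨y, hyC⟩, ⟨_, rfl⟩, ?_⟩
    rintro ⟨_, x, hx, rfl⟩
    obtain ⟨h1, h2⟩ := hy ⟨x, hx⟩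
    rw [hψ] at h1 h2
    rcases zmod_two (φ ⟨h.pr x, x, hx, rfl⟩) with h3 | h3
    · rw [h3, zero_smul, add_zero]
      exact Pair.act_pr_coe h _ x x (h1 (congrArg Multiplicative.ofAdd h3))
    · rw [h3, one_smul]
      show h.act _ (h.pr x) = h.pr x + h.pr a
      rw [← h.pr_mul]
      refine Pair.act_pr_coe h _ x (x * a) (h2 (fun h4 => ?_))
      have h5 : φ ⟨h.pr x, x, hx, rfl⟩ = 0 := Multiplicative.ofAdd.injective h4
      rw [h3] at h5
      exact one_ne_zero h5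

end MinN

/-- The preimage of a minimal invariant totally singular subspace. -/
theorem minN_pre (h : Large Q z) {U : Submodule (ZMod 2) h.V} (hU : MinInv h U) (hts : ∀ v ∈ U, h.q v = 0) :
    MinN Q z (pre h U) where
  le := pre_le h U
  z_mem := z_mem_pre h U
  inv := (cinv_pre h hU.inv).inv
  sq := fun _ hx => sq_of_mem_pre h hts hx
  irr := by
    rintro B hB hz hinv ⟨x, hx, hx1, hxz⟩
    have hBQ : B ≤ Q := hB.trans (pre_le h U)
    have h1 : Inv h (sub h B) := by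
      rintro _ ⟨c, rfl⟩ _ ⟨x, hx, rfl⟩
      rw [h.act_pr]
      exact ⟨_, hinv c (Subgroup.mem_centralizer_singleton_iff.1 c.2) x hx, rfl⟩
    have h2 : sub h B ≤ U := by
      rintro _ ⟨x, hx, rfl⟩
      exact (coe_mem_pre h x).1 (hB hx)
    rcases hU.min _ h1 h2 with h3 | h3
    · exfalso
      have h4 : h.pr ⟨x, hBQ hx⟩ ∈ sub h B := ⟨⟨x, hBQ hx⟩, hx, rfl⟩
      rw [h3, Submodule.mem_bot] at h4
      rcases h.pr_eq_zero.1 h4 with h5 | h5
      · exact hx1 h5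
      · exact hxz h5
    · rw [← h3, pre_sub h hBQ hz]

/-- **[R7]** (A1): `U` minimal totally singular, some element of `N(pre U)` moves `z`. -/
theorem aff_case' [Finite G] (h : Large Q z) (hO : O2 h) {U : Submodule (ZMod 2) h.V} (hU : MinInv h U)
    (hts : ∀ v ∈ U, h.q v = 0)
    (hN : ∃ g ∈ Subgroup.normalizer ((pre h U : Subgroup G) : Set G), g * z ≠ z * g) : AffCase h U := by
  obtain ⟨g, hg, hgz'⟩ := hN
  have hgz : g * z * g⁻¹ ≠ z := fun h1 => hgz' (mul_inv_eq_iff_eq_mul.1 h1)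
  have m := minN_pre h hU hts
  have hti := m.ti h hO hg hgz
  refine ⟨?_, hti.cent, m.aut h hO hg hgz, fun e he he1 => ?_, hti.ti⟩
  · have h1 := m.glCase h hO hg hgz
    rwa [sub_pre] at h1
  · obtain ⟨n, -, hn⟩ := m.exists_norm h hg hgz he he1
    exact isConj_iff.2 ⟨n, hn⟩

/-- **[R7]** (A1) in the form of the plan. -/
theorem aff_case [Finite G] {A : Subgroup G} {a : G} (p : Pair Q z A a) (hO : O2 p.lz)
    {U : Submodule (ZMod 2) p.lz.V} (hU : MinInv p.lz U) (hts : ∀ v ∈ U, p.lz.q v = 0)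
    (hN : ∃ g ∈ Subgroup.normalizer ((pre p.lz U : Subgroup G) : Set G), g * z ≠ z * g) :
    AffCase p.lz U := aff_case' p.lz hO hU hts hN

end Cfsg.Agent.LargeExtra.Red
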