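import Cfsg.Agent.LargeExtra.Red.AlphaCover

/-!
# S1761, case II, (A2): `U` minimal totally singular, `ã ∈ U`, `N(pre U) = C_G(z)` ⟹ `GLCase`, `|U| ≤ 8` (helper622)
-/

set_option autoImplicit false

namespace Cfsg.Agent.LargeExtra.Red

open Cfsg.Agent.Co2Type.Quad Cfsg.Agent.LargeExtra.Base Cfsg.Agent.LargeExtra.TwoCentral
open Cfsg.Agent.LargeExtra.Siegel Cfsg.Agent.LargeExtra.SiegelOrbit Cfsg.Agent.LargeExtra.Local
open Cfsg.Agent.LargeExtra.Perp

variable {G : Type*} [Group G] {Q A B Ba : Subgroup G} {z a : G}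

/-- the functional of a map acting on `U` by `u ↦ u` or `u ↦ u + v` -/
theorem exists_fun (h : Large Q z) {U : Submodule (ZMod 2) h.V} {v : h.V} (hv : v ≠ 0)
    (f : h.V ≃ₗ[ZMod 2] h.V) (hf : ∀ u ∈ U, f u = u ∨ f u = u + v) :
    ∃ φ : Module.Dual (ZMod 2) U, ∀ u : U, f u = u + φ u • v := by
  obtain ⟨w, hw⟩ : ∃ w, h.b w v = 1 := by
    by_contra hcon
    push Not at hcon
    exact hv (h.b_nondeg fun w => by
      rw [h.b_comm]
      exact (zmod_two _).resolve_right (hcon w))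
  refine ⟨((h.b w).comp ((f : h.V →ₗ[ZMod 2] h.V) + LinearMap.id)).comp U.subtype, fun u => ?_⟩
  show f u = u + (h.b w (f u + u)) • v
  rcases hf u u.2 with h2 | h2
  · rw [h2, h.add_self, map_zero, zero_smul, add_zero]
  · rw [h2, add_right_comm, h.add_self, zero_add, hw, one_smul]

theorem smul_inj {V : Type*} [AddCommGroup V] [Module (ZMod 2) V] {v : V} (hv : v ≠ 0) {c d : ZMod 2}
    (hcd : c • v = d • v) : c = d := by
  rcases zmod_two c with rfl | rfl <;> rcases zmod_two d with rfl | rfl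
  · rfl
  · rw [zero_smul, one_smul] at hcd; exact absurd hcd.symm hv
  · rw [zero_smul, one_smul] at hcd; exact absurd hcd hv
  · rfl

/-- elements of `RX` centralise `z` and act as elements of `X` -/
theorem act_RX (p : Pair Q z A a) {ρ : G} (hρ : ρ ∈ RX Q z A a) :
    ∃ c : Subgroup.centralizer ({z} : Set G), (c : G) = ρ ∧ p.lz.act c ∈ p.X := by
  have h1 : RX Q z A a ≤ ((p.X).comap p.lz.act).map (Subgroup.centralizer ({z} : Set G)).subtype := by
    apply sup_le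
    · intro r hr
      obtain ⟨hr1, -⟩ := mem_R.1 hr
      refine ⟨⟨r, Subgroup.mem_centralizer_singleton_iff.2 (p.lz.comm_z r hr1)⟩, ?_, rfl⟩
      rw [SetLike.mem_coe, Subgroup.mem_comap, p.lz.act_mem _ hr1]
      exact one_mem _
    · intro x hx
      obtain ⟨hx1, hx2⟩ := Subgroup.mem_inf.1 hx
      exact ⟨⟨x, hx2⟩, p.mem_X.2 ⟨⟨x, hx2⟩, hx1, rfl⟩, rfl⟩
  obtain ⟨c, hc, hcρ⟩ := h1 hρ
  exact ⟨c, hcρ, hc⟩

/-- a vector outside the span of three -/
theorem exists_dual_three {U : Type*} [AddCommGroup U] [Module (ZMod 2) U] [Finite U] (h8 : 8 < Nat.card U)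
    (x y w : U) : ∃ (ψ : Module.Dual (ZMod 2) U) (v : U), ψ v = 1 ∧ ψ x = 0 ∧ ψ y = 0 ∧ ψ w = 0 := by
  have hex : ∃ v, v ∉ Submodule.span (ZMod 2) ({x, y, w} : Set U) := by
    by_contra hcon
    push Not at hcon
    have hs : Function.Surjective (fun t : ZMod 2 × ZMod 2 × ZMod 2 => t.1 • x + t.2.1 • y + t.2.2 • w) := by
      intro v
      obtain ⟨a, b, c, h⟩ := Submodule.mem_span_triple.1 (hcon v)
      exact ⟨(a, b, c), h⟩
    have h1 := Nat.card_le_card_of_surjective _ hs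
    have h2 : Nat.card (ZMod 2 × ZMod 2 × ZMod 2) = 8 := by
      rw [Nat.card_eq_fintype_card]; rfl
    omega
  obtain ⟨v, hv⟩ := hex
  obtain ⟨ψ, hψ, hψS⟩ := Submodule.exists_le_ker_of_notMem hv
  exact ⟨ψ, v, (zmod_two _).resolve_left hψ, hψS (Submodule.subset_span (by simp)),
    hψS (Submodule.subset_span (by simp)), hψS (Submodule.subset_span (by simp))⟩

section

variable [Finite G] (p : Pair Q z A a) {U : Submodule (ZMod 2) p.lz.V}

omit [Finite G] in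
theorem eq_fam (p : Pair Q z A a) : fam Q z a = A := by
  obtain ⟨g, hg, -, hA, -⟩ := p.isConj
  rw [hA, ← fam_conj (CInv.self p.lz) g, hg]

omit [Finite G] in
theorem cj_of_pair (p : Pair Q z A a) : Cj z a := by
  obtain ⟨g, hg, -⟩ := p.isConj
  exact ⟨g, hg⟩

omit [Finite G] in
theorem a_mem_pre (hm : p.va ∈ U) : a ∈ pre p.lz U := (coe_mem_pre p.lz ⟨a, p.a_mem⟩).2 hm

/-- the facts on `B = pre U` -/
theorem cj_pre (hO : O2 p.lz) (hU : MinInv p.lz U) (hts : ∀ v ∈ U, p.lz.q v = 0) (hm : p.va ∈ U) :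
    ∀ x ∈ pre p.lz U, x ≠ 1 → Cj z x := fun _ hx hx1 =>
  cj_of_mem p.lz hO hU hts ⟨a, a_mem_pre p hm, cj_of_pair p, p.ne⟩ hx hx1

/-- `U ∩ D̃ = {0, ã}` -/
theorem eq_of_mem_D (hO : O2 p.lz) (hU : MinInv p.lz U) (hts : ∀ v ∈ U, p.lz.q v = 0) (hm : p.va ∈ U)
    (hN : ∀ g ∈ Subgroup.normalizer ((pre p.lz U : Subgroup G) : Set G), g * z = z * g)
    {x : G} (hx : x ∈ pre p.lz U) (hxA : x ∈ A) : x = 1 ∨ x = z ∨ x = a ∨ x = a * z :=
  eq_of_mem p.lz hO hU hts hN (cj_pre p hO hU hts hm) (a_mem_pre p hm) p.la.z_ne p.ne hx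
    (by rw [eq_fam p]; exact hxA)

/-- `2 |X| ≤ |U|` -/
theorem card_X_le (hO : O2 p.lz) (hU : MinInv p.lz U) (hts : ∀ v ∈ U, p.lz.q v = 0) (hm : p.va ∈ U)
    (hN : ∀ g ∈ Subgroup.normalizer ((pre p.lz U : Subgroup G) : Set G), g * z = z * g) :
    Nat.card p.X * 2 ≤ Nat.card U := by
  classical
  have h1 : ∀ f ∈ p.X, ∀ u ∈ U, f u = u ∨ f u = u + p.va := by
    intro f hf u hu
    have h2 : f u + u ∈ U := U.add_mem (hU.inv f (p.X_le_H hf) u hu) hu
    have h3 : f u + u ∈ p.D := p.X_perp hf (b_U p.lz hts hm hu)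
    obtain ⟨x, hxA, hx⟩ := h3
    have hxU : (x : G) ∈ pre p.lz U := (coe_mem_pre p.lz x).2 (by rw [hx]; exact h2)
    have h4 : f u + u = 0 ∨ f u + u = p.va := by
      rw [← hx]
      rcases eq_of_mem_D p hO hU hts hm hN hxU hxA with h5 | h5 | h5 | h5
      · left; exact p.lz.pr_eq_zero.2 (Or.inl h5)
      · left; exact p.lz.pr_eq_zero.2 (Or.inr h5)
      · right; exact p.lz.pr_eq_pr.2 (Or.inl h5)
      · right; exact p.lz.pr_eq_pr.2 (Or.inr h5)
    have e : f u = f u + u + u := by rw [add_assoc, p.lz.add_self, add_zero]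
    rcases h4 with h5 | h5
    · left; rw [e, h5, zero_add]
    · right; rw [e, h5, add_comm]
  have h2 : ∀ f : p.X, ∃ φ : Module.Dual (ZMod 2) U, ∀ u : U, (f : p.lz.V ≃ₗ[ZMod 2] p.lz.V) u =
      u + φ u • p.va := fun f => exists_fun p.lz p.va_ne _ (h1 f f.2)
  choose Φ hΦ using h2
  let N' : Submodule (ZMod 2) U := Submodule.span (ZMod 2) {(⟨p.va, hm⟩ : U)}
  have hne : (⟨p.va, hm⟩ : U) ≠ 0 := fun h3 => p.va_ne (congrArg Subtype.val h3)
  have hmem : ∀ f, Φ f ∈ N'.dualAnnihilator := by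
    intro f
    rw [Submodule.mem_dualAnnihilator]
    intro u hu
    obtain ⟨c, rfl⟩ := Submodule.mem_span_singleton.1 hu
    rw [map_smul]
    have h3 := hΦ f ⟨p.va, hm⟩
    rw [p.X_va f.2] at h3
    have h4 := left_eq_add.1 h3
    have h5 : Φ f ⟨p.va, hm⟩ = 0 := smul_inj p.va_ne (by rw [h4, zero_smul])
    rw [h5, smul_zero]
  have hinj : Function.Injective (fun f : p.X => (⟨Φ f, hmem f⟩ : N'.dualAnnihilator)) := by
    intro f g hfg
    have h3 : Φ f = Φ g := congrArg (fun t : N'.dualAnnihilator => t.1) hfg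
    have h4 : ((g : p.lz.V ≃ₗ[ZMod 2] p.lz.V)⁻¹ * f) = 1 := by
      apply faithful_X p hO hU.inv hm (mul_mem (inv_mem g.2) f.2)
      intro u hu
      show (g : p.lz.V ≃ₗ[ZMod 2] p.lz.V).symm ((f : p.lz.V ≃ₗ[ZMod 2] p.lz.V) u) = u
      rw [LinearEquiv.symm_apply_eq]
      have h5 := hΦ f ⟨u, hu⟩
      have h6 := hΦ g ⟨u, hu⟩
      rw [h3] at h5
      exact h5.trans h6.symm
    exact Subtype.ext (inv_mul_eq_one.1 h4).symm
  have hfinD : Finite (Module.Dual (ZMod 2) U) := Module.finite_of_finite (ZMod 2)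
  have h3 := Nat.card_le_card_of_injective _ hinj
  have h4 : 2 * Nat.card N'.dualAnnihilator = Nat.card U := by
    have hfin : Module.Finite (ZMod 2) U := Module.Finite.of_finite
    have h5 := Subspace.finrank_add_finrank_dualAnnihilator_eq N'
    rw [finrank_span_singleton hne] at h5
    rw [Module.natCard_eq_pow_finrank (K := ZMod 2) (V := N'.dualAnnihilator),
      Module.natCard_eq_pow_finrank (K := ZMod 2) (V := U), ← h5, pow_add, Nat.card_zmod, pow_one]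
  omega

/-- `|U|² = |V|` -/
theorem card_sq (hO : O2 p.lz) (hU : MinInv p.lz U) (hts : ∀ v ∈ U, p.lz.q v = 0) (hm : p.va ∈ U)
    (hN : ∀ g ∈ Subgroup.normalizer ((pre p.lz U : Subgroup G) : Set G), g * z = z * g) :
    Nat.card U * Nat.card U = Nat.card p.lz.V := by
  have h1 := card_X_le p hO hU hts hm hN
  have h2 := p.card_X
  have h3 := card_sq_le p.lz U (fun v hv w hw => b_U p.lz hts hv hw)
  have h4 := card_sq_le p.lz p.D (fun v hv w hw => p.b_D hv hw)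
  apply le_antisymm h3
  have hpos : 0 < Nat.card p.D := Nat.card_pos
  have hV : Nat.card p.lz.V ≤ Nat.card U * Nat.card p.D := by
    rw [← h2]
    calc Nat.card p.X * Nat.card p.D * 2 = (Nat.card p.X * 2) * Nat.card p.D := by ring
      _ ≤ Nat.card U * Nat.card p.D := Nat.mul_le_mul_right _ h1
  by_contra hlt
  push Not at hlt
  -- `|V|² ≤ |U|² |D|² < |V|²`
  have h5 : Nat.card p.lz.V * Nat.card p.lz.V ≤
      (Nat.card U * Nat.card U) * (Nat.card p.D * Nat.card p.D) := by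
    calc Nat.card p.lz.V * Nat.card p.lz.V ≤ (Nat.card U * Nat.card p.D) * (Nat.card U * Nat.card p.D) :=
          Nat.mul_le_mul hV hV
      _ = _ := by ring
  have h6 : (Nat.card U * Nat.card U) * (Nat.card p.D * Nat.card p.D) <
      Nat.card p.lz.V * Nat.card p.lz.V := by
    calc (Nat.card U * Nat.card U) * (Nat.card p.D * Nat.card p.D)
        < Nat.card p.lz.V * (Nat.card p.D * Nat.card p.D) :=
          Nat.mul_lt_mul_of_pos_right hlt (Nat.mul_pos hpos hpos)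
      _ ≤ _ := Nat.mul_le_mul_left _ h4
  omega

/-- `U = U^⊥` -/
theorem perp_of_card (h : Large Q z) {U : Submodule (ZMod 2) h.V} (hts : ∀ v ∈ U, h.q v = 0)
    (hc : Nat.card U * Nat.card U = Nat.card h.V) (v : h.V) : v ∈ U ↔ ∀ u ∈ U, h.b v u = 0 := by
  have h1 := card_perp h U
  rw [← hc] at h1
  have hpos : 0 < Nat.card U := Nat.card_pos
  have h2 : Nat.card (h.b.orthogonal U) = Nat.card U := Nat.eq_of_mul_eq_mul_left hpos h1
  have hle : U ≤ h.b.orthogonal U := fun u hu => (mem_perp h U).2 fun w hw => b_U h hts hw hu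
  have h3 : U = h.b.orthogonal U := by
    apply SetLike.coe_injective
    exact Set.eq_of_subset_of_ncard_le hle (by
      rw [← Nat.card_coe_set_eq, ← Nat.card_coe_set_eq]; exact h2.le) (Set.toFinite _)
  constructor
  · intro hv u hu
    exact b_U h hts hv hu
  · intro hv
    rw [h3, mem_perp]
    intro w hw
    rw [h.b_comm]; exact hv w hw

theorem alpha_gl (hO : O2 p.lz) (hU : MinInv p.lz U) (hts : ∀ v ∈ U, p.lz.q v = 0) (hm : p.va ∈ U)
    (hN : ∀ g ∈ Subgroup.normalizer ((pre p.lz U : Subgroup G) : Set G), g * z = z * g) :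
    GLCase p.lz U := by
  have hperp := perp_of_card p.lz hts (card_sq p hO hU hts hm hN)
  have hcj := cj_pre p hO hU hts hm
  refine ⟨hU.inv, hts, fun v hv => (hperp v).2 fun u hu => by rw [p.lz.b_comm]; exact hv u hu, ?_,
    fun f hf hfix => faithful_of_perp p.lz hO hU.inv hperp hf hfix⟩
  refine full_of_transvections p.lz ?_
  intro φ u hu hφ
  obtain ⟨x, hx, rfl⟩ := el_surj p.lz u
  have hx1 : x ≠ 1 := fun h1 => hu ((el_eq_zero p.lz hx).2 (Or.inl h1))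
  have hxz : x ≠ z := fun h1 => hu ((el_eq_zero p.lz hx).2 (Or.inr h1))
  obtain ⟨c, -, hc⟩ := exists_tr_aux p.lz (bp0 p.lz hU.inv hx (hcj x hx hx1) hxz) hO hU.inv hts hx φ (by
    intro y hy hyx
    rcases eq_of_mem p.lz hO hU hts hN hcj hx hx1 hxz hy hyx with h5 | h5 | h5 | h5
    · rw [(el_eq_zero p.lz hy).2 (Or.inl h5), map_zero]
    · rw [(el_eq_zero p.lz hy).2 (Or.inr h5), map_zero]
    · rw [(el_eq p.lz hy hx).2 (Or.inl h5), hφ]
    · rw [(el_eq p.lz hy hx).2 (Or.inr h5), hφ])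
  exact ⟨p.lz.act c, ⟨c, rfl⟩, hc⟩

/-- `|U| ≤ 8` -/
theorem alpha_card (hO : O2 p.lz) (hU : MinInv p.lz U) (hts : ∀ v ∈ U, p.lz.q v = 0) (hm : p.va ∈ U)
    (hN : ∀ g ∈ Subgroup.normalizer ((pre p.lz U : Subgroup G) : Set G), g * z = z * g) :
    Nat.card U ≤ 8 := by
  by_contra hcon
  push Not at hcon
  have gl := alpha_gl p hO hU hts hm hN
  have ha := a_mem_pre p hm
  obtain ⟨Ba, bp⟩ := exists_bpair p (cinv_pre p.lz hU.inv)
  obtain ⟨g, hg, hg1, hg2, hg3⟩ := exists_cycle p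
  -- `e ∈ U`, `e ≠ 0, ã`
  have hex : ∃ e : U, e ≠ 0 ∧ e ≠ ⟨p.va, hm⟩ := by
    by_contra hcon2
    push Not at hcon2
    have h1 : Function.Surjective (fun t : ZMod 2 => t • (⟨p.va, hm⟩ : U)) := by
      intro u
      by_cases hu : u = 0
      · exact ⟨0, by rw [hu]; exact zero_smul _ _⟩
      · exact ⟨1, by rw [hcon2 u hu]; exact one_smul _ _⟩
    have h2 := Nat.card_le_card_of_surjective _ h1
    rw [Nat.card_zmod] at h2
    omega
  obtain ⟨e, he0, hea⟩ := hex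
  obtain ⟨s, hs, rfl⟩ := el_surj p.lz e
  have hs1 : s ≠ 1 := fun h1 => he0 ((el_eq_zero p.lz hs).2 (Or.inl h1))
  have hsz : s ≠ z := fun h1 => he0 ((el_eq_zero p.lz hs).2 (Or.inr h1))
  have hsa : s ≠ a := fun h1 => hea ((el_eq p.lz hs ha).2 (Or.inl h1))
  have hsaz : s ≠ a * z := fun h1 => hea ((el_eq p.lz hs ha).2 (Or.inr h1))
  -- `x = s^g ∈ Ba`
  have hx : g * s * g⁻¹ ∈ Ba := by
    rw [bp.eq_map hg1]; exact conj_mem_map g hs
  have hxC : g * s * g⁻¹ ∈ Subgroup.centralizer ({z} : Set G) :=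
    Subgroup.mem_centralizer_singleton_iff.2 (mem_centralizer_of_Ba p.lz bp hts ha hx)
  have hxX : p.lz.act ⟨_, hxC⟩ ∈ p.X := p.mem_X.2 ⟨⟨_, hxC⟩, bp.cBa.le hx, rfl⟩
  obtain ⟨φ, hφ⟩ := exists_fun p.lz p.va_ne (p.lz.act ⟨_, hxC⟩) (fun u hu =>
    act_U p.lz bp hU.inv hts ha (c := ⟨_, hxC⟩) hx hu)
  have hφ0 : ∃ w, φ w = 1 := by
    by_contra hcon2
    push Not at hcon2
    have h1 := faithful_X p hO hU.inv hm hxX (fun u hu => by
      have h2 := hφ ⟨u, hu⟩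
      rw [(zmod_two _).resolve_right (hcon2 ⟨u, hu⟩), zero_smul, add_zero] at h2
      exact h2)
    have h2 := bp.mem_B ha hx (p.lz.mem_of_act _ h1)
    have hinj : ∀ {y : G}, g * s * g⁻¹ = g * y * g⁻¹ → s = y := fun h3 =>
      mul_left_cancel (mul_right_cancel h3)
    rcases eq_of_mem_D p hO hU hts hm hN h2 (bp.cBa.le hx) with h5 | h5 | h5 | h5
    · exact hs1 (hinj (by rw [h5]; group))
    · exact hsaz (hinj (by rw [h5, hg3]))
    · exact hsz (hinj (by rw [h5, hg1]))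
    · exact hsa (hinj (by rw [h5, hg2]))
  obtain ⟨w, hw⟩ := hφ0
  obtain ⟨ψ, v, hv, hψa, hψe, hψw⟩ := exists_dual_three hcon (⟨p.va, hm⟩ : U) (el p.lz hs) w
  obtain ⟨t, ht⟩ := GLGen.exists_isT ψ w hψw
  obtain ⟨f, hf, hft⟩ := gl.gl t
  have hfva : f p.va = p.va := by
    have h1 := hft ⟨p.va, hm⟩
    rw [ht, hψa, zero_smul, add_zero] at h1
    exact h1
  obtain ⟨c, hca, rfl⟩ := p.exists_lift hf hfva
  have hcz : (c : G) * z = z * c := Subgroup.mem_centralizer_singleton_iff.1 c.2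
  have hcs : (c : G) * s * (c : G)⁻¹ = s ∨ (c : G) * s * (c : G)⁻¹ = s * z := by
    apply conj_of_act p.lz hs hs
    rw [hft, ht, hψe, zero_smul, add_zero]
  obtain ⟨r, hr, hrX⟩ := act_RX p (comm_mem_RX p hcz hca hg)
  -- `(x^c)^{r⁻¹} ∈ {x, x a}`
  have hkey : (r : G)⁻¹ * ((c : G) * (g * s * g⁻¹) * (c : G)⁻¹) * r = g * s * g⁻¹ ∨
      (r : G)⁻¹ * ((c : G) * (g * s * g⁻¹) * (c : G)⁻¹) * r = g * s * g⁻¹ * a := by
    have e1 : (r : G)⁻¹ * ((c : G) * (g * s * g⁻¹) * (c : G)⁻¹) * r =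
        g * ((c : G) * s * (c : G)⁻¹) * g⁻¹ := by
      rw [hr]; group
    rw [e1]
    rcases hcs with h1 | h1
    · left; rw [h1]
    · right; rw [h1, ← hg1]; group
  have hact : p.lz.act r⁻¹ * (p.lz.act c * p.lz.act ⟨_, hxC⟩ * (p.lz.act c)⁻¹) * p.lz.act r =
      p.lz.act ⟨_, hxC⟩ := by
    rw [← map_inv p.lz.act c, ← map_mul, ← map_mul, ← map_mul, ← map_mul]
    rcases hkey with h1 | h1
    · congr 1
      exact Subtype.ext h1
    · have haC : a ∈ Subgroup.centralizer ({z} : Set G) :=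
        Subgroup.mem_centralizer_singleton_iff.2 p.comm_za
      have h2 : r⁻¹ * (c * ⟨_, hxC⟩ * c⁻¹) * r = ⟨_, hxC⟩ * (⟨a, haC⟩ : Subgroup.centralizer ({z} : Set G)) :=
        Subtype.ext h1
      rw [h2, map_mul, p.lz.act_mem ⟨a, haC⟩ p.a_mem, mul_one]
  have hcx : p.lz.act c * p.lz.act ⟨_, hxC⟩ * (p.lz.act c)⁻¹ = p.lz.act ⟨_, hxC⟩ := by
    have h1 : p.lz.act c * p.lz.act ⟨_, hxC⟩ * (p.lz.act c)⁻¹ ∈ p.X := p.X_normal ⟨c, rfl⟩ hfva hxX
    have h2 := p.X_comm h1 hrX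
    rw [map_inv, mul_assoc, h2, inv_mul_cancel_left] at hact
    exact hact
  have hcx' : p.lz.act c * p.lz.act ⟨_, hxC⟩ = p.lz.act ⟨_, hxC⟩ * p.lz.act c :=
    mul_inv_eq_iff_eq_mul.1 hcx
  -- `φ (t v) = φ v`
  have h1 : p.lz.act c (p.lz.act ⟨_, hxC⟩ (v : p.lz.V)) = p.lz.act ⟨_, hxC⟩ (p.lz.act c (v : p.lz.V)) :=
    congrArg (fun k : p.lz.V ≃ₗ[ZMod 2] p.lz.V => k (v : p.lz.V)) hcx'
  rw [hφ, map_add, map_smul, hfva, hft, hφ] at h1
  have h2 := smul_inj p.va_ne (add_left_cancel h1)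
  rw [ht, map_add, map_smul, hw, hv, one_smul] at h2
  have h3 : ∀ x : ZMod 2, x ≠ x + 1 := by decide
  exact h3 _ h2

/-- **[R8]** (A2): `N(pre U) = C_G(z)`. -/
theorem alpha_two (hO : O2 p.lz) (hU : MinInv p.lz U) (hts : ∀ v ∈ U, p.lz.q v = 0) (hm : p.va ∈ U)
    (hN : ∀ g ∈ Subgroup.normalizer ((pre p.lz U : Subgroup G) : Set G), g * z = z * g) :
    GLCase p.lz U ∧ Nat.card U ≤ 8 :=
  ⟨alpha_gl p hO hU hts hm hN, alpha_card p hO hU hts hm hN⟩

end

end Cfsg.Agent.LargeExtra.Red
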