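import Cfsg.Agent.LargeExtra.Red.AlphaTr

/-!
# S1761, case II, (A2), part 3: `|B ∩ Q_a| = 4` (helper622)

`B = pre U`, `U` minimal totally singular, `N(B) = C_G(z)`, some conjugate `a ≠ z` of `z` in `B`.
* `cj_of_mem`: `B^# ⊆ z^G`.
* `cover`: for `d ∈ B ∩ Q_a`, `d ∉ ⟨z, a⟩`: `B ⊆ Q_a ∪ Q_d ∪ Q_da`.
* `eq_of_mem`: `B ∩ Q_a = ⟨z, a⟩`.
-/

set_option autoImplicit false

namespace Cfsg.Agent.LargeExtra.Red

open Cfsg.Agent.Co2Type.Quad Cfsg.Agent.LargeExtra.Base Cfsg.Agent.LargeExtra.TwoCentral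
open Cfsg.Agent.LargeExtra.Siegel Cfsg.Agent.LargeExtra.SiegelOrbit Cfsg.Agent.LargeExtra.Local
open Cfsg.Agent.LargeExtra.Perp

variable {G : Type*} [Group G] {Q A B Ba : Subgroup G} {z a : G}

theorem cj_mul_z (h : Large Q z) {x : G} (hx : x ∈ Q) (hcx : Cj z x) (hxz : x ≠ z) : Cj z (x * z) :=
  cj_mul h (Cj.refl z) hcx (by rw [fam_self (CInv.self h)]; exact hx) hxz

section

variable (h : Large Q z) {U : Submodule (ZMod 2) h.V}

theorem bp0 (hU : Inv h U) {a : G} (ha : a ∈ pre h U) (hca : Cj z a) (haz : a ≠ z) :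
    BPair Q z (fam Q z a) a (pre h U) (fam (pre h U) z a) := by
  have cB := cinv_pre h hU
  have h1 := bpair_fam h cB (Cj.refl z) hca (by rw [fam_self (CInv.self h)]; exact pre_le h U ha) haz
  rwa [fam_self (CInv.self h), fam_self cB] at h1

/-- the transvections, in terms of elements of `B` -/
theorem exists_tr [Finite G] (hO : O2 h) (hU : Inv h U) (hts : ∀ v ∈ U, h.q v = 0) {a : G} (ha : a ∈ pre h U)
    (hca : Cj z a) (haz : a ≠ z) (φ : Module.Dual (ZMod 2) U)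
    (hφ : ∀ (x : G) (hx : x ∈ pre h U), x ∈ fam Q z a → φ (el h hx) = 0) :
    ∃ t ∈ fam (pre h U) z a, t * z = z * t ∧ ∀ (x : G) (hx : x ∈ pre h U),
      (φ (el h hx) = 0 → t * x * t⁻¹ = x ∨ t * x * t⁻¹ = x * z) ∧
      (φ (el h hx) = 1 → t * x * t⁻¹ = x * a ∨ t * x * t⁻¹ = x * a * z) := by
  obtain ⟨c, hc, hcu⟩ := exists_tr_aux h (bp0 h hU ha hca haz) hO hU hts ha φ hφ
  refine ⟨c, hc, Subgroup.mem_centralizer_singleton_iff.1 c.2, fun x hx => ⟨fun h1 => ?_, fun h1 => ?_⟩⟩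
  · have h2 := hcu (el h hx)
    rw [h1, zero_smul, add_zero] at h2
    exact conj_of_act h hx hx h2
  · have h2 := hcu (el h hx)
    rw [h1, one_smul] at h2
    have h3 : ((el h hx : U) : h.V) + h.pr ⟨a, pre_le h U ha⟩ = (el h (mul_mem hx ha) : U) := by
      rw [el_mul h hx ha]; rfl
    rw [h3] at h2
    exact conj_of_act h hx (mul_mem hx ha) h2

theorem comm_pre (hts : ∀ v ∈ U, h.q v = 0) {x y : G} (hx : x ∈ pre h U) (hy : y ∈ pre h U) : x * y = y * x :=
  (h.b_pr _ _).1 (b_U h hts ((coe_mem_pre h ⟨x, pre_le h U hx⟩).1 hx) ((coe_mem_pre h ⟨y, pre_le h U hy⟩).1 hy))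

/-- an element of `z^G ∩ B`, `y ∉ B ∩ Q_x`: functional separating -/
theorem exists_sep_fun {S : Subgroup G} (hz : z ∈ S) {y : G} (hy : y ∈ pre h U) (hyS : y ∉ S) :
    ∃ φ : Module.Dual (ZMod 2) U, φ (el h hy) = 1 ∧
      ∀ (x : G) (hx : x ∈ pre h U), x ∈ S → φ (el h hx) = 0 := by
  let N' : Submodule (ZMod 2) U := (sub h (pre h U ⊓ S)).comap U.subtype
  have hz' : z ∈ pre h U ⊓ S := Subgroup.mem_inf.2 ⟨z_mem_pre h U, hz⟩
  have hy' : el h hy ∉ N' := by
    intro h1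
    have h2 : h.pr ⟨y, pre_le h U hy⟩ ∈ sub h (pre h U ⊓ S) := h1
    exact hyS (Subgroup.mem_inf.1 ((pr_mem_sub h hz' ⟨y, pre_le h U hy⟩).1 h2)).2
  obtain ⟨φ, hφ, hφN⟩ := Submodule.exists_le_ker_of_notMem hy'
  refine ⟨φ, (zmod_two _).resolve_left hφ, fun x hx hxS => ?_⟩
  have h1 : el h hx ∈ N' := ⟨⟨x, pre_le h U hx⟩, Subgroup.mem_inf.2 ⟨hx, hxS⟩, rfl⟩
  exact hφN h1

/-- `B^# ⊆ z^G` -/
theorem cj_of_mem [Finite G] (hO : O2 h) (hU : MinInv h U) (hts : ∀ v ∈ U, h.q v = 0)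
    (hex : ∃ a ∈ pre h U, Cj z a ∧ a ≠ z) {x : G} (hx : x ∈ pre h U) (hx1 : x ≠ 1) : Cj z x := by
  have hsq : ∀ x ∈ pre h U, x * x = 1 := fun x hx => sq_of_mem_pre h hts hx
  have hsz : ∀ x : G, x * z * z = x := fun x => by rw [mul_assoc, h.z_sq, mul_one]
  let S : Subgroup G :=
    { carrier := {x | x ∈ pre h U ∧ (x = 1 ∨ Cj z x)}
      one_mem' := ⟨one_mem _, Or.inl rfl⟩
      inv_mem' := by
        rintro x ⟨hx, hx'⟩
        have : x⁻¹ = x := inv_eq_of_mul_eq_one_left (hsq x hx)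
        show x⁻¹ ∈ pre h U ∧ _
        rw [this]
        exact ⟨hx, hx'⟩
      mul_mem' := by
        rintro x y ⟨hx, hx'⟩ ⟨hy, hy'⟩
        refine ⟨mul_mem hx hy, ?_⟩
        rcases hx' with rfl | hcx
        · rw [one_mul]; exact hy'
        rcases hy' with rfl | hcy
        · rw [mul_one]; exact Or.inr hcx
        by_cases hxy : x = y
        · left; rw [hxy]; exact hsq y hy
        right
        by_cases hxz : x = z
        · subst hxz
          have hyx : y ≠ x := fun h1 => hxy h1.symm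
          rw [comm_pre h hts hx hy]
          exact cj_mul_z h (pre_le h U hy) hcy hyx
        by_cases hyz : y = z
        · subst hyz
          exact cj_mul_z h (pre_le h U hx) hcx hxz
        -- the pair `(z, x)`
        have bp := bp0 h hU.inv hx hcx hxz
        by_cases hyQ : y ∈ fam Q z x
        · rw [comm_pre h hts hx hy]
          exact cj_mul h hcx hcy hyQ (fun h1 => hxy h1.symm)
        · obtain ⟨φ, h1, h2⟩ := exists_sep_fun h bp.pair.z_mem hy hyQ
          obtain ⟨t, -, -, ht⟩ := exists_tr h hO hU.inv hts hx hcx hxz φ h2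
          rw [comm_pre h hts hx hy]
          rcases (ht y hy).2 h1 with h3 | h3
          · rw [← h3]; exact hcy.conj t
          · have h4 : Cj z (y * x * z) := by rw [← h3]; exact hcy.conj t
            have h5 : y * x * z ≠ z := by
              intro h6
              have h7 : y * x = 1 := mul_eq_right.1 h6
              apply hxy
              calc x = y * (y * x) := by rw [← mul_assoc, hsq y hy, one_mul]
                _ = y := by rw [h7, mul_one]
            have h6 := cj_mul_z h (mul_mem (pre_le h U (mul_mem hy hx)) h.z_mem) h4 h5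
            rwa [hsz] at h6 }
  have hS : S = pre h U := by
    refine (minN_pre h hU hts).irr S (fun x hx => hx.1) ⟨z_mem_pre h U, Or.inr (Cj.refl z)⟩ ?_ ?_
    · rintro c hc x ⟨hx, hx'⟩
      refine ⟨(cinv_pre h hU.inv).inv c hc x hx, ?_⟩
      rcases hx' with rfl | hx'
      · left; group
      · right; exact hx'.conj c
    · obtain ⟨a, ha, hca, haz⟩ := hex
      refine ⟨a, ⟨ha, Or.inr hca⟩, ?_, haz⟩
      obtain ⟨g, rfl⟩ := hca
      intro h1
      apply h.z_ne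
      calc z = g⁻¹ * (g * z * g⁻¹) * g := by group
        _ = 1 := by rw [h1]; group
  have h1 : x ∈ S := by rw [hS]; exact hx
  rcases h1.2 with h2 | h2
  · exact absurd h2 hx1
  · exact h2

/-- symmetry of `y ∈ Q_x` on `B` -/
theorem mem_symm (hcj : ∀ x ∈ pre h U, x ≠ 1 → Cj z x) {x y : G} (hx : x ∈ pre h U) (hx1 : x ≠ 1)
    (hy : y ∈ pre h U) (hy1 : y ≠ 1) (hyx : y ∈ fam Q z x) : x ∈ fam Q z y :=
  mem_fam_symm h (hcj x hx hx1) (hcj y hy hy1) hyx

/-- `c ∉ Q_a`, `d ∈ B ∩ Q_c`: `d ∈ Q_a` or `dc ∈ Q_a`. -/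
theorem mem_or [Finite G] (hO : O2 h) (hU : MinInv h U) (hts : ∀ v ∈ U, h.q v = 0)
    (hcj : ∀ x ∈ pre h U, x ≠ 1 → Cj z x) {a c d : G} (ha : a ∈ pre h U) (ha1 : a ≠ 1) (haz : a ≠ z)
    (hc : c ∈ pre h U) (hc1 : c ≠ 1) (hcz : c ≠ z) (hca : c ∉ fam Q z a) (hd : d ∈ pre h U)
    (hdc : d ∈ fam Q z c) : d ∈ fam Q z a ∨ d * c ∈ fam Q z a := by
  by_contra hcon
  push Not at hcon
  obtain ⟨hcon1, hcon2⟩ := hcon
  have hja := hcj a ha ha1
  have hjc := hcj c hc hc1
  have bpa := bp0 h hU.inv ha hja haz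
  have bpc := bp0 h hU.inv hc hjc hcz
  have hza := bpa.pair.z_mem
  have hzc := bpc.pair.z_mem
  -- a functional
  have hz' : z ∈ pre h U ⊓ fam Q z a := Subgroup.mem_inf.2 ⟨z_mem_pre h U, hza⟩
  let N' : Submodule (ZMod 2) U := (sub h (pre h U ⊓ fam Q z a)).comap U.subtype
  have hmem : ∀ (x : G) (hx : x ∈ pre h U), el h hx ∈ N' ↔ x ∈ fam Q z a := by
    intro x hx
    have h1 : el h hx ∈ N' ↔ h.pr ⟨x, pre_le h U hx⟩ ∈ sub h (pre h U ⊓ fam Q z a) := Iff.rfl
    rw [h1, pr_mem_sub h hz', Subgroup.mem_inf]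
    exact ⟨fun h => h.2, fun h => ⟨hx, h⟩⟩
  have hnot : el h hd ∉ N' ⊔ Submodule.span (ZMod 2) {el h hc} := by
    intro hm
    obtain ⟨n, hn, y, hy, hny⟩ := Submodule.mem_sup.1 hm
    obtain ⟨k, rfl⟩ := Submodule.mem_span_singleton.1 hy
    rcases zmod_two k with rfl | rfl
    · rw [zero_smul, add_zero] at hny
      rw [hny, hmem] at hn
      exact hcon1 hn
    · rw [one_smul] at hny
      have h1 : n = el h (mul_mem hd hc) := by
        rw [el_mul h hd hc, ← hny, add_assoc, GLGen.vadd_self, add_zero]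
      rw [h1, hmem] at hn
      exact hcon2 hn
  obtain ⟨θ, hθ, hθN⟩ := Submodule.exists_le_ker_of_notMem hnot
  have hθd : θ (el h hd) = 1 := (zmod_two _).resolve_left hθ
  have hθc : θ (el h hc) = 0 := hθN (Submodule.mem_sup_right (Submodule.mem_span_singleton_self _))
  obtain ⟨t, -, htz, ht⟩ := exists_tr h hO hU.inv hts ha hja haz θ
    (fun x hx hxa => hθN (Submodule.mem_sup_left ((hmem x hx).2 hxa)))
  -- `t d t⁻¹ ∈ Q_c`
  have h1 : t * d * t⁻¹ ∈ fam Q z (t * c * t⁻¹) := (conj_mem_fam (CInv.self h) hjc t).2 hdc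
  have h2 : t * d * t⁻¹ ∈ fam Q z c := by
    rcases (ht c hc).1 hθc with h3 | h3
    · rwa [h3] at h1
    · rw [h3] at h1
      have h4 : Cj z (c * z) := cj_mul_z h (pre_le h U hc) hjc hcz
      have h5 : c * z ≠ z := fun h6 => hc1 (mul_eq_right.1 h6)
      have h6 := mem_fam_mul h (Cj.refl z) h4 (d := t * d * t⁻¹)
        (by rw [fam_self (CInv.self h)]; exact mul_mem (pre_le h U hc) h.z_mem) h5
        (by rw [fam_self (CInv.self h)]; exact h.conj_mem t htz d (pre_le h U hd)) h1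
      rwa [mul_assoc, h.z_sq, mul_one] at h6
  have h3 : a ∈ fam Q z c := by
    have h4 : ∀ x : G, d⁻¹ * (d * x) = x := fun x => by group
    rcases (ht d hd).2 hθd with h5 | h5
    · rw [h5] at h2
      have := mul_mem (inv_mem hdc) h2
      rwa [h4] at this
    · rw [h5] at h2
      have h6 := mul_mem (mul_mem (inv_mem hdc) h2) hzc
      have e : d⁻¹ * (d * a * z) * z = a := by
        calc d⁻¹ * (d * a * z) * z = a * (z * z) := by group
          _ = a := by rw [h.z_sq, mul_one]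
      rwa [e] at h6
  exact hca (mem_symm h hcj hc hc1 ha ha1 h3)

/-- for `d ∈ B ∩ Q_a`, `d ∉ ⟨z, a⟩`: `B ⊆ Q_a ∪ Q_d ∪ Q_da` -/
theorem cover [Finite G] (hO : O2 h) (hU : MinInv h U) (hts : ∀ v ∈ U, h.q v = 0)
    (hcj : ∀ x ∈ pre h U, x ≠ 1 → Cj z x) {a d s : G} (ha : a ∈ pre h U) (ha1 : a ≠ 1) (haz : a ≠ z)
    (hd : d ∈ pre h U) (hda : d ∈ fam Q z a) (hd1 : d ≠ 1) (hdz : d ≠ z) (hd2 : d ≠ a) (hd3 : d ≠ a * z)
    (hs : s ∈ pre h U) : s ∈ fam Q z a ∨ s ∈ fam Q z d ∨ s ∈ fam Q z (d * a) := by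
  by_cases hsa : s ∈ fam Q z a
  · exact Or.inl hsa
  right
  have hja := hcj a ha ha1
  have bpa := bp0 h hU.inv ha hja haz
  have hs1 : s ≠ 1 := by rintro rfl; exact hsa (one_mem _)
  have hsz : s ≠ z := by rintro rfl; exact hsa bpa.pair.z_mem
  have has : a ∉ fam Q z s := fun h1 => hsa (mem_symm h hcj hs hs1 ha ha1 h1)
  have hda1 : d * a ≠ 1 := by
    intro h1
    apply hd2
    rw [eq_inv_of_mul_eq_one_left h1, inv_eq_of_mul_eq_one_left (sq_of_mem_pre h hts ha)]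
  rcases mem_or h hO hU hts hcj hs hs1 hsz ha ha1 haz has hd hda with h1 | h1
  · left; exact mem_symm h hcj hs hs1 hd hd1 h1
  · right; exact mem_symm h hcj hs hs1 (mul_mem hd ha) hda1 h1

/-- `B ∩ Q_a = ⟨z, a⟩` -/
theorem eq_of_mem [Finite G] (hO : O2 h) (hU : MinInv h U) (hts : ∀ v ∈ U, h.q v = 0)
    (hN : ∀ g ∈ Subgroup.normalizer ((pre h U : Subgroup G) : Set G), g * z = z * g)
    (hcj : ∀ x ∈ pre h U, x ≠ 1 → Cj z x) {a d : G} (ha : a ∈ pre h U) (ha1 : a ≠ 1) (haz : a ≠ z)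
    (hd : d ∈ pre h U) (hda : d ∈ fam Q z a) : d = 1 ∨ d = z ∨ d = a ∨ d = a * z := by
  by_contra hcon
  push Not at hcon
  obtain ⟨hd1, hdz, hd2, hd3⟩ := hcon
  have cB := cinv_pre h hU.inv
  have cQ := CInv.self h
  have hja := hcj a ha ha1
  have bpa := bp0 h hU.inv ha hja haz
  have hsq : ∀ x ∈ pre h U, x * x = 1 := fun x hx => sq_of_mem_pre h hts hx
  have hjd := hcj d hd hd1
  have bpd := bp0 h hU.inv hd hjd hdz
  have hQz : fam Q z z = Q := fam_self cQ
  have hBz : fam (pre h U) z z = pre h U := fam_self cB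
  have hza := bpa.z_mem_Ba ha
  have hdBa : d ∈ fam (pre h U) z a := bpa.mem_Ba ha hd hda
  have haa : a * a = 1 := hsq a ha
  have hmulz : ∀ x : G, x * z * z = x := fun x => by rw [mul_assoc, h.z_sq, mul_one]
  -- elements of `B` lie in two `B_*`
  have fz : ∀ {s e : G}, s ∈ pre h U → e ∈ pre h U → e ≠ 1 → e ≠ z → s ∈ fam Q z e →
      s ∈ fam (pre h U) z e ∧ s ∈ fam (pre h U) z (e * z) := by
    intro s e hs he he1 hez hse
    have hje := hcj e he he1
    refine ⟨(bp0 h hU.inv he hje hez).mem_Ba he hs hse, ?_⟩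
    have h1 : Cj z (e * z) := cj_mul_z h (pre_le h U he) hje hez
    have h2 : e * z ≠ z := fun h3 => he1 (mul_eq_right.1 h3)
    have h3 := mem_fam_mul h (Cj.refl z) hje (d := s) (by rw [hQz]; exact pre_le h U he) hez
      (by rw [hQz]; exact pre_le h U hs) hse
    exact (bp0 h hU.inv (mul_mem he (z_mem_pre h U)) h1 h2).mem_Ba (mul_mem he (z_mem_pre h U)) hs h3
  -- the same for `B_a`
  obtain ⟨g, hg⟩ := hja
  have fz' : ∀ {x e : G}, x ∈ fam (pre h U) z a → e ∈ fam (pre h U) z a → e ≠ 1 → e ≠ a → x ∈ fam Q z e →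
      x ∈ fam (pre h U) z e ∧ x ∈ fam (pre h U) z (e * a) := by
    intro x e hx he he1 hea hxe
    have e1 : ∀ y : G, g * (g⁻¹ * y * g) * g⁻¹ = y := fun y => by group
    have hx' : g⁻¹ * x * g ∈ pre h U := by
      have h1 := (conj_mem_fam cB (Cj.refl z) g (x := g⁻¹ * x * g)).1 (by rw [e1, hg]; exact hx)
      rwa [hBz] at h1
    have he' : g⁻¹ * e * g ∈ pre h U := by
      have h1 := (conj_mem_fam cB (Cj.refl z) g (x := g⁻¹ * e * g)).1 (by rw [e1, hg]; exact he)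
      rwa [hBz] at h1
    have he1' : g⁻¹ * e * g ≠ 1 := by
      intro h1
      apply he1
      rw [← e1 e, h1]; group
    have hez' : g⁻¹ * e * g ≠ z := by
      intro h1
      apply hea
      rw [← e1 e, h1, hg]
    have hje' := hcj _ he' he1'
    have hxe' : g⁻¹ * x * g ∈ fam Q z (g⁻¹ * e * g) := by
      apply (conj_mem_fam cQ hje' g).1
      rw [e1, e1]; exact hxe
    obtain ⟨h1, h2⟩ := fz hx' he' he1' hez' hxe'
    have h3 := (conj_mem_fam cB hje' g).2 h1
    have h4 := (conj_mem_fam cB (cj_mul_z h (pre_le h U he') hje' hez') g).2 h2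
    rw [e1, e1] at h3
    have e2 : g * (g⁻¹ * e * g * z) * g⁻¹ = e * a := by rw [← hg]; group
    rw [e1, e2] at h4
    exact ⟨h3, h4⟩
  have hja : Cj z a := ⟨g, hg⟩
  -- the cover of `B_a`
  have hcov : ∀ x ∈ fam (pre h U) z a, x ∉ Q → x ∈ fam Q z d ∨ x ∈ fam Q z (d * z) := by
    intro x hx hxQ
    have e1 : ∀ y : G, g * (g⁻¹ * y * g) * g⁻¹ = y := fun y => by group
    have htr : ∀ y ∈ fam (pre h U) z a, g⁻¹ * y * g ∈ pre h U := by
      intro y hy
      have h1 := (conj_mem_fam cB (Cj.refl z) g (x := g⁻¹ * y * g)).1 (by rw [e1, hg]; exact hy)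
      rwa [hBz] at h1
    have hinj : ∀ {y w : G}, g⁻¹ * y * g = g⁻¹ * w * g → y = w := by
      intro y w hyw
      rw [← e1 y, hyw, e1]
    have ez : g⁻¹ * a * g = z := by rw [← hg]; group
    have hz1 : g⁻¹ * z * g ≠ 1 := by
      intro h1
      apply h.z_ne
      rw [← e1 z, h1]; group
    have hzz : g⁻¹ * z * g ≠ z := by
      intro h1
      apply haz
      rw [← hg]
      nth_rewrite 1 [← h1]
      exact e1 z
    have hd1' : g⁻¹ * d * g ≠ 1 := by
      intro h1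
      apply hd1
      rw [← e1 d, h1]; group
    have hdz' : g⁻¹ * d * g ≠ z := by
      intro h1
      exact hd2 (hinj (h1.trans ez.symm))
    have hd2' : g⁻¹ * d * g ≠ g⁻¹ * z * g := fun h1 => hdz (hinj h1)
    have hd3' : g⁻¹ * d * g ≠ g⁻¹ * z * g * z := by
      intro h1
      apply hd3
      have h2 : g⁻¹ * z * g * z = g⁻¹ * (z * a) * g := by
        nth_rewrite 2 [← ez]; group
      rw [h2] at h1
      rw [hinj h1]
      exact comm_pre h hts (z_mem_pre h U) ha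
    have hzj := hcj _ (htr z hza) hz1
    have hdj := hcj _ (htr d hdBa) hd1'
    have hdQ : g⁻¹ * d * g ∈ fam Q z (g⁻¹ * z * g) := by
      apply (conj_mem_fam cQ hzj g).1
      rw [e1, e1, hQz]; exact pre_le h U hd
    rcases cover h hO hU hts hcj (htr z hza) hz1 hzz (htr d hdBa) hdQ hd1' hdz' hd2' hd3' (htr x hx) with
      h1 | h1 | h1
    · exfalso
      have h2 := (conj_mem_fam cQ hzj g).2 h1
      rw [e1, e1, hQz] at h2
      exact hxQ h2
    · left
      have h2 := (conj_mem_fam cQ hdj g).2 h1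
      rwa [e1, e1] at h2
    · right
      have h3 : g⁻¹ * d * g * (g⁻¹ * z * g) = g⁻¹ * (d * z) * g := by group
      rw [h3] at h1
      have h4 : Cj z (g⁻¹ * (d * z) * g) := by
        have h5 := (cj_mul_z h (pre_le h U hd) hjd hdz).conj g⁻¹
        rwa [inv_inv] at h5
      have h2 := (conj_mem_fam cQ h4 g).2 h1
      rwa [e1, e1] at h2
  -- `B_e` is abelian
  have hab : ∀ {e x y : G}, Cj z e → x ∈ fam (pre h U) z e → y ∈ fam (pre h U) z e → x * y = y * x := by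
    rintro _ x y ⟨k, rfl⟩ hx hy
    rw [fam_conj cB, mem_map_conj] at hx hy
    have h1 := comm_pre h hts hx hy
    calc x * y = k * ((k⁻¹ * x * k) * (k⁻¹ * y * k)) * k⁻¹ := by group
      _ = k * ((k⁻¹ * y * k) * (k⁻¹ * x * k)) * k⁻¹ := by rw [h1]
      _ = y * x := by group
  have hza' : z * a = a * z := comm_pre h hts (z_mem_pre h U) ha
  have hda1 : d * a ≠ 1 := by
    intro h1
    apply hd2
    rw [eq_inv_of_mul_eq_one_left h1, inv_eq_of_mul_eq_one_left haa]
  have hdaz : d * a ≠ z := by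
    intro h1
    apply hd3
    calc d = d * a * a := by rw [mul_assoc, haa, mul_one]
      _ = z * a := by rw [h1]
      _ = a * z := hza'
  have hdz1 : d * z ≠ 1 := by
    intro h1
    apply hdz
    rw [eq_inv_of_mul_eq_one_left h1, h.z_inv]
  have hdza : d * z ≠ a := by
    intro h1
    apply hd3
    rw [← h1, hmulz]
  have hjda := hcj _ (mul_mem hd ha) hda1
  have hjdz := cj_mul_z h (pre_le h U hd) hjd hdz
  have hjdaz := cj_mul_z h (pre_le h U (mul_mem hd ha)) hjda hdaz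
  -- `[B, B_a] = 1`
  have hcomm : ∀ s ∈ pre h U, ∀ x ∈ fam (pre h U) z a, s * x = x * s := by
    intro s hs x hx
    by_cases hsa : s ∈ fam Q z a
    · exact hab hja (bpa.mem_Ba ha hs hsa) hx
    by_cases hxQ : x ∈ Q
    · exact comm_pre h hts hs (bpa.mem_B ha hx hxQ)
    have hS := (cover h hO hU hts hcj ha ha1 haz hd hda hd1 hdz hd2 hd3 hs).resolve_left hsa
    have hX := hcov x hx hxQ
    have hX1 : x ∈ fam Q z d → x ∈ fam (pre h U) z d ∧ x ∈ fam (pre h U) z (d * a) :=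
      fun h1 => fz' hx hdBa hd1 hd2 h1
    have hX2 : x ∈ fam Q z (d * z) → x ∈ fam (pre h U) z (d * z) ∧ x ∈ fam (pre h U) z (d * z * a) :=
      fun h1 => fz' hx (mul_mem hdBa hza) hdz1 hdza h1
    have e3 : d * z * a = d * a * z := by rw [mul_assoc, hza', mul_assoc]
    rcases hS with hS | hS
    · obtain ⟨s1, s2⟩ := fz hs hd hd1 hdz hS
      rcases hX with hX | hX
      · exact hab hjd s1 (hX1 hX).1
      · exact hab hjdz s2 (hX2 hX).1
    · obtain ⟨s1, s2⟩ := fz hs (mul_mem hd ha) hda1 hdaz hS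
      rcases hX with hX | hX
      · exact hab hjda s1 (hX1 hX).2
      · have h1 := (hX2 hX).2
        rw [e3] at h1
        exact hab hjdaz s2 h1
  -- so `B_a ≤ Q`
  have hle : fam (pre h U) z a ≤ pre h U := by
    intro x hx
    have hxz := mem_centralizer_of_Ba h bpa hts ha hx
    have hxC : x ∈ Subgroup.centralizer ({z} : Set G) := Subgroup.mem_centralizer_singleton_iff.2 hxz
    have h1 := faithful_X bpa.pair hO hU.inv ((coe_mem_pre h ⟨a, pre_le h U ha⟩).1 ha)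
      (f := h.act ⟨x, hxC⟩) (bpa.pair.mem_X.2 ⟨⟨x, hxC⟩, bpa.cBa.le hx, rfl⟩) (by
        intro u hu
        obtain ⟨s, rfl⟩ := h.pr_surjective u
        refine Pair.act_pr_coe h _ s s ?_
        show x * (s : G) * x⁻¹ = s
        rw [← hcomm s ((coe_mem_pre h s).2 hu) x hx]; group)
    exact bpa.mem_B ha hx (h.mem_of_act _ h1)
  have heq : fam (pre h U) z a = pre h U := by
    have hc : Nat.card (fam (pre h U) z a) = Nat.card (pre h U) := by
      obtain ⟨k, -, -, h3, -⟩ := bpa.swap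
      rw [h3]
      exact Subgroup.card_map_of_injective (MulAut.conj k).injective
    exact Subgroup.eq_of_le_of_card_ge hle hc.ge
  exact bpa.not_le ha hN (by rw [← heq]; exact bpa.cBa.le)

end

end Cfsg.Agent.LargeExtra.Red
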