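import Cfsg.Agent.LargeExtra.Red.Alpha1

/-!
# S1761, case II, (A2), part 1: the conjugates `Q_p`, `B_p` for `p ∈ z^G` (helper622)

* `fam B z p = B^g` for `p = z^g`; `large_fam`, `cinv_fam`, `pair_fam`, `bpair_fam`.
* `BPair.mem_Ba`: for `a ∈ B`: `B ∩ Q_a ≤ B_a`; `inf_le_fam`: `Q ∩ Q_a ≤ Q_az`.
* `faithful_X`: `X` is faithful on `U` when `ã ∈ U`.
-/

set_option autoImplicit false

namespace Cfsg.Agent.LargeExtra.Red

open Cfsg.Agent.Co2Type.Quad Cfsg.Agent.LargeExtra.Base Cfsg.Agent.LargeExtra.TwoCentral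
open Cfsg.Agent.LargeExtra.Siegel Cfsg.Agent.LargeExtra.SiegelOrbit Cfsg.Agent.LargeExtra.Local
open Cfsg.Agent.LargeExtra.Perp

variable {G : Type*} [Group G] {Q A B Ba : Subgroup G} {z a : G}

/-- `B^g` for `p = z^g` -/
noncomputable def fam (B : Subgroup G) (z p : G) : Subgroup G :=
  open Classical in
  if h : ∃ g : G, g * z * g⁻¹ = p then B.map (MulAut.conj h.choose).toMonoidHom else ⊥

/-- `p` is a conjugate of `z` -/
def Cj (z p : G) : Prop := ∃ g : G, g * z * g⁻¹ = p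

theorem Cj.refl (z : G) : Cj z z := ⟨1, by group⟩

theorem Cj.conj {z p : G} (h : Cj z p) (g : G) : Cj z (g * p * g⁻¹) := by
  obtain ⟨k, rfl⟩ := h
  exact ⟨g * k, by group⟩

theorem Cj.exists {z p q : G} (hp : Cj z p) (hq : Cj z q) : ∃ g : G, g * p * g⁻¹ = q := by
  obtain ⟨k, rfl⟩ := hp
  obtain ⟨l, rfl⟩ := hq
  exact ⟨l * k⁻¹, by group⟩

theorem CInv.self (h : Large Q z) : CInv Q z Q := ⟨le_rfl, h.z_mem, h.conj_mem⟩

theorem fam_conj (hB : CInv Q z B) (g : G) :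
    fam B z (g * z * g⁻¹) = B.map (MulAut.conj g).toMonoidHom := by
  have hex : ∃ k : G, k * z * k⁻¹ = g * z * g⁻¹ := ⟨g, rfl⟩
  rw [fam, dif_pos hex]
  exact hB.map_eq hex.choose_spec

theorem map_one_conj (B : Subgroup G) : B.map (MulAut.conj (1 : G)).toMonoidHom = B := by
  ext x
  rw [mem_map_conj]
  simp

theorem fam_self (hB : CInv Q z B) : fam B z z = B := by
  have h1 := fam_conj hB (1 : G)
  have e : (1 : G) * z * (1 : G)⁻¹ = z := by group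
  rwa [e, map_one_conj] at h1

theorem map_map_conj (B : Subgroup G) (g k : G) :
    (B.map (MulAut.conj k).toMonoidHom).map (MulAut.conj g).toMonoidHom =
      B.map (MulAut.conj (g * k)).toMonoidHom := by
  ext x
  rw [mem_map_conj, mem_map_conj, mem_map_conj]
  have : k⁻¹ * (g⁻¹ * x * g) * k = (g * k)⁻¹ * x * (g * k) := by group
  rw [this]

theorem fam_conj' (hB : CInv Q z B) {p : G} (hp : Cj z p) (g : G) :
    fam B z (g * p * g⁻¹) = (fam B z p).map (MulAut.conj g).toMonoidHom := by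
  obtain ⟨k, rfl⟩ := hp
  have e : g * (k * z * k⁻¹) * g⁻¹ = (g * k) * z * (g * k)⁻¹ := by group
  rw [e, fam_conj hB, fam_conj hB, map_map_conj]

/-- membership in a conjugate -/
theorem conj_mem_fam (hB : CInv Q z B) {p : G} (hp : Cj z p) (g : G) {x : G} :
    g * x * g⁻¹ ∈ fam B z (g * p * g⁻¹) ↔ x ∈ fam B z p := by
  rw [fam_conj' hB hp, mem_map_conj]
  have : g⁻¹ * (g * x * g⁻¹) * g = x := by group
  rw [this]

theorem large_fam (h : Large Q z) {p : G} (hp : Cj z p) : Large (fam Q z p) p := by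
  obtain ⟨k, rfl⟩ := hp
  rw [fam_conj (CInv.self h)]
  exact h.conj k

theorem cinv_fam (h : Large Q z) (hB : CInv Q z B) {p : G} (hp : Cj z p) :
    CInv (fam Q z p) p (fam B z p) := by
  obtain ⟨k, rfl⟩ := hp
  rw [fam_conj (CInv.self h), fam_conj hB]
  exact hB.conj k

theorem pair_fam (h : Large Q z) {p q : G} (hp : Cj z p) (hq : Cj z q) (hqp : q ∈ fam Q z p) (hne : q ≠ p) :
    Pair (fam Q z p) p (fam Q z q) q := by
  obtain ⟨g, rfl⟩ := hp.exists hq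
  have h1 := pair_of_conj (large_fam h hp) hqp hne
  rwa [← fam_conj' (CInv.self h) hp] at h1

theorem bpair_fam (h : Large Q z) (hB : CInv Q z B) {p q : G} (hp : Cj z p) (hq : Cj z q)
    (hqp : q ∈ fam Q z p) (hne : q ≠ p) :
    BPair (fam Q z p) p (fam Q z q) q (fam B z p) (fam B z q) := by
  obtain ⟨Ba, hBa⟩ := exists_bpair (pair_fam h hp hq hqp hne) (cinv_fam h hB hp)
  have h1 : Ba = fam B z q := by
    obtain ⟨g, h1, -, h3, -⟩ := hBa.swap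
    rw [h3, ← fam_conj' hB hp, h1]
  rwa [h1] at hBa

/-- `q ∈ Q_p ↔ p ∈ Q_q` -/
theorem mem_fam_symm (h : Large Q z) {p q : G} (hp : Cj z p) (hq : Cj z q) (hqp : q ∈ fam Q z p) :
    p ∈ fam Q z q := by
  by_cases hne : q = p
  · subst hne; exact hqp
  · exact (pair_fam h hp hq hqp hne).z_mem

/-- the product of two commuting elements of `z^G` with `q ∈ Q_p` -/
theorem cj_mul (h : Large Q z) {p q : G} (hp : Cj z p) (hq : Cj z q) (hqp : q ∈ fam Q z p) (hne : q ≠ p) :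
    Cj z (q * p) := by
  obtain ⟨g, -, h2, -⟩ := (pair_fam h hp hq hqp hne).cycle
  rw [← h2]
  exact hq.conj g

/-! ### pairs with `a ∈ B` -/

/-- `B ∩ Q_a ≤ B_a` -/
theorem BPair.mem_Ba (p : BPair Q z A a B Ba) (ha : a ∈ B) {d : G} (hd : d ∈ B) (hdA : d ∈ A) : d ∈ Ba := by
  obtain ⟨g, hg, h1, -, -⟩ := exists_cycle p.pair
  have hS : B ⊓ A ≤ Q ⊓ A := inf_le_inf_right _ p.cB.le
  have h2 := norm_of_le p.pair hS (Subgroup.mem_inf.2 ⟨p.cB.z_mem, p.pair.z_mem⟩)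
    (Subgroup.mem_inf.2 ⟨ha, p.pair.la.z_mem⟩) g⁻¹ (inv_mem hg) d (Subgroup.mem_inf.2 ⟨hd, hdA⟩)
  rw [p.eq_map h1, mem_map_conj]
  have := (Subgroup.mem_inf.1 h2).1
  rwa [inv_inv] at this

theorem BPair.z_mem_Ba (p : BPair Q z A a B Ba) (ha : a ∈ B) : z ∈ Ba := p.mem_Ba ha p.cB.z_mem p.pair.z_mem

/-- `B_a ∩ Q ≤ B` -/
theorem BPair.mem_B (p : BPair Q z A a B Ba) (ha : a ∈ B) {d : G} (hd : d ∈ Ba) (hdQ : d ∈ Q) : d ∈ B :=
  p.symm.mem_Ba (p.z_mem_Ba ha) hd hdQ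

/-- `Q ∩ Q_a ≤ Q_az` -/
theorem mem_fam_mul (h : Large Q z) {p q d : G} (hp : Cj z p) (hq : Cj z q) (hqp : q ∈ fam Q z p) (hne : q ≠ p)
    (hd : d ∈ fam Q z p) (hdq : d ∈ fam Q z q) : d ∈ fam Q z (q * p) := by
  have hpr := pair_fam h hp hq hqp hne
  obtain ⟨y, hy, hya⟩ := exists_y hpr
  rw [← hya, fam_conj' (CInv.self h) hq, mem_map_conj]
  have h1 := norm_D hpr (Subgroup.mem_sup_left (inv_mem hy)) (Subgroup.mem_inf.2 ⟨hd, hdq⟩)
  have h2 := (Subgroup.mem_inf.1 h1).2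
  rwa [inv_inv] at h2

/-- if `B ≤ Q_a` then `N(B)` moves `z` -/
theorem BPair.not_le [Finite G] (p : BPair Q z A a B Ba) (ha : a ∈ B)
    (hN : ∀ g ∈ Subgroup.normalizer (B : Set G), g * z = z * g) : ¬ B ≤ A := by
  intro hle
  obtain ⟨g, hg, h1, -, -⟩ := exists_cycle p.pair
  have h2 : ∀ g ∈ Q ⊔ A, ∀ d ∈ B, g * d * g⁻¹ ∈ B :=
    norm_of_le p.pair (le_inf p.cB.le hle) p.cB.z_mem ha
  have h3 : g ∈ Subgroup.normalizer (B : Set G) := by
    rw [Subgroup.mem_normalizer_iff]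
    intro d
    refine ⟨h2 g hg d, fun hd => ?_⟩
    have h4 := h2 g⁻¹ (inv_mem hg) _ hd
    have e : g⁻¹ * (g * d * g⁻¹) * g⁻¹⁻¹ = d := by group
    rwa [e] at h4
  have h4 := hN g h3
  apply p.pair.ne
  rw [← h1, h4]; group

/-! ### `X` is faithful on `U ∋ ã` -/

/-- `X ∩ C_H(U) = 1` -/
theorem faithful_X [Finite G] (p : Pair Q z A a) (hO : O2 p.lz) {U : Submodule (ZMod 2) p.lz.V}
    (hU : Inv p.lz U) (hm : p.va ∈ U) {f : p.lz.V ≃ₗ[ZMod 2] p.lz.V} (hf : f ∈ p.X)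
    (hfix : ∀ u ∈ U, f u = u) : f = 1 := by
  classical
  -- `L = C_H(U)`
  let L : Subgroup (p.lz.V ≃ₗ[ZMod 2] p.lz.V) :=
    { carrier := {g | g ∈ p.lz.act.range ∧ ∀ u ∈ U, g u = u}
      one_mem' := ⟨one_mem _, fun _ _ => rfl⟩
      mul_mem' := by
        rintro a b ⟨ha, ha'⟩ ⟨hb, hb'⟩
        refine ⟨mul_mem ha hb, fun u hu => ?_⟩
        show a (b u) = u
        rw [hb' u hu, ha' u hu]
      inv_mem' := by
        rintro a ⟨ha, ha'⟩
        refine ⟨inv_mem ha, fun u hu => ?_⟩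
        show a.symm u = u
        rw [LinearEquiv.symm_apply_eq, ha' u hu] }
  have hLn : ∀ g ∈ p.lz.act.range, ∀ l ∈ L, g * l * g⁻¹ ∈ L := by
    rintro g hg l ⟨hl, hl'⟩
    refine ⟨mul_mem (mul_mem hg hl) (inv_mem hg), fun u hu => ?_⟩
    show g (l (g.symm u)) = u
    have h1 : g.symm u ∈ U := hU _ (inv_mem hg) u hu
    rw [hl' _ h1, LinearEquiv.apply_symm_apply]
  let O : Subgroup (p.lz.V ≃ₗ[ZMod 2] p.lz.V) := (Cfsg.pCore 2 L).map L.subtype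
  have hOn : ∀ g ∈ p.lz.act.range, ∀ x ∈ O, g * x * g⁻¹ ∈ O := by
    rintro g hg _ ⟨x, hx, rfl⟩
    let e : L ≃* L :=
      { toFun := fun k => ⟨g * k * g⁻¹, hLn g hg k k.2⟩
        invFun := fun k => ⟨g⁻¹ * k * g, by
          have := hLn _ (inv_mem hg) k k.2
          rwa [inv_inv] at this⟩
        left_inv := fun k => Subtype.ext (by
          show g⁻¹ * (g * k * g⁻¹) * g = (k : p.lz.V ≃ₗ[ZMod 2] p.lz.V)
          group)
        right_inv := fun k => Subtype.ext (by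
          show g * (g⁻¹ * k * g) * g⁻¹ = (k : p.lz.V ≃ₗ[ZMod 2] p.lz.V)
          group)
        map_mul' := fun k l => Subtype.ext (by
          show g * ((k : p.lz.V ≃ₗ[ZMod 2] p.lz.V) * l) * g⁻¹ = g * k * g⁻¹ * (g * l * g⁻¹)
          group) }
    refine ⟨e x, ?_, rfl⟩
    rw [← Cfsg.Agent.Lib.Cores.map_equiv_pCore e 2]
    exact ⟨x, hx, rfl⟩
  have hfL : f ∈ L := ⟨p.X_le_H hf, hfix⟩
  have hfO : f ∈ O := by
    refine ⟨⟨f, hfL⟩, ?_, rfl⟩
    refine Cfsg.Agent.Lib.Cores.le_pCore (N := p.X.subgroupOf L) ⟨fun t ht k => ?_⟩ ?_ (x := ⟨f, hfL⟩) hf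
    · rw [Subgroup.mem_subgroupOf] at ht ⊢
      exact p.X_normal k.2.1 (k.2.2 _ hm) ht
    · refine IsPGroup.comap_subtype (H := p.X) fun x => ⟨1, ?_⟩
      rw [pow_one, pow_two]
      exact Subtype.ext (p.X_sq x.2)
  refine eq_one_of_normal p.lz hO (N := O) ?_ hOn ?_ hfO
  · rintro _ ⟨x, -, rfl⟩
    exact x.2.1
  · rintro _ ⟨x, hx, rfl⟩
    obtain ⟨k, hk⟩ := Cfsg.Agent.Lib.Cores.pCore_isPGroup (G := L) 2 ⟨x, hx⟩
    refine ⟨k, ?_⟩
    have h1 := congrArg (fun t : Cfsg.pCore 2 L => ((t : L) : p.lz.V ≃ₗ[ZMod 2] p.lz.V)) hk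
    exact h1

end Cfsg.Agent.LargeExtra.Red
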