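import Cfsg.Agent.LargeExtra.Red.AlphaFam

/-!
# S1761, case II, (A2), part 2: the transvections induced by `B_a` (helper622)

`B = pre U`, `a ∈ B` a conjugate of `z`, `a ≠ z`: `B_a` induces on `U` exactly the transvections with centre `ã`
whose axis contains `B ∩ Q_a / ⟨z⟩` (`exists_tr`).
-/

set_option autoImplicit false

namespace Cfsg.Agent.LargeExtra.Red

open Cfsg.Agent.Co2Type.Quad Cfsg.Agent.LargeExtra.Base Cfsg.Agent.LargeExtra.TwoCentral
open Cfsg.Agent.LargeExtra.Siegel Cfsg.Agent.LargeExtra.SiegelOrbit Cfsg.Agent.LargeExtra.Local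
open Cfsg.Agent.LargeExtra.Perp

variable {G : Type*} [Group G] {Q A B Ba : Subgroup G} {z a : G}

/-! ### elements of `U` -/

section el

variable (h : Large Q z) {U : Submodule (ZMod 2) h.V}

/-- the vector of `x ∈ pre U` -/
def el {x : G} (hx : x ∈ pre h U) : U := ⟨h.pr ⟨x, pre_le h U hx⟩, (coe_mem_pre h ⟨x, pre_le h U hx⟩).1 hx⟩

theorem coe_el {x : G} (hx : x ∈ pre h U) : ((el h hx : U) : h.V) = h.pr ⟨x, pre_le h U hx⟩ := rfl

theorem el_mul {x y : G} (hx : x ∈ pre h U) (hy : y ∈ pre h U) :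
    el h (mul_mem hx hy) = el h hx + el h hy := Subtype.ext (h.pr_mul ⟨x, _⟩ ⟨y, _⟩)

theorem el_surj (u : U) : ∃ (x : G) (hx : x ∈ pre h U), el h hx = u := by
  obtain ⟨x, hx⟩ := h.pr_surjective (u : h.V)
  refine ⟨x, (coe_mem_pre h x).2 (by rw [hx]; exact u.2), Subtype.ext hx⟩

theorem el_eq {x y : G} (hx : x ∈ pre h U) (hy : y ∈ pre h U) : el h hx = el h hy ↔ x = y ∨ x = y * z := by
  rw [Subtype.ext_iff]
  exact h.pr_eq_pr

theorem el_eq_zero {x : G} (hx : x ∈ pre h U) : el h hx = 0 ↔ x = 1 ∨ x = z := by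
  rw [Subtype.ext_iff]
  exact h.pr_eq_zero

theorem act_el {c : Subgroup.centralizer ({z} : Set G)} {x y : G} (hx : x ∈ pre h U) (hy : y ∈ pre h U)
    (hc : (c : G) * x * (c : G)⁻¹ = y) : h.act c (el h hx : U) = (el h hy : U) :=
  Pair.act_pr_coe h c ⟨x, _⟩ ⟨y, _⟩ hc

/-- from the action on `U` back to the group -/
theorem conj_of_act {c : Subgroup.centralizer ({z} : Set G)} {x y : G} (hx : x ∈ pre h U) (hy : y ∈ pre h U)
    (hc : h.act c (el h hx : U) = (el h hy : U)) :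
    (c : G) * x * (c : G)⁻¹ = y ∨ (c : G) * x * (c : G)⁻¹ = y * z := by
  rw [coe_el, coe_el, h.act_pr, h.pr_eq_pr] at hc
  exact hc

end el

/-- `b` vanishes on `U` -/
theorem b_U (h : Large Q z) {U : Submodule (ZMod 2) h.V} (hts : ∀ v ∈ U, h.q v = 0) {u v : h.V} (hu : u ∈ U)
    (hv : v ∈ U) : h.b u v = 0 := b_eq_zero_of_ts h hts hu hv

section tr

variable (h : Large Q z) {U : Submodule (ZMod 2) h.V}

theorem comm_Ba (bp : BPair Q z A a (pre h U) Ba) (hts : ∀ v ∈ U, h.q v = 0) {x y : G} (hx : x ∈ Ba)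
    (hy : y ∈ Ba) : x * y = y * x := by
  obtain ⟨g, h1, -, h3, -⟩ := bp.swap
  rw [h3, mem_map_conj] at hx hy
  have h4 : ∀ x ∈ pre h U, ∀ y ∈ pre h U, x * y = y * x := by
    intro x hx y hy
    have := b_U h hts ((coe_mem_pre h ⟨x, pre_le h U hx⟩).1 hx) ((coe_mem_pre h ⟨y, pre_le h U hy⟩).1 hy)
    exact (h.b_pr _ _).1 this
  have h5 := h4 _ hx _ hy
  calc x * y = g * ((g⁻¹ * x * g) * (g⁻¹ * y * g)) * g⁻¹ := by group
    _ = g * ((g⁻¹ * y * g) * (g⁻¹ * x * g)) * g⁻¹ := by rw [h5]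
    _ = y * x := by group

theorem mem_centralizer_of_Ba (bp : BPair Q z A a (pre h U) Ba) (hts : ∀ v ∈ U, h.q v = 0)
    (ha : a ∈ pre h U) {x : G} (hx : x ∈ Ba) : x * z = z * x :=
  comm_Ba h bp hts hx (bp.z_mem_Ba ha)

/-- `[u, x] ∈ {0, ã}` for `x ∈ B_a` -/
theorem act_U (bp : BPair Q z A a (pre h U) Ba) (hU : Inv h U) (hts : ∀ v ∈ U, h.q v = 0)
    (ha : a ∈ pre h U) {c : Subgroup.centralizer ({z} : Set G)} (hc : (c : G) ∈ Ba) {u : h.V} (hu : u ∈ U) :
    h.act c u = u ∨ h.act c u = u + h.pr ⟨a, pre_le h U ha⟩ := by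
  have hcz : (c : G) * z = z * c := Subgroup.mem_centralizer_singleton_iff.1 c.2
  -- `[a^⊥, c] ≤ U`
  have h1 : ∀ w, h.b (h.pr ⟨a, pre_le h U ha⟩) w = 0 → h.act c w + w ∈ U := by
    intro w hw
    obtain ⟨r, rfl⟩ := h.pr_surjective w
    have hra : (r : G) * a = a * r := ((h.b_pr _ _).1 hw).symm
    have h2 : (c : G) * r * (c : G)⁻¹ * (r : G)⁻¹ ∈ Ba := by
      have h3 := bp.cBa.inv r hra _ (inv_mem hc)
      have := mul_mem hc h3
      have e : (c : G) * ((r : G) * (c : G)⁻¹ * (r : G)⁻¹) = c * r * (c : G)⁻¹ * (r : G)⁻¹ := by group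
      rwa [e] at this
    have h3 : (c : G) * r * (c : G)⁻¹ * (r : G)⁻¹ ∈ Q := mul_mem (h.conj_mem c hcz r r.2) (inv_mem r.2)
    have h4 := bp.mem_B ha h2 h3
    have h5 : h.act c (h.pr r) + h.pr r = h.pr (h.conjQ c r * r⁻¹) := by
      rw [h.act_pr, h.pr_mul, h.pr_inv, h.neg_eq]
    rw [h5]
    exact (coe_mem_pre h _).1 h4
  have h2 := eq_of_perp h (a := h.pr ⟨a, pre_le h U ha⟩) (d := h.act c u + u) (fun w hw => by
    have h3 : h.act c u ∈ U := hU _ ⟨c, rfl⟩ u hu
    have h4 := b_U h hts h3 (h1 w hw)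
    rw [map_add, h.b_act] at h4
    rw [map_add, LinearMap.add_apply, add_comm]
    exact h4)
  rcases h2 with h3 | h3
  · left
    calc h.act c u = h.act c u + u + u := by rw [add_assoc, h.add_self, add_zero]
      _ = u := by rw [h3, zero_add]
  · right
    calc h.act c u = h.act c u + u + u := by rw [add_assoc, h.add_self, add_zero]
      _ = u + _ := by rw [h3, add_comm]

/-- `B_a` induces on `U` all transvections with centre `ã` and axis containing `B ∩ Q_a / ⟨z⟩`. -/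
theorem exists_tr_aux [Finite G] (bp : BPair Q z A a (pre h U) Ba) (hO : O2 h) (hU : Inv h U)
    (hts : ∀ v ∈ U, h.q v = 0) (ha : a ∈ pre h U) (φ : Module.Dual (ZMod 2) U)
    (hφ : ∀ (x : G) (hx : x ∈ pre h U), x ∈ A → φ (el h hx) = 0) :
    ∃ c : Subgroup.centralizer ({z} : Set G), (c : G) ∈ Ba ∧
      ∀ u : U, h.act c (u : h.V) = u + φ u • h.pr ⟨a, pre_le h U ha⟩ := by
  classical
  set va : h.V := h.pr ⟨a, pre_le h U ha⟩ with hva
  have hva0 : va ≠ 0 := bp.pair.va_ne
  have hC : ∀ x ∈ Ba, x ∈ Subgroup.centralizer ({z} : Set G) := fun x hx =>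
    Subgroup.mem_centralizer_singleton_iff.2 (mem_centralizer_of_Ba h bp hts ha hx)
  obtain ⟨w, hw⟩ : ∃ w, h.b w va = 1 := by
    by_contra hcon
    push Not at hcon
    exact hva0 (h.b_nondeg fun w => by
      rw [h.b_comm]
      exact (zmod_two _).resolve_right (hcon w))
  -- the functional of `x ∈ Ba`
  let Φ0 : Ba → Module.Dual (ZMod 2) U := fun x =>
    ((h.b w).comp ((h.act ⟨x, hC x x.2⟩ : h.V →ₗ[ZMod 2] h.V) + LinearMap.id)).comp U.subtype
  have hΦ0 : ∀ (x : Ba) (u : U), h.act ⟨x, hC x x.2⟩ (u : h.V) = u + Φ0 x u • va := by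
    intro x u
    have h1 : Φ0 x u = h.b w (h.act ⟨x, hC x x.2⟩ (u : h.V) + u) := rfl
    rcases act_U h bp hU hts ha (c := ⟨x, hC x x.2⟩) x.2 u.2 with h2 | h2
    · rw [h1, h2, h.add_self, map_zero, zero_smul, add_zero]
    · rw [h1, h2, add_right_comm, h.add_self, zero_add, ← hva, hw, one_smul]
  have hact_va : ∀ x : Ba, h.act ⟨x, hC x x.2⟩ va = va := by
    intro x
    refine Pair.act_pr_coe h _ ⟨a, _⟩ ⟨a, _⟩ ?_
    show (x : G) * a * (x : G)⁻¹ = a
    rw [bp.pair.la.comm_z x (bp.cBa.le x.2)]; group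
  have hinj : ∀ c d : ZMod 2, c • va = d • va → c = d := by
    intro c d hcd
    rcases zmod_two c with rfl | rfl <;> rcases zmod_two d with rfl | rfl
    · rfl
    · rw [zero_smul, one_smul] at hcd; exact absurd hcd.symm hva0
    · rw [zero_smul, one_smul] at hcd; exact absurd hcd hva0
    · rfl
  let Φ : Ba →* Multiplicative (Module.Dual (ZMod 2) U) :=
    { toFun := fun x => Multiplicative.ofAdd (Φ0 x)
      map_one' := by
        apply Multiplicative.toAdd.injective
        ext u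
        apply hinj
        have h1 := hΦ0 1 u
        have h2 : h.act ⟨((1 : Ba) : G), hC _ (1 : Ba).2⟩ = 1 := map_one h.act
        rw [h2] at h1
        have h3 : (u : h.V) = u + Φ0 1 u • va := h1
        have h4 := left_eq_add.1 h3
        show Φ0 1 u • va = (0 : ZMod 2) • va
        rw [h4, zero_smul]
      map_mul' := fun x y => by
        apply Multiplicative.toAdd.injective
        ext u
        apply hinj
        have h1 := hΦ0 (x * y) u
        have h2 : h.act ⟨((x * y : Ba) : G), hC _ (x * y : Ba).2⟩ =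
            h.act ⟨x, hC x x.2⟩ * h.act ⟨y, hC y y.2⟩ := by rw [← map_mul]; rfl
        rw [h2] at h1
        have h3 : h.act ⟨x, hC x x.2⟩ (h.act ⟨y, hC y y.2⟩ (u : h.V)) = u + Φ0 (x * y) u • va := h1
        rw [hΦ0 y, map_add, map_smul, hact_va, hΦ0 x, add_assoc] at h3
        have h4 := add_left_cancel h3
        show Φ0 (x * y) u • va = (Φ0 x u + Φ0 y u) • va
        rw [← h4, add_smul] }
  have hΦ : ∀ (x : Ba), Multiplicative.toAdd (Φ x) = Φ0 x := fun _ => rfl
  -- the kernel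
  have hker : Φ.ker = (pre h U ⊓ A).subgroupOf Ba := by
    ext x
    rw [MonoidHom.mem_ker, Subgroup.mem_subgroupOf, Subgroup.mem_inf]
    constructor
    · intro hx
      have h1 : ∀ u ∈ U, h.act ⟨x, hC x x.2⟩ u = u := by
        intro u hu
        have h2 := hΦ0 x ⟨u, hu⟩
        rw [← hΦ, hx] at h2
        have h3 : h.act ⟨x, hC x x.2⟩ u = u + (0 : ZMod 2) • va := h2
        rw [h3, zero_smul, add_zero]
      have h2 := faithful_X bp.pair hO hU ((coe_mem_pre h ⟨a, pre_le h U ha⟩).1 ha)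
        (f := h.act ⟨x, hC x x.2⟩) (bp.pair.mem_X.2 ⟨⟨x, hC x x.2⟩, bp.cBa.le x.2, rfl⟩) h1
      have h3 := h.mem_of_act _ h2
      exact ⟨bp.mem_B ha x.2 h3, bp.cBa.le x.2⟩
    · rintro ⟨hx, -⟩
      apply Multiplicative.toAdd.injective
      ext u
      apply hinj
      have h1 := hΦ0 x u
      have h2 := h.act_mem ⟨x, hC x x.2⟩ (pre_le h U hx)
      rw [h2] at h1
      have h3 : (u : h.V) = u + Φ0 x u • va := h1
      have h4 := left_eq_add.1 h3
      show Φ0 x u • va = (0 : ZMod 2) • va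
      rw [h4, zero_smul]
  have hle : pre h U ⊓ A ≤ Ba := fun x hx =>
    bp.mem_Ba ha (Subgroup.mem_inf.1 hx).1 (Subgroup.mem_inf.1 hx).2
  have hkc : Nat.card Φ.ker = Nat.card ↥(pre h U ⊓ A) := by
    rw [hker]; exact Nat.card_congr (Subgroup.subgroupOfEquivOfLe hle).toEquiv
  -- the annihilator
  let N : Submodule (ZMod 2) h.V := sub h (pre h U ⊓ A)
  have hNU : N ≤ U := by
    rintro _ ⟨x, hx, rfl⟩
    exact (coe_mem_pre h x).1 (Subgroup.mem_inf.1 hx).1
  let N' : Submodule (ZMod 2) U := N.comap U.subtype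
  have hN' : Nat.card N' = Nat.card N :=
    Nat.card_congr (Submodule.comapSubtypeEquivOfLe hNU).toEquiv
  have hNc : Nat.card ↥(pre h U ⊓ A) = 2 * Nat.card N := by
    have h1 := card_sub h (B := pre h U ⊓ A) (Subgroup.mem_inf.2 ⟨z_mem_pre h U, bp.pair.z_mem⟩)
    rw [inf_eq_left.2 (inf_le_left.trans (pre_le h U))] at h1
    exact h1
  have hAnn : Nat.card N' * Nat.card N'.dualAnnihilator = Nat.card U := by
    have hfin : Module.Finite (ZMod 2) U := Module.Finite.of_finite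
    have h1 := Subspace.finrank_add_finrank_dualAnnihilator_eq N'
    rw [Module.natCard_eq_pow_finrank (K := ZMod 2) (V := N'),
      Module.natCard_eq_pow_finrank (K := ZMod 2) (V := N'.dualAnnihilator),
      Module.natCard_eq_pow_finrank (K := ZMod 2) (V := U), ← pow_add, h1]
  have hBac : Nat.card Ba = 2 * Nat.card U := by
    obtain ⟨g, -, -, h3, -⟩ := bp.swap
    rw [h3, Subgroup.card_map_of_injective (MulAut.conj g).injective, card_pre]
  have hrc : Nat.card Φ.range * Nat.card Φ.ker = Nat.card Ba := by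
    rw [Subgroup.card_eq_card_quotient_mul_card_subgroup Φ.ker]
    congr 1
    exact (Nat.card_congr (QuotientGroup.quotientKerEquivRange Φ).toEquiv).symm
  have hfinD : Finite (Module.Dual (ZMod 2) U) := Module.finite_of_finite (ZMod 2)
  have hfinA : Finite N'.dualAnnihilator := inferInstance
  have hcard : Nat.card Φ.range = Nat.card N'.dualAnnihilator := by
    rw [hkc, hNc, hBac, ← hAnn, hN'] at hrc
    have hpos : 0 < 2 * Nat.card N := by
      have : 0 < Nat.card N := Nat.card_pos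
      omega
    apply Nat.eq_of_mul_eq_mul_right hpos
    rw [hrc]; ring
  -- the inclusion is a bijection
  have hmem : ∀ y ∈ Φ.range, Multiplicative.toAdd y ∈ N'.dualAnnihilator := by
    rintro _ ⟨x, rfl⟩
    rw [Submodule.mem_dualAnnihilator]
    intro u hu
    obtain ⟨d, hd, hdu⟩ := hu
    apply hinj
    have h1 := hΦ0 x u
    have hd' := Subgroup.mem_inf.1 hd
    -- `x` commutes with `d`
    have hdBa := hle hd
    have h2 : h.act ⟨x, hC x x.2⟩ (u : h.V) = u := by
      have h3 : (u : h.V) = h.pr d := hdu.symm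
      rw [h3]
      refine Pair.act_pr_coe h _ d d ?_
      show (x : G) * d * (x : G)⁻¹ = d
      rw [comm_Ba h bp hts x.2 hdBa]; group
    rw [h2] at h1
    have h4 := left_eq_add.1 h1
    rw [hΦ, h4, zero_smul]
  let ι : Φ.range → N'.dualAnnihilator := fun y => ⟨Multiplicative.toAdd (y : Multiplicative _), hmem y y.2⟩
  have hι : Function.Bijective ι := by
    rw [Nat.bijective_iff_injective_and_card]
    refine ⟨fun x y hxy => ?_, hcard⟩
    have h9 := congrArg (fun t : N'.dualAnnihilator => t.1) hxy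
    exact Subtype.ext (Multiplicative.toAdd.injective h9)
  obtain ⟨⟨_, x, rfl⟩, hx⟩ := hι.2 ⟨φ, by
    rw [Submodule.mem_dualAnnihilator]
    rintro u ⟨d, hd, hdu⟩
    have hd' := Subgroup.mem_inf.1 hd
    have h1 : el h hd'.1 = u := Subtype.ext hdu
    rw [← h1]
    exact hφ _ hd'.1 hd'.2⟩
  have hx' : Φ0 x = φ := congrArg (fun t : N'.dualAnnihilator => t.1) hx
  refine ⟨⟨x, hC x x.2⟩, x.2, fun u => ?_⟩
  rw [hΦ0, hx']

end tr

end Cfsg.Agent.LargeExtra.Red
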