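import Cfsg.Agent.LargeExtra.Red.SiegelE
import Cfsg.Agent.Involutions.BaerSuzuki

/-!
# S1761 [R3]: theorem (B) and (N6) (helper539)

Abstract situation (helper988's (N3)): `H` a group of isometries of the quadratic space `V` over `ZMod 2`,
`H0` a normal subgroup, `O` an `H`-invariant set of singular vectors, `W c` (`= W~(c)`) an `H`-equivariant
family of subspaces with `c ∈ W c ≤ c^⊥`, all Siegel transformations `E(c, v)`, `v ∈ W c`, lie in `H0`, and the
stabiliser of `c` in `H0` centralises `W c / c`.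

* `Data.core`   : the common argument of (B);
* `Data.B_ts`, `Data.B_big`, `Data.B_aniso` : (B) in the three cases;
* `Data.n6`     : `W` totally singular of dimension at least two is impossible if `O_2(H) = 1`.
-/

set_option autoImplicit false

namespace Cfsg.Agent.LargeExtra.Red.BThm

open Cfsg.Agent.LargeExtra.Red.SiegelE

/-- The data of (N3). -/
structure Data {V : Type*} [AddCommGroup V] [Module (ZMod 2) V] (S : QSp V)
    (H H0 : Subgroup (V ≃ₗ[ZMod 2] V)) (O : Set V) (W : V → Submodule (ZMod 2) V) : Prop where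
  isom : ∀ h ∈ H, ∀ v, S.q (h v) = S.q v
  le : H0 ≤ H
  O_inv : ∀ h ∈ H, ∀ c ∈ O, h c ∈ O
  O_ne : ∀ c ∈ O, c ≠ 0
  O_q : ∀ c ∈ O, S.q c = 0
  W_inv : ∀ h ∈ H, ∀ c ∈ O, ∀ v ∈ W c, h v ∈ W (h c)
  W_mem : ∀ c ∈ O, c ∈ W c
  W_perp : ∀ c ∈ O, ∀ v ∈ W c, S.b v c = 0
  E_mem : ∀ c ∈ O, ∀ v ∈ W c, ∃ t ∈ H0, S.IsE t c v
  cent : ∀ g ∈ H0, ∀ c ∈ O, g c = c → ∀ v ∈ W c, g v = v ∨ g v = v + c

/-- The conclusion of (B). -/
def PropB {V : Type*} [AddCommGroup V] [Module (ZMod 2) V] (S : QSp V) (O : Set V)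
    (W : V → Submodule (ZMod 2) V) : Prop :=
  ∀ c ∈ O, ∀ c' ∈ O, c ≠ c' → S.b c c' = 0 → ∀ w ∈ W c, S.b c' w = 0

section card

variable {V : Type*} [AddCommGroup V] [Module (ZMod 2) V] [Finite V]

/-- If the zeros of the functional `f` on the subspace `W` lie in the finite set `F`, then `|W| ≤ 2 |F|`. -/
theorem card_le_two_mul (W : Submodule (ZMod 2) V) (f : V →ₗ[ZMod 2] ZMod 2) (F : Set V)
    (h : ∀ v ∈ W, f v = 0 → v ∈ F) : Nat.card W ≤ 2 * F.ncard := by
  classical
  have hc : Nat.card W = (W : Set V).ncard := rfl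
  rw [hc]
  by_cases hW : ∀ v ∈ W, f v = 0
  · have h1 : (W : Set V) ⊆ F := fun v hv => h v hv (hW v hv)
    have h2 := Set.ncard_le_ncard h1 (Set.toFinite F)
    omega
  · push Not at hW
    obtain ⟨w0, hw0, hf0⟩ := hW
    have hf1 : f w0 = 1 := by
      rcases zcases (f w0) with h | h
      · exact absurd h hf0
      · exact h
    have h1 : (W : Set V) ⊆ F ∪ (fun v => v + w0) '' F := by
      intro v hv
      rcases zcases (f v) with h2 | h2
      · exact Or.inl (h v hv h2)
      · right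
        refine ⟨v + w0, h _ (W.add_mem hv hw0) ?_, ?_⟩
        · rw [map_add, h2, hf1]; decide
        · show v + w0 + w0 = v
          rw [add_assoc, vadd_self, add_zero]
    have h2 := Set.ncard_le_ncard h1 (Set.toFinite _)
    have h3 := Set.ncard_union_le F ((fun v => v + w0) '' F)
    have h4 : ((fun v => v + w0) '' F).ncard ≤ F.ncard := Set.ncard_image_le (Set.toFinite F)
    omega

omit [AddCommGroup V] [Module (ZMod 2) V] [Finite V] in
theorem ncard_four_le (a b c d : V) : ({a, b, c, d} : Set V).ncard ≤ 4 := by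
  have h1 := Set.ncard_insert_le a ({b, c, d} : Set V)
  have h2 := Set.ncard_insert_le b ({c, d} : Set V)
  have h3 := Set.ncard_insert_le c ({d} : Set V)
  have h4 := Set.ncard_singleton d
  omega

omit [AddCommGroup V] [Module (ZMod 2) V] [Finite V] in
theorem ncard_two_le (a b : V) : ({a, b} : Set V).ncard ≤ 2 := by
  have h3 := Set.ncard_insert_le a ({b} : Set V)
  have h4 := Set.ncard_singleton b
  omega

end card

namespace Data

variable {V : Type*} [AddCommGroup V] [Module (ZMod 2) V]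
  {S : QSp V} {H H0 : Subgroup (V ≃ₗ[ZMod 2] V)} {O : Set V} {W : V → Submodule (ZMod 2) V}

/-- An element of `H0` fixing `c` commutes with `E(c, v)`. -/
theorem comm_of_fix (D : Data S H H0 O W) {c : V} (hc : c ∈ O) {v : V} (hv : v ∈ W c)
    {t g : V ≃ₗ[ZMod 2] V} (ht : S.IsE t c v) (hg : g ∈ H0) (hgc : g c = c) : g * t = t * g := by
  have h1 : S.IsE (g * t * g⁻¹) (g c) (g v) := ht.conj (D.isom g (D.le hg))
  rw [hgc] at h1
  have h2 : g * t * g⁻¹ = t := by
    rcases D.cent g hg c hc hgc v hv with h | h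
    · rw [h] at h1
      exact h1.unique ht
    · rw [h] at h1
      exact h1.unique (ht.add_left (D.O_q c hc) (D.W_perp c hc v hv))
  calc g * t = (g * t * g⁻¹) * g := by group
    _ = t * g := by rw [h2]

/-- The common argument of (B): if `E(c, v)` moves `c' ⊥ c`, then every `v' ∈ W c'` orthogonal to `c` lies in
`⟨c, c'⟩`. -/
theorem core (D : Data S H H0 O W) {c c' : V} (hc : c ∈ O) (hc' : c' ∈ O) (hne : c ≠ c')
    (hb : S.b c c' = 0) {v : V} (hv : v ∈ W c) (hcv : S.b c' v = 1) {v' : V} (hv' : v' ∈ W c')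
    (h0 : S.b c v' = 0) : v' = 0 ∨ v' = c' ∨ v' = c ∨ v' = c + c' := by
  by_contra hcon
  push Not at hcon
  obtain ⟨n0, n1, n2, n3⟩ := hcon
  obtain ⟨t, ht, hE⟩ := D.E_mem c hc v hv
  obtain ⟨t', ht', hE'⟩ := D.E_mem c' hc' v' hv'
  have hb' : S.b c' c = 0 := by rw [S.b_comm]; exact hb
  have h1 : t c' = c' + c := by
    rw [hE c', hcv, hb', one_smul, zero_smul, add_zero]
  have h2 : t' c = c := by
    rw [hE' c, h0, hb, zero_smul, zero_smul, add_zero, add_zero]
  have h3 : t' * t = t * t' := D.comm_of_fix hc hv hE ht' h2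
  obtain ⟨y, hy1, hy2⟩ := S.exists_sep n0 n1
  have h4 : t' y = y + c' := by
    rw [hE' y, hy1, hy2, one_smul, zero_smul, add_zero]
  have h5 : t (t' y) = t' (t y) := by
    have := congrArg (fun f : V ≃ₗ[ZMod 2] V => f y) h3
    exact this.symm
  rw [h4, map_add, h1, hE' (t y)] at h5
  -- `c' + c = b(ty, v') c' + b(ty, c') (v' + q(v') c')`
  have h6 : c' + c = S.b (t y) v' • c' + S.b (t y) c' • (v' + S.q v' • c') := by
    rw [add_assoc (t y)] at h5
    exact add_left_cancel h5
  have hc0 : c ≠ 0 := D.O_ne c hc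
  rcases zcases (S.b (t y) v') with e1 | e1 <;> rcases zcases (S.b (t y) c') with e2 | e2 <;>
    rcases zcases (S.q v') with e3 | e3 <;> rw [e1, e2, e3] at h6 <;>
    simp only [zero_smul, one_smul, add_zero, zero_add] at h6
  · exact hne (eq_of_add_eq_zero h6).symm
  · exact hne (eq_of_add_eq_zero h6).symm
  · exact n3 (by rw [← h6, add_comm])
  · apply n2
    have : c + c' = v' + c' := by rw [add_comm c c', h6]
    exact (add_right_cancel this).symm
  · exact hc0 (by simpa using h6)
  · exact hc0 (by simpa using h6)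
  · exact n2 (add_left_cancel h6).symm
  · apply n3
    have h7 : c = v' + c' := add_left_cancel h6
    rw [h7, add_assoc, vadd_self, add_zero]

/-- (B), `W` totally singular of dimension at least two. -/
theorem B_ts [Finite V] (D : Data S H H0 O W) (hts : ∀ c ∈ O, ∀ v ∈ W c, S.q v = 0)
    (hcard : ∀ c ∈ O, 8 ≤ Nat.card (W c)) : PropB S O W := by
  intro c hc c' hc' hne hb v hv
  rcases zcases (S.b c' v) with h | h
  · exact h
  exfalso
  have key : ∀ v' ∈ W c', S.b c v' = 0 → v' = 0 ∨ v' = c' ∨ v' = c ∨ v' = c + c' :=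
    fun v' hv' h0 => D.core hc hc' hne hb hv h hv' h0
  by_cases hcc : c ∈ W c'
  · have h1 : ∀ v' ∈ W c', S.b c v' = 0 := by
      intro v' hv'
      have := S.q_add c v'
      rw [hts c' hc' _ ((W c').add_mem hcc hv'), hts c' hc' _ hcc, hts c' hc' _ hv', add_zero, zero_add] at this
      exact this.symm
    have h2 : (W c' : Set V) ⊆ {0, c', c, c + c'} := fun v' hv' => by
      have := key v' hv' (h1 v' hv')
      simpa using this
    have h3 := Set.ncard_le_ncard h2 (Set.toFinite _)
    have h4 := ncard_four_le 0 c' c (c + c')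
    have h5 : (W c' : Set V).ncard = Nat.card (W c') := rfl
    have h6 := hcard c' hc'
    omega
  · have h1 := card_le_two_mul (W c') (S.b c) {0, c'} (fun v' hv' h0 => by
      rcases key v' hv' h0 with h1 | h1 | h1 | h1
      · simp [h1]
      · simp [h1]
      · rw [h1] at hv'; exact absurd hv' hcc
      · rw [h1] at hv'
        exfalso
        apply hcc
        have := (W c').add_mem hv' (D.W_mem c' hc')
        rwa [add_assoc, vadd_self, add_zero] at this)
    have h2 := ncard_two_le 0 c'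
    have h6 := hcard c' hc'
    omega

/-- (B), `|W~| ≥ 16`. -/
theorem B_big [Finite V] (D : Data S H H0 O W) (hcard : ∀ c ∈ O, 16 ≤ Nat.card (W c)) : PropB S O W := by
  intro c hc c' hc' hne hb v hv
  rcases zcases (S.b c' v) with h | h
  · exact h
  exfalso
  have h1 := card_le_two_mul (W c') (S.b c) {0, c', c, c + c'} (fun v' hv' h0 => by
    have := D.core hc hc' hne hb hv h hv' h0
    simpa using this)
  have h2 := ncard_four_le 0 c' c (c + c')
  have h6 := hcard c' hc'
  omega

/-- (B), `W` anisotropic of dimension at least two. -/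
theorem B_aniso (D : Data S H H0 O W) (han : ∀ c ∈ O, ∀ v ∈ W c, v ≠ 0 → v ≠ c → S.q v = 1)
    (hex : ∀ c ∈ O, ∃ v ∈ W c, ∃ w ∈ W c, v ≠ 0 ∧ v ≠ c ∧ w ≠ 0 ∧ w ≠ c ∧ v + w ≠ 0 ∧ v + w ≠ c) :
    PropB S O W := by
  intro c hc c' hc' hne hb v hv
  rcases zcases (S.b c' v) with h | h
  · exact h
  exfalso
  have key : ∀ v' ∈ W c', v' ≠ 0 → v' ≠ c' → S.b c v' = 1 := by
    intro v' hv' n0 n1
    rcases zcases (S.b c v') with h0 | h0
    · exfalso
      have hq := han c' hc' v' hv' n0 n1
      rcases D.core hc hc' hne hb hv h hv' h0 with h1 | h1 | h1 | h1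
      · exact n0 h1
      · exact n1 h1
      · rw [h1, D.O_q c hc] at hq
        exact absurd hq (by decide)
      · rw [h1, S.q_add, D.O_q c hc, D.O_q c' hc', hb] at hq
        exact absurd hq (by decide)
    · exact h0
  obtain ⟨x, hx, y, hy, x0, xc, y0, yc, s0, sc⟩ := hex c' hc'
  have h1 := key x hx x0 xc
  have h2 := key y hy y0 yc
  have h3 := key (x + y) ((W c').add_mem hx hy) s0 sc
  rw [map_add, h1, h2] at h3
  exact absurd h3 (by decide)

/-- Baer–Suzuki for the set of all Siegel transformations `E(c, v)`. -/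
theorem false_of_pairs [Finite V] (D : Data S H H0 O W)
    (hO2 : ∀ N : Subgroup H, N.Normal → IsPGroup 2 N → N = ⊥)
    {c0 : V} (hc0 : c0 ∈ O) {v0 : V} (hv0 : v0 ∈ W c0) (n0 : v0 ≠ 0) (n1 : v0 ≠ c0)
    (hpair : ∀ c ∈ O, ∀ v ∈ W c, ∀ c' ∈ O, ∀ v' ∈ W c', ∀ t ∈ H0, ∀ t' ∈ H0, S.IsE t c v → S.IsE t' c' v' →
      (t * t') ^ 4 = 1) : False := by
  classical
  haveI : Finite (V ≃ₗ[ZMod 2] V) := Finite.of_injective (fun f => (f : V → V)) DFunLike.coe_injective
  let K : Set H := {x | ∃ c ∈ O, ∃ v ∈ W c, (x : V ≃ₗ[ZMod 2] V) ∈ H0 ∧ S.IsE x c v}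
  have hK : ∀ g : H, ∀ x ∈ K, g * x * g⁻¹ ∈ K := by
    rintro g x ⟨c, hc, v, hv, -, hE⟩
    have h1 : S.IsE ((g : V ≃ₗ[ZMod 2] V) * x * (g : V ≃ₗ[ZMod 2] V)⁻¹) ((g : V ≃ₗ[ZMod 2] V) c)
        ((g : V ≃ₗ[ZMod 2] V) v) := hE.conj (D.isom g g.2)
    have h2 := D.O_inv g g.2 c hc
    have h3 := D.W_inv g g.2 c hc v hv
    obtain ⟨t, ht, hEt⟩ := D.E_mem _ h2 _ h3
    refine ⟨_, h2, _, h3, ?_, h1⟩
    have h4 : ((g * x * g⁻¹ : H) : V ≃ₗ[ZMod 2] V) = t := h1.unique hEt
    rw [h4]; exact ht
  have hp : ∀ x ∈ K, ∀ y ∈ K, IsPGroup 2 (Subgroup.closure {x, y} : Subgroup H) := by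
    rintro x ⟨c, hc, v, hv, hx0, hE⟩ y ⟨c', hc', v', hv', hy0, hE'⟩
    refine isPGroup_pair ?_ ?_ ?_
    · exact Subtype.ext (hE.sq (D.W_perp c hc v hv))
    · exact Subtype.ext (hE'.sq (D.W_perp c' hc' v' hv'))
    · exact Subtype.ext (hpair c hc v hv c' hc' v' hv' x hx0 y hy0 hE hE')
  haveI : Fact (Nat.Prime 2) := ⟨Nat.prime_two⟩
  have h1 := Cfsg.Agent.Involutions.BaerSuzuki.baer_suzuki_set hK hp
  have h2 : (Subgroup.closure K : Subgroup H).Normal := by
    constructor
    intro n hn g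
    induction hn using Subgroup.closure_induction with
    | mem x hx => exact Subgroup.subset_closure (hK g x hx)
    | one => rw [mul_one, mul_inv_cancel]; exact one_mem _
    | mul x y _ _ hx hy =>
      have : g * (x * y) * g⁻¹ = (g * x * g⁻¹) * (g * y * g⁻¹) := by group
      rw [this]; exact mul_mem hx hy
    | inv x _ hx =>
      have : g * x⁻¹ * g⁻¹ = (g * x * g⁻¹)⁻¹ := by group
      rw [this]; exact inv_mem hx
  have h3 := hO2 _ h2 h1
  obtain ⟨t, ht, hE⟩ := D.E_mem c0 hc0 v0 hv0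
  have h4 : (⟨t, D.le ht⟩ : H) ∈ Subgroup.closure K :=
    Subgroup.subset_closure ⟨c0, hc0, v0, hv0, ht, hE⟩
  rw [h3, Subgroup.mem_bot] at h4
  exact hE.ne_one (D.O_ne c0 hc0) n0 n1 (congrArg Subtype.val h4)

/-- Siegel transformations with orthogonal centres commute. -/
theorem comm_perp (D : Data S H H0 O W) (hB : PropB S O W) {c c' : V} (hc : c ∈ O) (hc' : c' ∈ O)
    (hb : S.b c c' = 0) {v v' : V} (hv : v ∈ W c) (hv' : v' ∈ W c') {t t' : V ≃ₗ[ZMod 2] V} (ht : t ∈ H0)
    (hE : S.IsE t c v) (hE' : S.IsE t' c' v') : t * t' = t' * t := by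
  by_cases hne : c = c'
  · subst hne
    exact hE.comm_same hE' (D.W_perp c hc v hv) (D.W_perp c hc v' hv')
  · have h1 : t c' = c' := by
      rw [hE c', hB c hc c' hc' hne hb v hv, S.b_comm c' c, hb, zero_smul, zero_smul, add_zero, add_zero]
    exact D.comm_of_fix hc' hv' hE' ht h1

/-- **(N6)**: `W` totally singular of dimension at least two is impossible. -/
theorem n6 [Finite V] (D : Data S H H0 O W) (hO : O.Nonempty) (hts : ∀ c ∈ O, ∀ v ∈ W c, S.q v = 0)
    (hcard : ∀ c ∈ O, 8 ≤ Nat.card (W c))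
    (hO2 : ∀ N : Subgroup H, N.Normal → IsPGroup 2 N → N = ⊥) : False := by
  classical
  have hB := D.B_ts hts hcard
  obtain ⟨c0, hc0⟩ := hO
  obtain ⟨v0, hv0, n0, n1⟩ : ∃ v0 ∈ W c0, v0 ≠ 0 ∧ v0 ≠ c0 := by
    by_contra hcon
    push Not at hcon
    have h2 : (W c0 : Set V) ⊆ {0, c0} := fun v' hv' => by
      by_cases h : v' = 0
      · simp [h]
      · simp [hcon v' hv' h]
    have h3 := Set.ncard_le_ncard h2 (Set.toFinite _)
    have h4 := ncard_two_le 0 c0
    have h5 : (W c0 : Set V).ncard = Nat.card (W c0) := rfl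
    have h6 := hcard c0 hc0
    omega
  refine D.false_of_pairs hO2 hc0 hv0 n0 n1 ?_
  -- `t t'` of order dividing 4
  have hcomm4 : ∀ t t' : V ≃ₗ[ZMod 2] V, t * t = 1 → t' * t' = 1 → t * t' = t' * t → (t * t') ^ 4 = 1 := by
    intro t t' h1 h2 h3
    have : (t * t') * (t * t') = 1 := by
      calc (t * t') * (t * t') = t * (t' * t) * t' := by group
        _ = (t * t) * (t' * t') := by rw [← h3]; group
        _ = 1 := by rw [h1, h2, one_mul]
    rw [show 4 = 2 * 2 from rfl, pow_mul, pow_two (t * t'), this, one_pow]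
  -- the main case, with the normalisation `v ⊥ c'`, `v' ⊥ c`
  have main : ∀ c ∈ O, ∀ v ∈ W c, ∀ c' ∈ O, ∀ v' ∈ W c', ∀ t ∈ H0, ∀ t' ∈ H0, S.IsE t c v → S.IsE t' c' v' →
      S.b c c' = 1 → S.b c' v = 0 → S.b c v' = 0 → (t * t') ^ 4 = 1 := by
    intro c hc v hv c' hc' v' hv' t ht t' ht' hE hE' hb hcv hcv'
    have hb' : S.b c' c = 1 := by rw [S.b_comm]; exact hb
    have hqv := hts c hc v hv
    have hqv' := hts c' hc' v' hv'
    have hvc := D.W_perp c hc v hv
    have hvc' := D.W_perp c' hc' v' hv'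
    have htt := hE.sq hvc
    have htt' := hE'.sq hvc'
    have h1 : t c' = c' + v := by
      rw [hE c', hcv, hb', hqv]
      simp
    by_cases hv0 : v = 0
    · have : t = 1 := by
        ext y
        show t y = y
        rw [hE y, hv0, map_zero, S.q_zero]
        simp
      rw [this, one_mul, show 4 = 2 * 2 from rfl, pow_mul, pow_two t', htt', one_pow]
    have h2 : c' + v ∈ O := by
      rw [← h1]; exact D.O_inv t (D.le ht) c' hc'
    have h3 : c' ≠ c' + v := fun h => hv0 (by simpa using h.symm)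
    have h4 : S.b c' (c' + v) = 0 := by rw [map_add, S.b_self, hcv, add_zero]
    have hvv : S.b v v' = 0 := by
      have h5 := hB c' hc' (c' + v) h2 h3 h4 v' hv'
      rw [map_add, LinearMap.add_apply, S.b_comm c' v', hvc', zero_add] at h5
      exact h5
    have hv'v : S.b v' v = 0 := by rw [S.b_comm]; exact hvv
    have hv'c : S.b v' c = 0 := by rw [S.b_comm]; exact hcv'
    -- `t t' t⁻¹ = E(c' + v, v')`
    have h5 : t v' = v' := by
      rw [hE v', hv'v, hv'c, zero_smul, zero_smul, add_zero, add_zero]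
    have h6 : S.IsE (t * t' * t⁻¹) (c' + v) v' := by
      have := hE'.conj (D.isom t (D.le ht))
      rwa [h1, h5] at this
    -- `s = t t' t t' = E(v, v')`
    set s : V ≃ₗ[ZMod 2] V := t * t' * t⁻¹ * t' with hs
    have hsE : ∀ y, s y = y + S.b y v' • v + S.b y v • v' := by
      intro y
      have e1 : s y = (t * t' * t⁻¹) (t' y) := rfl
      have e2 : S.b (t' y) v' = S.b y v' := by
        rw [hE' y]
        simp only [map_add, map_smul, LinearMap.add_apply, LinearMap.smul_apply]
        rw [S.b_comm c' v', hvc', S.b_self]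
        simp
      have e3 : S.b (t' y) (c' + v) = S.b y c' + S.b y v := by
        rw [hE' y]
        simp only [map_add, map_smul, LinearMap.add_apply, LinearMap.smul_apply]
        rw [S.b_self c', hvc', hcv, hv'v]
        simp
      rw [e1, h6, e2, e3, hqv', hE' y, hqv', zero_smul, add_zero]
      rcases zcases (S.b y v') with f1 | f1 <;> rcases zcases (S.b y c') with f2 | f2 <;>
        rcases zcases (S.b y v) with f3 | f3 <;> rw [f1, f2, f3] <;>
        simp only [zero_smul, one_smul, add_zero, zone_add_one, zero_add]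
      · rw [add_assoc, vadd_self, add_zero]
      · have := vadd_self c'
        calc y + c' + (c' + v) = y + (c' + c') + v := by abel
          _ = y + v := by rw [this, add_zero]
      · have := vadd_self c'
        calc y + c' + (c' + v) + v' = y + (c' + c') + v + v' := by abel
          _ = y + v + v' := by rw [this, add_zero]
      · have := vadd_self c'
        have h' := vadd_self v'
        calc y + c' + v' + (c' + v) + v' = y + (c' + c') + v + (v' + v') := by abel
          _ = y + v := by rw [this, h', add_zero, add_zero]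
      · have := vadd_self c'
        calc y + c' + v' + (c' + v) = y + (c' + c') + v + v' := by abel
          _ = y + v + v' := by rw [this, add_zero]
    have hsv : s v = v := by
      rw [hsE v, hvv, S.b_self, zero_smul, zero_smul, add_zero, add_zero]
    have hsv' : s v' = v' := by
      rw [hsE v', hv'v, S.b_self, zero_smul, zero_smul, add_zero, add_zero]
    have hss : s * s = 1 := by
      ext y
      show s (s y) = y
      conv_lhs => rw [hsE y]
      rw [map_add, map_add, map_smul, map_smul, hsv, hsv', hsE y]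
      have h1 := vadd_self (S.b y v' • v)
      have h2 := vadd_self (S.b y v • v')
      calc y + S.b y v' • v + S.b y v • v' + S.b y v' • v + S.b y v • v'
          = y + (S.b y v' • v + S.b y v' • v) + (S.b y v • v' + S.b y v • v') := by abel
        _ = y := by rw [h1, h2, add_zero, add_zero]
    have htinv : t⁻¹ = t := inv_eq_of_mul_eq_one_left htt
    have h7 : (t * t') * (t * t') = s := by rw [hs, htinv]; group
    rw [show 4 = 2 * 2 from rfl, pow_mul, pow_two (t * t'), h7, pow_two s, hss]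
  intro c hc v hv c' hc' v' hv' t ht t' ht' hE hE'
  rcases zcases (S.b c c') with hb | hb
  · exact hcomm4 t t' (hE.sq (D.W_perp c hc v hv)) (hE'.sq (D.W_perp c' hc' v' hv'))
      (D.comm_perp hB hc hc' hb hv hv' ht hE hE')
  · -- normalise
    have hb' : S.b c' c = 1 := by rw [S.b_comm]; exact hb
    obtain ⟨w, hw, hEw, hcw⟩ : ∃ w ∈ W c, S.IsE t c w ∧ S.b c' w = 0 := by
      rcases zcases (S.b c' v) with h | h
      · exact ⟨v, hv, hE, h⟩
      · refine ⟨v + c, (W c).add_mem hv (D.W_mem c hc), hE.add_left (D.O_q c hc) (D.W_perp c hc v hv), ?_⟩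
        rw [map_add, h, hb']; decide
    obtain ⟨w', hw', hEw', hcw'⟩ : ∃ w' ∈ W c', S.IsE t' c' w' ∧ S.b c w' = 0 := by
      rcases zcases (S.b c v') with h | h
      · exact ⟨v', hv', hE', h⟩
      · refine ⟨v' + c', (W c').add_mem hv' (D.W_mem c' hc'),
          hE'.add_left (D.O_q c' hc') (D.W_perp c' hc' v' hv'), ?_⟩
        rw [map_add, h, hb]; decide
    exact main c hc w hw c' hc' w' hw' t ht t' ht' hEw hEw' hb hcw hcw'

end Data

end Cfsg.Agent.LargeExtra.Red.BThm
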