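import Cfsg.Agent.LargeExtra.Red.NFive

/-!
# S1761 [R9]: (C1), (C2) (helper539)

`V` is a nondegenerate quadratic space over `ZMod 2`, `H` a group of isometries, `U` a totally singular
`H`-submodule with `U = U^⊥` on which `H` induces all transvections, `Δ` an `H`-invariant set of singular
vectors such that, for `c ∈ Δ ∖ U`, the elements of `H` centralising `U ∩ c^⊥` map `c^⊥` into `1 + Dt c`,
`Dt c ∩ U = 0`, `c ∈ Dt c`.

* `c1` : `c ≠ c'` in `Δ ∖ U` implies `c + c' ∉ U` (`8 ≤ |U|`);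
* `c2` : if `Δ ⊄ U` and `16 ≤ |U|`, there is an `H`-submodule `U'` with `V = U ⊕ U'`, `Δ ∖ U = U' ∖ 0`, and
  `U ∖ 0 ⊆ Δ` or `U ∩ Δ = ∅`.
-/

set_option autoImplicit false

namespace Cfsg.Agent.LargeExtra.Red.COneTwo

open Cfsg.Agent.LargeExtra.Red.SiegelE Cfsg.Agent.LargeExtra.Red.BThm Cfsg.Agent.LargeExtra.Red.NFive

/-- The data of (C1), (C2). -/
structure CData {V : Type*} [AddCommGroup V] [Module (ZMod 2) V] (S : QSp V)
    (H : Subgroup (V ≃ₗ[ZMod 2] V)) (U : Submodule (ZMod 2) V) (Δ : Set V) (Dt : V → Submodule (ZMod 2) V) :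
    Prop where
  isom : ∀ h ∈ H, ∀ v, S.q (h v) = S.q v
  U_inv : ∀ h ∈ H, ∀ u ∈ U, h u ∈ U
  U_ts : ∀ u ∈ U, S.q u = 0
  U_perp : ∀ v, (∀ u ∈ U, S.b u v = 0) → v ∈ U
  trans : ∀ k ∈ U, ∀ p, S.b k p = 0 → ∃ h ∈ H, ∀ u ∈ U, h u = u + S.b u p • k
  Δ_inv : ∀ h ∈ H, ∀ c ∈ Δ, h c ∈ Δ
  Δ_ne : ∀ c ∈ Δ, c ≠ 0
  Δ_q : ∀ c ∈ Δ, S.q c = 0
  D_mem : ∀ c ∈ Δ, c ∉ U → c ∈ Dt c
  D_inf : ∀ c ∈ Δ, c ∉ U → ∀ v ∈ Dt c, v ∈ U → v = 0
  D_comm : ∀ c ∈ Δ, c ∉ U → ∀ h ∈ H, (∀ u ∈ U, S.b u c = 0 → h u = u) → ∀ y, S.b y c = 0 → h y + y ∈ Dt c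

variable {V : Type*} [AddCommGroup V] [Module (ZMod 2) V]
  {S : QSp V} {H : Subgroup (V ≃ₗ[ZMod 2] V)} {U : Submodule (ZMod 2) V} {Δ : Set V}
  {Dt : V → Submodule (ZMod 2) V}

/-- `trans` from `H → GL(U)` surjective. -/
theorem trans_of_gl (hGL : ∀ σ : U ≃ₗ[ZMod 2] U, ∃ h ∈ H, ∀ u : U, h (u : V) = (σ u : V)) :
    ∀ k ∈ U, ∀ p, S.b k p = 0 → ∃ h ∈ H, ∀ u ∈ U, h u = u + S.b u p • k := by
  intro k hk p hkp
  let f : U →ₗ[ZMod 2] U :=
    { toFun := fun u => u + S.b u p • (⟨k, hk⟩ : U)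
      map_add' := fun x y => by
        apply Subtype.ext
        show (x : V) + y + S.b ((x : V) + y) p • k = (x : V) + S.b (x : V) p • k + (y + S.b (y : V) p • k)
        rw [bl, add_smul]; abel
      map_smul' := fun r x => by
        apply Subtype.ext
        show r • (x : V) + S.b (r • (x : V)) p • k = r • ((x : V) + S.b (x : V) p • k)
        rw [map_smul, LinearMap.smul_apply, smul_add, smul_smul, smul_eq_mul] }
  have hf : Function.Involutive f := by
    intro u
    apply Subtype.ext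
    show ((u : V) + S.b (u : V) p • k) + S.b ((u : V) + S.b (u : V) p • k) p • k = u
    rw [bl, map_smul, LinearMap.smul_apply, hkp, smul_zero, add_zero, add_assoc, vadd_self, add_zero]
  obtain ⟨h, hh, hu⟩ := hGL (LinearEquiv.ofInvolutive f hf)
  exact ⟨h, hh, fun u hu' => hu ⟨u, hu'⟩⟩

/-- Independent functionals on `U`. -/
theorem exists_sepU (D : CData S H U Δ Dt) {p p' : V} (hp : p ∉ U) (hpp : p + p' ∉ U) (hp' : p' ∉ U) :
    ∃ u ∈ U, S.b u p = 1 ∧ S.b u p' = 0 := by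
  by_contra hcon
  push Not at hcon
  have key : ∀ u ∈ U, S.b u p' = 0 → S.b u p = 0 := fun u hu h => by
    rcases zcases (S.b u p) with h1 | h1
    · exact h1
    · exact absurd h (hcon u hu h1)
  obtain ⟨u0, hu0, h0⟩ : ∃ u0 ∈ U, S.b u0 p' = 1 := by
    by_contra h
    push Not at h
    apply hp'
    apply D.U_perp
    intro u hu
    rcases zcases (S.b u p') with h1 | h1
    · exact h1
    · exact absurd h1 (h u hu)
  have h2 : ∀ u ∈ U, S.b u p = S.b u0 p * S.b u p' := by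
    intro u hu
    rcases zcases (S.b u p') with h | h
    · rw [h, mul_zero]; exact key u hu h
    · rw [h, mul_one]
      have h3 : S.b (u + u0) p' = 0 := by rw [bl, h, h0]; decide
      have h4 := key _ (U.add_mem hu hu0) h3
      rw [bl] at h4
      rcases zcases (S.b u p) with h5 | h5 <;> rcases zcases (S.b u0 p) with h6 | h6 <;>
        rw [h5, h6] at h4 <;> rw [h5, h6] <;> revert h4 <;> decide
  rcases zcases (S.b u0 p) with h | h
  · apply hp
    apply D.U_perp
    intro u hu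
    rw [h2 u hu, h, zero_mul]
  · apply hpp
    apply D.U_perp
    intro u hu
    rw [br, h2 u hu, h, one_mul, zadd_self]

/-- A vector of `U` not orthogonal to `p`. -/
theorem exists_oneU (D : CData S H U Δ Dt) {p : V} (hp : p ∉ U) : ∃ u ∈ U, S.b u p = 1 := by
  by_contra h
  push Not at h
  apply hp
  apply D.U_perp
  intro u hu
  rcases zcases (S.b u p) with h1 | h1
  · exact h1
  · exact absurd h1 (h u hu)

/-- `b` vanishes on `U`. -/
theorem b_U (D : CData S H U Δ Dt) {u v : V} (hu : u ∈ U) (hv : v ∈ U) : S.b u v = 0 := by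
  have h := S.q_add u v
  rw [D.U_ts _ (U.add_mem hu hv), D.U_ts u hu, D.U_ts v hv, add_zero, zero_add] at h
  exact h.symm

/-- If `h` centralises `U ∩ c^⊥`, then `h y + y ∈ U + ⟨c⟩`. -/
theorem comm_mem (D : CData S H U Δ Dt) {c : V} (hcU : c ∉ U) {h : V ≃ₗ[ZMod 2] V} (hh : h ∈ H)
    (hfix : ∀ u ∈ U, S.b u c = 0 → h u = u) (y : V) : h y + y ∈ U ∨ h y + y + c ∈ U := by
  have h1 : ∀ u ∈ U, S.b u c = 0 → S.b u (h y + y) = 0 := by
    intro u hu huc
    have h2 := S.b_isom (D.isom h hh) u y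
    rw [hfix u hu huc] at h2
    rw [br, h2, zadd_self]
  obtain ⟨u0, hu0, h0⟩ := exists_oneU D hcU
  rcases zcases (S.b u0 (h y + y)) with h2 | h2
  · left
    apply D.U_perp
    intro u hu
    rcases zcases (S.b u c) with h3 | h3
    · exact h1 u hu h3
    · have h4 := h1 (u + u0) (U.add_mem hu hu0) (by rw [bl, h3, h0]; decide)
      rw [bl, h2, add_zero] at h4
      exact h4
  · right
    apply D.U_perp
    intro u hu
    rcases zcases (S.b u c) with h3 | h3
    · rw [br, h1 u hu h3, h3, add_zero]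
    · have h4 := h1 (u + u0) (U.add_mem hu hu0) (by rw [bl, h3, h0]; decide)
      rw [bl, h2] at h4
      rw [br, h3]
      exact h4

/-- Hence `h y ∈ {y, y + c}` for `y ⊥ c`. -/
theorem comm_cases (D : CData S H U Δ Dt) {c : V} (hc : c ∈ Δ) (hcU : c ∉ U) {h : V ≃ₗ[ZMod 2] V} (hh : h ∈ H)
    (hfix : ∀ u ∈ U, S.b u c = 0 → h u = u) {y : V} (hy : S.b y c = 0) : h y = y ∨ h y = y + c := by
  have h1 := D.D_comm c hc hcU h hh hfix y hy
  rcases comm_mem D hcU hh hfix y with h2 | h2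
  · left
    exact eq_of_add_eq_zero (D.D_inf c hc hcU _ h1 h2)
  · right
    have h3 := D.D_inf c hc hcU _ ((Dt c).add_mem h1 (D.D_mem c hc hcU)) h2
    rw [add_assoc] at h3
    exact eq_of_add_eq_zero h3

/-- **(C1)**. -/
theorem c1 [Finite V] (D : CData S H U Δ Dt) (hcard : 8 ≤ Nat.card U) {c c' : V} (hc : c ∈ Δ) (hc' : c' ∈ Δ)
    (hcU : c ∉ U) (hcU' : c' ∉ U) (hne : c ≠ c') : c + c' ∉ U := by
  classical
  intro hsum
  have hb : S.b c c' = 0 := by
    have h := S.q_add c c'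
    rw [D.U_ts _ hsum, D.Δ_q c hc, D.Δ_q c' hc', add_zero, zero_add] at h
    exact h.symm
  have hb' : S.b c' c = 0 := by rw [S.b_comm]; exact hb
  -- same axis
  have hax : ∀ u ∈ U, S.b u c = S.b u c' := by
    intro u hu
    have h := b_U D hu hsum
    rw [br] at h
    exact eq_of_add_eq_zero h
  -- the uniqueness of a nontrivial element centralising the axis
  obtain ⟨a, ha1, ha2⟩ := S.exists_sep (u := c') (w := c) (D.Δ_ne c' hc') (Ne.symm hne)
  obtain ⟨a', ha1', ha2'⟩ := S.exists_sep (u := c) (w := c') (D.Δ_ne c hc) hne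
  have key : ∀ h ∈ H, (∀ u ∈ U, S.b u c = 0 → h u = u) → (∀ u ∈ U, S.b u c = 0 → h u = u) ∧
      (∀ y, S.b y c = 0 → S.b y c' = 0 → h y = y) ∧
      ((h a = a ∧ h a' = a') ∨ (h a = a + c ∧ h a' = a' + c')) := by
    intro h hh hfix
    have hfix' : ∀ u ∈ U, S.b u c' = 0 → h u = u := fun u hu huc => hfix u hu ((hax u hu).trans huc)
    refine ⟨hfix, ?_, ?_⟩
    · intro y hy hy'
      rcases comm_cases D hc hcU hh hfix hy with h1 | h1
      · exact h1
      rcases comm_cases D hc' hcU' hh hfix' hy' with h2 | h2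
      · exact h2
      · exfalso
        rw [h1] at h2
        exact hne (add_left_cancel h2)
    · have hba := S.b_isom (D.isom h hh) a a'
      have hac' : S.b a' c = 1 := ha1'
      rcases comm_cases D hc hcU hh hfix ha2 with h1 | h1 <;>
        rcases comm_cases D hc' hcU' hh hfix' ha2' with h2 | h2
      · exact Or.inl ⟨h1, h2⟩
      · exfalso
        rw [h1, h2, br, ha1] at hba
        have : (1 : ZMod 2) = 0 := by simpa using hba
        exact absurd this (by decide)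
      · exfalso
        rw [h1, h2, bl, S.b_comm c a', ha1'] at hba
        have : (1 : ZMod 2) = 0 := by simpa using hba
        exact absurd this (by decide)
      · exact Or.inr ⟨h1, h2⟩
  -- two different nontrivial elements
  obtain ⟨u0, hu0, h0⟩ := exists_oneU D hcU
  obtain ⟨k1, hk1, hk10, hk1c⟩ : ∃ k ∈ U, k ≠ 0 ∧ S.b k c = 0 := by
    by_contra hcon
    push Not at hcon
    have h1 := card_le_two_mul U (S.b c) {0} (fun v hv h => by
      by_contra h2
      exact hcon v hv h2 (by rw [S.b_comm]; exact h))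
    rw [Set.ncard_singleton] at h1
    omega
  obtain ⟨k2, hk2, hk20, hk21, hk2c⟩ : ∃ k ∈ U, k ≠ 0 ∧ k ≠ k1 ∧ S.b k c = 0 := by
    by_contra hcon
    push Not at hcon
    have h1 := card_le_two_mul U (S.b c) {0, k1} (fun v hv h => by
      by_cases h2 : v = 0
      · simp [h2]
      by_cases h3 : v = k1
      · simp [h3]
      exact absurd (by rw [S.b_comm]; exact h) (hcon v hv h2 h3))
    have h2 := ncard_two_le 0 k1
    omega
  obtain ⟨g1, hg1, e1⟩ := D.trans k1 hk1 c hk1c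
  obtain ⟨g2, hg2, e2⟩ := D.trans k2 hk2 c hk2c
  have f1 : ∀ u ∈ U, S.b u c = 0 → g1 u = u := fun u hu h => by rw [e1 u hu, h, zero_smul, add_zero]
  have f2 : ∀ u ∈ U, S.b u c = 0 → g2 u = u := fun u hu h => by rw [e2 u hu, h, zero_smul, add_zero]
  obtain ⟨-, p1, q1⟩ := key g1 hg1 f1
  obtain ⟨-, p2, q2⟩ := key g2 hg2 f2
  -- decomposition of a vector
  have hdec : ∀ (g : V ≃ₗ[ZMod 2] V), (∀ y, S.b y c = 0 → S.b y c' = 0 → g y = y) →
      ∀ y, g y + y = S.b y c' • (g a + a) + S.b y c • (g a' + a') := by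
    intro g hg y
    have h1 : S.b (y + S.b y c' • a + S.b y c • a') c = 0 := by
      rw [bl, bl, map_smul, map_smul, LinearMap.smul_apply, LinearMap.smul_apply, ha2, ha1', smul_zero, add_zero,
        smul_eq_mul, mul_one, zadd_self]
    have h2 : S.b (y + S.b y c' • a + S.b y c • a') c' = 0 := by
      rw [bl, bl, map_smul, map_smul, LinearMap.smul_apply, LinearMap.smul_apply, ha2', ha1, smul_zero, add_zero,
        smul_eq_mul, mul_one, zadd_self]
    have h3 := hg _ h1 h2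
    rw [map_add, map_add, map_smul, map_smul] at h3
    have h4 : g y = y + (S.b y c' • (g a + a) + S.b y c • (g a' + a')) := by
      have h5 : g y + S.b y c' • g a + S.b y c • g a' + (S.b y c' • g a + S.b y c • g a')
          = y + S.b y c' • a + S.b y c • a' + (S.b y c' • g a + S.b y c • g a') :=
        congrArg (fun x => x + (S.b y c' • g a + S.b y c • g a')) h3
      have z1 := vadd_self (S.b y c' • g a)
      have z2 := vadd_self (S.b y c • g a')
      have h6 : g y + S.b y c' • g a + S.b y c • g a' + (S.b y c' • g a + S.b y c • g a')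
          = g y + (S.b y c' • g a + S.b y c' • g a) + (S.b y c • g a' + S.b y c • g a') := by abel
      rw [h6, z1, z2, add_zero, add_zero] at h5
      rw [h5, smul_add, smul_add]
      abel
    rw [h4]
    have z := vadd_self y
    calc y + (S.b y c' • (g a + a) + S.b y c • (g a' + a')) + y
        = (y + y) + (S.b y c' • (g a + a) + S.b y c • (g a' + a')) := by abel
      _ = _ := by rw [z, zero_add]
  have d1 := hdec g1 p1 u0
  have d2 := hdec g2 p2 u0
  have m1 : g1 u0 + u0 = k1 := by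
    rw [e1 u0 hu0, h0, one_smul, add_comm u0 k1, add_assoc, vadd_self, add_zero]
  have m2 : g2 u0 + u0 = k2 := by
    rw [e2 u0 hu0, h0, one_smul, add_comm u0 k2, add_assoc, vadd_self, add_zero]
  rw [m1] at d1
  rw [m2] at d2
  rcases q1 with ⟨x1, y1⟩ | ⟨x1, y1⟩
  · rw [x1, y1, vadd_self, vadd_self, smul_zero, smul_zero, add_zero] at d1
    exact hk10 d1
  rcases q2 with ⟨x2, y2⟩ | ⟨x2, y2⟩
  · rw [x2, y2, vadd_self, vadd_self, smul_zero, smul_zero, add_zero] at d2
    exact hk20 d2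
  apply hk21
  rw [d1, d2, x1, x2, y1, y2]

/-- `H` is transitive on the nonzero cosets of `U`. -/
theorem exists_coset (D : CData S H U Δ Dt) {c v : V} (hc : c ∉ U) (hv : v ∉ U) : ∃ h ∈ H, h c + v ∈ U := by
  by_cases hcv : c + v ∈ U
  · exact ⟨1, H.one_mem, hcv⟩
  obtain ⟨k1, hk1, e1, f1⟩ := exists_sepU D hc hcv hv
  obtain ⟨k2, hk2, e2, f2⟩ := exists_sepU D hv (by rw [add_comm]; exact hcv) hc
  have hk := U.add_mem hk1 hk2
  have h1 : S.b (k1 + k2) c = 1 := by rw [bl, e1, f2, add_zero]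
  have h2 : S.b (k1 + k2) v = 1 := by rw [bl, f1, e2, zero_add]
  obtain ⟨h, hh, hu⟩ := D.trans (k1 + k2) hk (c + v) (by rw [br, h1, h2]; decide)
  refine ⟨h, hh, D.U_perp _ ?_⟩
  intro u hu'
  -- `u = h u'`
  have h3 : h (u + S.b u (c + v) • (k1 + k2)) = u := by
    rw [hu _ (U.add_mem hu' (U.smul_mem _ hk)), bl, map_smul, LinearMap.smul_apply]
    have : S.b (k1 + k2) (c + v) = 0 := by rw [br, h1, h2]; decide
    rw [this, smul_zero, add_zero, add_assoc, vadd_self, add_zero]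
  have h4 := S.b_isom (D.isom h hh) (u + S.b u (c + v) • (k1 + k2)) c
  rw [h3, bl, map_smul, LinearMap.smul_apply, h1, br, smul_eq_mul, mul_one] at h4
  rw [br, h4]
  rcases zcases (S.b u c) with a | a <;> rcases zcases (S.b u v) with b | b <;> rw [a, b] <;> decide

/-- **(C2)**. -/
theorem c2 [Finite V] (D : CData S H U Δ Dt) (hcard : 16 ≤ Nat.card U) (hΔ : ∃ c ∈ Δ, c ∉ U) :
    ∃ U' : Submodule (ZMod 2) V, (∀ h ∈ H, ∀ v ∈ U', h v ∈ U') ∧ (∀ v ∈ U, v ∈ U' → v = 0) ∧
      (∀ v, ∃ u ∈ U, v + u ∈ U') ∧ (∀ v, v ∈ Δ ∧ v ∉ U ↔ v ∈ U' ∧ v ≠ 0) ∧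
      ((∀ u ∈ U, u ∉ Δ) ∨ ∀ u ∈ U, u ≠ 0 → u ∈ Δ) := by
  classical
  have hc1 := fun {c c' : V} => c1 D (by omega : 8 ≤ Nat.card U) (c := c) (c' := c')
  obtain ⟨c, hc, hcU⟩ := hΔ
  -- `H` preserves `V ∖ U`
  have hout : ∀ h ∈ H, ∀ v, v ∉ U → h v ∉ U := by
    intro h hh v hv h1
    apply hv
    have h2 := D.U_inv h⁻¹ (H.inv_mem hh) _ h1
    have h3 : h⁻¹ (h v) = v := LinearEquiv.symm_apply_apply h v
    rwa [h3] at h2
  -- representatives
  have hrep : ∀ v, v ∉ U → ∃ d ∈ Δ, d ∉ U ∧ d + v ∈ U := by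
    intro v hv
    obtain ⟨h, hh, h1⟩ := exists_coset D hcU hv
    exact ⟨h c, D.Δ_inv h hh c hc, hout h hh c hcU, h1⟩
  -- closure under addition
  have hadd : ∀ d ∈ Δ, d ∉ U → ∀ e ∈ Δ, e ∉ U → d ≠ e → d + e ∈ Δ ∧ d + e ∉ U := by
    intro d hd hdU e he heU hde
    have h1 : d + e ∉ U := hc1 hd he hdU heU hde
    refine ⟨?_, h1⟩
    obtain ⟨f, hf, hfU, hfs⟩ := hrep (d + e) h1
    -- `u = f + (d + e)` is fixed by the transvections fixing the functionals of `d`, `e`
    set u := f + (d + e) with hu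
    by_cases hu0 : u = 0
    · have : f = d + e := eq_of_add_eq_zero hu0
      rw [← this]; exact hf
    exfalso
    -- `k ∈ U`, `k ≠ 0, u`, orthogonal to `d` and `e`
    obtain ⟨k, hk, hk0, hku, hkd, hke⟩ : ∃ k ∈ U, k ≠ 0 ∧ k ≠ u ∧ S.b k d = 0 ∧ S.b k e = 0 := by
      by_contra hcon
      push Not at hcon
      set U1 : Submodule (ZMod 2) V := U ⊓ LinearMap.ker (S.b d) with hU1
      have h2 := card_le_two_mul U (S.b d) (U1 : Set V) (fun v hv h0 => ⟨hv, h0⟩)
      have h3 : (U1 : Set V).ncard = Nat.card U1 := rfl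
      have h4 := card_le_two_mul U1 (S.b e) {0, u} (fun v hv h => by
        by_cases h5 : v = 0
        · simp [h5]
        by_cases h6 : v = u
        · simp [h6]
        have h7 : S.b v d = 0 := by rw [S.b_comm]; exact hv.2
        exact absurd (by rw [S.b_comm]; exact h) (hcon v hv.1 h5 h6 h7))
      have h5 := ncard_two_le 0 u
      omega
    -- `p` with `b k p = 0`, `b u p = 1`
    obtain ⟨p, hp1, hp2⟩ := S.exists_sep (u := u) (w := k) hu0 (Ne.symm hku)
    obtain ⟨g, hg, hgu⟩ := D.trans k hk p (by rw [S.b_comm]; exact hp2)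
    -- `g` fixes the cosets of `d`, `e`, `f`
    have hcos : ∀ x, S.b k x = 0 → g x + x ∈ U := by
      intro x hx
      apply D.U_perp
      intro y hy
      have h3 : g (y + S.b y p • k) = y := by
        rw [hgu _ (U.add_mem hy (U.smul_mem _ hk)), bl, map_smul, LinearMap.smul_apply,
          show S.b k p = 0 by rw [S.b_comm]; exact hp2, smul_zero, add_zero, add_assoc, vadd_self, add_zero]
      have h4 := S.b_isom (D.isom g hg) (y + S.b y p • k) x
      rw [h3, bl, map_smul, LinearMap.smul_apply, hx, smul_zero, add_zero] at h4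
      rw [br, h4, zadd_self]
    have hfixΔ : ∀ x ∈ Δ, x ∉ U → S.b k x = 0 → g x = x := by
      intro x hx hxU hkx
      by_contra hne
      exact hc1 (D.Δ_inv g hg x hx) hx (hout g hg x hxU) hxU hne (hcos x hkx)
    have hkf : S.b k f = 0 := by
      have h5 := b_U D hk hfs
      rw [br, br, hkd, hke, add_zero, add_zero] at h5
      exact h5
    have h6 : g u = u := by
      rw [hu, map_add, map_add, hfixΔ f hf hfU hkf, hfixΔ d hd hdU hkd, hfixΔ e he heU hke]
    have h7 : g u = u + k := by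
      rw [hgu u hfs, S.b_comm u p, hp1, one_smul]
    rw [h6] at h7
    exact hk0 (by simpa using h7.symm)
  let U' : Submodule (ZMod 2) V :=
    { carrier := {v | v = 0 ∨ (v ∈ Δ ∧ v ∉ U)}
      zero_mem' := Or.inl rfl
      add_mem' := by
        rintro a b (rfl | ⟨ha, haU⟩) (rfl | ⟨hb, hbU⟩)
        · left; rw [add_zero]
        · right; rw [zero_add]; exact ⟨hb, hbU⟩
        · right; rw [add_zero]; exact ⟨ha, haU⟩
        · by_cases h : a = b
          · left; rw [h, vadd_self]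
          · right; exact hadd a ha haU b hb hbU h
      smul_mem' := by
        rintro r a ha
        rcases zcases r with h | h
        · left; rw [h, zero_smul]
        · rw [h, one_smul]; exact ha }
  have hU' : ∀ v, v ∈ U' ↔ v = 0 ∨ (v ∈ Δ ∧ v ∉ U) := fun v => Iff.rfl
  refine ⟨U', ?_, ?_, ?_, ?_, ?_⟩
  · intro h hh v hv
    rw [hU'] at hv ⊢
    rcases hv with rfl | ⟨h1, h2⟩
    · left; rw [map_zero]
    · right; exact ⟨D.Δ_inv h hh v h1, hout h hh v h2⟩
  · intro v hvU hv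
    rw [hU'] at hv
    rcases hv with h | ⟨-, h2⟩
    · exact h
    · exact absurd hvU h2
  · intro v
    by_cases hv : v ∈ U
    · exact ⟨v, hv, by rw [vadd_self]; exact U'.zero_mem⟩
    · obtain ⟨d, hd, hdU, hs⟩ := hrep v hv
      refine ⟨d + v, hs, ?_⟩
      rw [hU']
      right
      have : v + (d + v) = d := by rw [add_comm d v, add_add_cancel']
      rw [this]
      exact ⟨hd, hdU⟩
  · intro v
    rw [hU']
    constructor
    · rintro ⟨h1, h2⟩
      exact ⟨Or.inr ⟨h1, h2⟩, D.Δ_ne v h1⟩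
    · rintro ⟨h1 | h1, h2⟩
      · exact absurd h1 h2
      · exact h1
  · by_cases h : ∃ u ∈ U, u ∈ Δ
    · right
      obtain ⟨u0, hu0, hu0Δ⟩ := h
      intro u hu hune
      by_cases he : u = u0
      · rw [he]; exact hu0Δ
      have hu00 := D.Δ_ne u0 hu0Δ
      -- `p` with `b u p = b u0 p = 1`
      obtain ⟨p1, e1, f1⟩ := S.exists_sep (u := u) (w := u0) hune he
      obtain ⟨p2, e2, f2⟩ := S.exists_sep (u := u0) (w := u) hu00 (Ne.symm he)
      have h1 : S.b u (p1 + p2) = 1 := by rw [br, S.b_comm u p1, S.b_comm u p2, e1, f2, add_zero]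
      have h2 : S.b u0 (p1 + p2) = 1 := by rw [br, S.b_comm u0 p1, S.b_comm u0 p2, f1, e2, zero_add]
      obtain ⟨g, hg, hgu⟩ := D.trans (u0 + u) (U.add_mem hu0 hu) (p1 + p2) (by rw [bl, h1, h2]; decide)
      have h3 := D.Δ_inv g hg u0 hu0Δ
      rw [hgu u0 hu0, h2, one_smul, add_add_cancel'] at h3
      exact h3
    · left
      push Not at h
      exact h

end Cfsg.Agent.LargeExtra.Red.COneTwo
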