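import Cfsg.Agent.LargeExtra.Red.NSevenB
import Cfsg.Agent.LargeExtra.Red.COneTwo

/-!
# S1761, case II: (C1), (C2) in the group (helper539)

* `Delta h`: the images in `V` of the conjugates of `z` in `Q ∖ {z}`;
* `minInv_of_gl`: in the case `GLCase h U` the subspace `U` is a minimal submodule;
* `c_glue`: (C2) in terms of `GLCase`, `GammaCase`.
-/

set_option autoImplicit false

namespace Cfsg.Agent.LargeExtra.Red.CGlue

open Cfsg.Agent.Co2Type.Quad Cfsg.Agent.LargeExtra.Base Cfsg.Agent.LargeExtra.TwoCentral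
open Cfsg.Agent.LargeExtra.Siegel Cfsg.Agent.LargeExtra.SiegelOrbit Cfsg.Agent.LargeExtra.Local
open Cfsg.Agent.LargeExtra.Red.SiegelE Cfsg.Agent.LargeExtra.Red.COneTwo Cfsg.Agent.LargeExtra.Red.FalseSD

variable {G : Type*} [Group G] {Q A : Subgroup G} {z a : G}

/-- The images in `V` of the conjugates of `z` in `Q ∖ {z}`. -/
def Delta (h : Large Q z) : Set h.V := {v | ∃ (A : Subgroup G) (a : G) (p : Pair Q z A a), p.va = v}

theorem mem_Delta_of_conj (h : Large Q z) {g : G} (hg : g * z * g⁻¹ ∈ Q) (hne : g * z * g⁻¹ ≠ z) :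
    h.pr ⟨g * z * g⁻¹, hg⟩ ∈ Delta h := ⟨_, _, pair_of_conj h hg hne, rfl⟩

theorem exists_conj_of_mem (h : Large Q z) {v : h.V} (hv : v ∈ Delta h) :
    ∃ (g : G) (hg : g * z * g⁻¹ ∈ Q), g * z * g⁻¹ ≠ z ∧ h.pr ⟨g * z * g⁻¹, hg⟩ = v := by
  obtain ⟨A, a, p, rfl⟩ := hv
  obtain ⟨g, h1, -, -, -⟩ := p.isConj
  subst h1
  exact ⟨g, p.a_mem, p.ne, rfl⟩

/-- If `Δ ⊆ U` then `z^G ∩ Q ⊆ pre U`. -/
theorem mem_pre_of_Delta (h : Large Q z) {U : Submodule (ZMod 2) h.V} (hΔ : ∀ v ∈ Delta h, v ∈ U) {g : G}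
    (hg : g * z * g⁻¹ ∈ Q) : g * z * g⁻¹ ∈ pre h U := by
  by_cases hne : g * z * g⁻¹ = z
  · rw [hne]; exact z_mem_pre h U
  · exact (coe_mem_pre h ⟨_, hg⟩).2 (hΔ _ (mem_Delta_of_conj h hg hne))

/-- The elements of `z^G ∩ Q` over `Δ`: both preimages of a vector of `Δ` are conjugates of `z`. -/
theorem isConj_of_Delta (h : Large Q z) {x : Q} (hx : h.pr x ∈ Delta h) : IsConj z (x : G) := by
  obtain ⟨A, a, p, hp⟩ := hx
  have h1 : h.pr x = h.pr ⟨a, p.a_mem⟩ := hp.symm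
  have haz : IsConj z a := by
    obtain ⟨g, h1, -⟩ := p.isConj
    rw [isConj_iff]
    exact ⟨g, h1⟩
  rcases h.pr_eq_pr.1 h1 with h2 | h2
  · rw [h2]; exact haz
  · rw [h2]
    obtain ⟨g, -, h3, -⟩ := p.cycle
    have h4 : IsConj a (a * z) := isConj_iff.2 ⟨g, h3⟩
    exact haz.trans h4

theorem Delta_inv (h : Large Q z) {f : h.V ≃ₗ[ZMod 2] h.V} (hf : f ∈ h.act.range) {v : h.V}
    (hv : v ∈ Delta h) : f v ∈ Delta h := by
  obtain ⟨c, rfl⟩ := hf
  obtain ⟨g, hg, hne, rfl⟩ := exists_conj_of_mem h hv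
  rw [h.act_pr]
  have hcz : (c : G) * z = z * c := Subgroup.mem_centralizer_singleton_iff.1 c.2
  have e : ((h.conjQ c ⟨g * z * g⁻¹, hg⟩ : Q) : G) = (c * g) * z * (c * g)⁻¹ := by
    rw [h.conjQ_coe]; group
  have hg' : ((c : G) * g) * z * (c * g)⁻¹ ∈ Q := by
    rw [← e]; exact (h.conjQ c ⟨g * z * g⁻¹, hg⟩).2
  have hne' : ((c : G) * g) * z * (c * g)⁻¹ ≠ z := by
    intro h1
    apply hne
    have h2 : (c : G)⁻¹ * (((c : G) * g) * z * (c * g)⁻¹) * c = g * z * g⁻¹ := by group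
    rw [← h2, h1]
    have h3 : (c : G)⁻¹ * z * c = (c : G)⁻¹ * (z * c) := by group
    rw [h3, ← hcz]; group
  have e2 : h.conjQ c ⟨g * z * g⁻¹, hg⟩ = ⟨((c : G) * g) * z * (c * g)⁻¹, hg'⟩ := Subtype.ext e
  rw [e2]
  exact mem_Delta_of_conj h hg' hne'

/-- Given `GLCase h U`, the transvections. -/
theorem trans_gl {h : Large Q z} {U : Submodule (ZMod 2) h.V} (gl : GLCase h U) :
    ∀ k ∈ U, ∀ p, h.b k p = 0 → ∃ f ∈ h.act.range, ∀ u ∈ U, f u = u + h.b u p • k :=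
  trans_of_gl (S := qsp h) gl.gl

theorem minInv_of_gl {h : Large Q z} {U : Submodule (ZMod 2) h.V} (gl : GLCase h U) (hne : U ≠ ⊥) :
    MinInv h U := by
  refine ⟨gl.inv, hne, fun W hW hle => ?_⟩
  by_cases h0 : W = ⊥
  · exact Or.inl h0
  right
  apply le_antisymm hle
  obtain ⟨w, hw, hw0⟩ := (Submodule.ne_bot_iff W).1 h0
  intro u hu
  by_cases hu0 : u = 0
  · rw [hu0]; exact W.zero_mem
  by_cases huw : u = w
  · rw [huw]; exact hw
  obtain ⟨p1, e1, f1⟩ := (qsp h).exists_sep (u := u) (w := w) hu0 huw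
  obtain ⟨p2, e2, f2⟩ := (qsp h).exists_sep (u := w) (w := u) hw0 (Ne.symm huw)
  have e1' : h.b u p1 = 1 := by rw [h.b_comm]; exact e1
  have e2' : h.b w p2 = 1 := by rw [h.b_comm]; exact e2
  have f1' : h.b w p1 = 0 := by rw [h.b_comm]; exact f1
  have f2' : h.b u p2 = 0 := by rw [h.b_comm]; exact f2
  have h1 : h.b u (p1 + p2) = 1 := by rw [map_add, e1', f2', add_zero]
  have h2 : h.b w (p1 + p2) = 1 := by rw [map_add, f1', e2', zero_add]
  obtain ⟨f, hf, hfu⟩ := trans_gl gl (w + u) (U.add_mem (hle hw) hu) (p1 + p2) (by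
    rw [NSeven.hbl, h1, h2]; decide)
  have h3 := hW f hf w hw
  rw [hfu w (hle hw), h2, one_smul, ← add_assoc, h.add_self, zero_add] at h3
  exact h3

open Classical in
/-- The family `D̃_c`. -/
noncomputable def Dt (h : Large Q z) (c : h.V) : Submodule (ZMod 2) h.V :=
  if hc : c ∈ Delta h then hc.choose_spec.choose_spec.choose.D else ⊥

/-- `Dt` is the `D` of some pair. -/
theorem exists_pair (h : Large Q z) {c : h.V} (hc : c ∈ Delta h) :
    ∃ (A : Subgroup G) (a : G) (p : Pair Q z A a), p.va = c ∧ Dt h c = p.D := by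
  classical
  refine ⟨_, _, hc.choose_spec.choose_spec.choose, hc.choose_spec.choose_spec.choose_spec, ?_⟩
  rw [Dt, dif_pos hc]

theorem cdata {h : Large Q z} {U : Submodule (ZMod 2) h.V} (gl : GLCase h U)
    (hΓ : ∀ (A : Subgroup G) (a : G) (p : Pair Q z A a), p.va ∉ U → GammaCase p U) :
    CData (qsp h) h.act.range U (Delta h) (Dt h) where
  isom := fun f hf v => range_le_O h hf v
  U_inv := fun f hf u hu => gl.inv f hf u hu
  U_ts := gl.ts
  U_perp := gl.perp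
  trans := trans_gl gl
  Δ_inv := fun _ hf _ hc => Delta_inv h hf hc
  Δ_ne := by
    rintro _ ⟨A, a, p, rfl⟩
    exact p.va_ne
  Δ_q := by
    rintro _ ⟨A, a, p, rfl⟩
    exact q_va p
  D_mem := by
    intro c hc _
    obtain ⟨A, a, p, rfl, h1⟩ := exists_pair h hc
    rw [h1]
    exact p.va_mem_D
  D_inf := by
    intro c hc hcU v hv hvU
    obtain ⟨A, a, p, rfl, h1⟩ := exists_pair h hc
    rw [h1] at hv
    exact (hΓ A a p hcU).disj v hvU hv
  D_comm := by
    intro c hc hcU f hf hfix y hy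
    obtain ⟨A, a, p, rfl, h1⟩ := exists_pair h hc
    rw [h1]
    have hfX : f ∈ p.X := ((hΓ A a p hcU).mem_X f).2 ⟨hf, fun u hu hu' => hfix u hu (by
      show h.b u p.va = 0
      rw [h.b_comm]; exact hu')⟩
    have hy' : h.b y p.va = 0 := hy
    exact p.X_perp hfX (by rw [h.b_comm] at hy'; exact hy')

/-- `GLCase` for a complement. -/
theorem gl_compl [Finite G] {h : Large Q z} {U U' : Submodule (ZMod 2) h.V} (gl : GLCase h U)
    (hI : Inv h U') (hts : ∀ v ∈ U', h.q v = 0) (_hinf : ∀ v ∈ U, v ∈ U' → v = 0)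
    (hsup : ∀ v, ∃ u ∈ U, v + u ∈ U') : GLCase h U' ∧ Nat.card U' = Nat.card U := by
  classical
  have hbU : ∀ u ∈ U, ∀ v ∈ U, h.b u v = 0 := fun u hu v hv => b_eq_zero_of_ts h gl.ts hu hv
  have hbU' : ∀ u ∈ U', ∀ v ∈ U', h.b u v = 0 := fun u hu v hv => b_eq_zero_of_ts h hts hu hv
  have hdec : ∀ v, ∃ u ∈ U, ∃ u' ∈ U', v = u + u' := by
    intro v
    obtain ⟨u, hu, hu'⟩ := hsup v
    refine ⟨u, hu, _, hu', ?_⟩
    calc v = v + (u + u) := by rw [h.add_self, add_zero]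
      _ = u + (v + u) := by abel
  have hperp : ∀ v, (∀ u ∈ U', h.b u v = 0) → v ∈ U' := by
    intro v hv
    obtain ⟨u, hu, u', hu', rfl⟩ := hdec v
    have h1 : u = 0 := by
      apply h.b_nondeg
      intro w
      obtain ⟨x, hx, x', hx', rfl⟩ := hdec w
      have h2 := hv x' hx'
      rw [map_add, hbU' x' hx' u' hu', add_zero] at h2
      rw [map_add, hbU u hu x hx, zero_add, h.b_comm]
      exact h2
    rw [h1, zero_add]; exact hu'
  have hfaith : ∀ f ∈ h.act.range, (∀ u ∈ U', f u = u) → f = 1 := by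
    intro f hf hfix
    apply gl.faithful f hf
    intro u hu
    have h1 : f u + u = 0 := by
      apply h.b_nondeg
      intro w
      obtain ⟨x, hx, x', hx', rfl⟩ := hdec w
      have h2 := b_of_mem_O h (range_le_O h hf) u x'
      rw [hfix x' hx'] at h2
      rw [map_add, hbU _ (U.add_mem (gl.inv f hf u hu) hu) x hx, zero_add, map_add, LinearMap.add_apply, h2]
      have : ∀ t : ZMod 2, t + t = 0 := by decide
      exact this _
    calc f u = f u + u + u := by rw [add_assoc, h.add_self, add_zero]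
      _ = u := by rw [h1, zero_add]
  -- cardinalities
  have hc1 := Cfsg.Agent.LargeExtra.Perp.card_perp h U
  have hc2 := Cfsg.Agent.LargeExtra.Perp.card_perp h U'
  have hp1 : h.b.orthogonal U = U := by
    ext v
    rw [Cfsg.Agent.LargeExtra.Perp.mem_perp]
    exact ⟨gl.perp v, fun hv w hw => hbU w hw v hv⟩
  have hp2 : h.b.orthogonal U' = U' := by
    ext v
    rw [Cfsg.Agent.LargeExtra.Perp.mem_perp]
    exact ⟨hperp v, fun hv w hw => hbU' w hw v hv⟩
  rw [hp1] at hc1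
  rw [hp2] at hc2
  have hcard : Nat.card U' = Nat.card U := by
    have : Nat.card U' * Nat.card U' = Nat.card U * Nat.card U := hc2.trans hc1.symm
    exact Nat.mul_self_inj.1 this
  refine ⟨⟨hI, hts, hperp, ?_, hfaith⟩, hcard⟩
  -- `H → GL(U')` is surjective: it is injective and the orders agree
  have : Module.Finite (ZMod 2) h.V := Module.Finite.of_finite
  have hfr : Module.finrank (ZMod 2) U' = Module.finrank (ZMod 2) U := by
    have e1 := Module.natCard_eq_pow_finrank (K := ZMod 2) (V := U')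
    have e2 := Module.natCard_eq_pow_finrank (K := ZMod 2) (V := U)
    rw [hcard, e2] at e1
    rw [Nat.card_zmod] at e1
    exact (Nat.pow_right_injective le_rfl e1).symm
  have eUU : U' ≃ₗ[ZMod 2] U := LinearEquiv.ofFinrankEq U' U hfr
  -- restriction maps
  let res : ∀ (W : Submodule (ZMod 2) h.V), Inv h W → h.act.range → (W ≃ₗ[ZMod 2] W) := fun W hW f =>
    { toFun := fun w => ⟨(f : h.V ≃ₗ[ZMod 2] h.V) w, hW f f.2 w w.2⟩
      map_add' := fun x y => Subtype.ext (map_add _ _ _)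
      map_smul' := fun r x => Subtype.ext (map_smul _ _ _)
      invFun := fun w => ⟨(f : h.V ≃ₗ[ZMod 2] h.V)⁻¹ w, hW _ (inv_mem f.2) w w.2⟩
      left_inv := fun w => Subtype.ext (apply_inv (f : h.V ≃ₗ[ZMod 2] h.V) w)
      right_inv := fun w => Subtype.ext (inv_apply (f : h.V ≃ₗ[ZMod 2] h.V) w) }
  have hinj : ∀ (W : Submodule (ZMod 2) h.V) (hW : Inv h W),
      (∀ f ∈ h.act.range, (∀ u ∈ W, f u = u) → f = 1) → Function.Injective (res W hW) := by
    rintro W hW hfa ⟨f, hf⟩ ⟨g, hg⟩ e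
    apply Subtype.ext
    show f = g
    have h1 : g⁻¹ * f = 1 := by
      apply hfa _ (mul_mem (inv_mem hg) hf)
      intro u hu
      have h2 : f u = g u := congrArg (fun s : W ≃ₗ[ZMod 2] W => ((s ⟨u, hu⟩ : W) : h.V)) e
      show g⁻¹ (f u) = u
      rw [h2]; exact apply_inv g u
    exact (inv_mul_eq_one.1 h1).symm
  have hsurjU : Function.Surjective (res U gl.inv) := by
    intro s
    obtain ⟨f, hf, hfs⟩ := gl.gl s
    refine ⟨⟨f, hf⟩, ?_⟩
    ext u
    exact hfs u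
  have hfinV : Finite (h.V ≃ₗ[ZMod 2] h.V) := Finite.of_injective (fun f => (f : h.V → h.V)) DFunLike.coe_injective
  have hc3 : Nat.card h.act.range = Nat.card (U ≃ₗ[ZMod 2] U) :=
    Nat.card_congr (Equiv.ofBijective _ ⟨hinj U gl.inv gl.faithful, hsurjU⟩)
  have hfin1 : Finite (U' ≃ₗ[ZMod 2] U') := Finite.of_injective (fun f => (f : U' → U')) DFunLike.coe_injective
  have hc4 : Nat.card (U ≃ₗ[ZMod 2] U) = Nat.card (U' ≃ₗ[ZMod 2] U') :=
    Nat.card_congr
      { toFun := fun s => (eUU.trans s).trans eUU.symm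
        invFun := fun s => (eUU.symm.trans s).trans eUU
        left_inv := fun s => by ext u; simp
        right_inv := fun s => by ext u; simp }
  have hbij := (Nat.bijective_iff_injective_and_card (res U' hI)).2 ⟨hinj U' hI hfaith, hc3.trans hc4⟩
  intro s
  obtain ⟨⟨f, hf⟩, hs⟩ := hbij.2 s
  refine ⟨f, hf, fun u => ?_⟩
  exact congrArg (fun t : U' ≃ₗ[ZMod 2] U' => ((t u : U') : h.V)) hs

/-- **(C2)** in the group. -/
theorem c_glue [Finite G] {h : Large Q z} {U : Submodule (ZMod 2) h.V} (gl : GLCase h U)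
    (hc : 16 ≤ Nat.card U)
    (hΓ : ∀ (A : Subgroup G) (a : G) (p : Pair Q z A a), p.va ∉ U → GammaCase p U)
    (hex : ∃ v ∈ Delta h, v ∉ U) :
    ∃ U' : Submodule (ZMod 2) h.V, GLCase h U' ∧ MinInv h U' ∧ Nat.card U' = Nat.card U ∧
      U ⊓ U' = ⊥ ∧ U ⊔ U' = ⊤ ∧ (∀ v, v ∈ Delta h ∧ v ∉ U ↔ v ∈ U' ∧ v ≠ 0) ∧
      ((∀ u ∈ U, u ∉ Delta h) ∨ ∀ u ∈ U, u ≠ 0 → u ∈ Delta h) := by
  classical
  obtain ⟨U', h1, h2, h3, h4, h5⟩ := c2 (cdata gl hΓ) hc hex
  have hts : ∀ v ∈ U', h.q v = 0 := by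
    intro v hv
    by_cases h0 : v = 0
    · rw [h0]; exact h.q_zero
    · obtain ⟨A, a, p, hp⟩ := ((h4 v).2 ⟨hv, h0⟩).1
      rw [← hp]
      exact q_va p
  obtain ⟨hgl, hcard⟩ := gl_compl gl (fun f hf v hv => h1 f hf v hv) hts h2 h3
  have hne : U' ≠ ⊥ := by
    rintro rfl
    have : Nat.card (⊥ : Submodule (ZMod 2) h.V) = 1 := Nat.card_unique
    rw [this] at hcard
    omega
  refine ⟨U', hgl, minInv_of_gl hgl hne, hcard, ?_, ?_, h4, h5⟩
  · rw [eq_bot_iff]
    rintro v ⟨hv, hv'⟩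
    exact h2 v hv hv'
  · rw [eq_top_iff]
    intro v _
    obtain ⟨u, hu, hu'⟩ := h3 v
    rw [Submodule.mem_sup]
    refine ⟨u, hu, v + u, hu', ?_⟩
    calc u + (v + u) = v + (u + u) := by abel
      _ = v := by rw [h.add_self, add_zero]

end Cfsg.Agent.LargeExtra.Red.CGlue
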