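import Cfsg.Agent.LargeExtra.Red.TIClose
import Cfsg.Agent.Held.MaxStab
import Cfsg.Agent.Held.AffineCaseZ
import Cfsg.Agent.Involutions.BaerSuzuki
import Cfsg.Agent.Lib.KleinGen

/-!
# S1761, (X1): the closing argument without Goldschmidt's theorem (helper988)

`A` is a self-centralising elementary abelian TI-subgroup, `z^G ∩ N(A) = A#` and `x ∈ N(A) ∖ A` is an involution
acting on `A` as a transvection.  Then `C_G(x) ≤ N(A)` by the Z*-theorem, `x` lies in a unique conjugate of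
`N(A)`, and the dihedral groups `⟨x, b⟩`, `b ∈ z^G`, show that `z^G ⊆ N(A)`.
-/

set_option autoImplicit false

namespace Cfsg.Agent.LargeExtra.Red.Close

open Subgroup Cfsg.Agent.LargeExtra.Red.TIClose

universe u

variable {G : Type u} [Group G] {A : Subgroup G} {z : G}

/-- the hypotheses: TI-subgroup, `z^G ∩ N(A) = A#` -/
structure CHyp (A : Subgroup G) (z : G) : Prop where
  ti : TI A
  card : 4 < Nat.card A
  conj : ∀ a ∈ A, a ≠ 1 → IsConj z a
  mem : ∀ t ∈ normalizer (A : Set G), IsConj z t → t ∈ A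

/-- `r` acts on `A` as a transvection with centre `v`. -/
def RankOne (A : Subgroup G) (r : G) : Prop :=
  ∃ v ∈ A, v ≠ 1 ∧ ∀ a ∈ A, a * (r * a * r⁻¹) = 1 ∨ a * (r * a * r⁻¹) = v

theorem CHyp.centralizer_le (h : CHyp A z) {a : G} (ha : a ∈ A) (ha1 : a ≠ 1) :
    centralizer ({a} : Set G) ≤ normalizer (A : Set G) := by
  intro g hg
  apply h.ti.ti a ha ha1 g
  have h1 : g * a * g⁻¹ = a := by
    rw [Subgroup.mem_centralizer_singleton_iff.1 hg]; group
  rw [h1]; exact ha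

theorem CHyp.mem_of_conj_mem (h : CHyp A z) {a : G} (ha : a ∈ A) (ha1 : a ≠ 1) {g : G}
    (hg : g * a * g⁻¹ ∈ normalizer (A : Set G)) : g ∈ normalizer (A : Set G) :=
  h.ti.ti a ha ha1 g (h.mem _ hg ((h.conj a ha ha1).trans (isConj_iff.2 ⟨g, rfl⟩)))

/-- Centralizers of "transvections" lie in `N(A)`. -/
theorem CHyp.centralizer_le_of_rankOne [Finite G] (h : CHyp A z)
    {r : G} (hr : r ∈ normalizer (A : Set G)) (hrr : r * r = 1) (hrA : r ∉ A)
    (h1 : RankOne A r) : centralizer ({r} : Set G) ≤ normalizer (A : Set G) := by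
  obtain ⟨v, hvA, hv1, hv⟩ := h1
  -- some element is moved
  obtain ⟨a₀, ha₀, hav⟩ : ∃ a₀ ∈ A, a₀ * (r * a₀ * r⁻¹) = v := by
    by_contra hcon
    push Not at hcon
    apply hrA
    apply h.ti.cent
    intro a ha
    have h2 := (hv a ha).resolve_right (hcon a ha)
    have h3 : r * a * r⁻¹ = a := by
      have h4 : r * a * r⁻¹ = a⁻¹ := (inv_eq_of_mul_eq_one_right h2).symm
      rw [h4, h.ti.inv ha]
    exact mul_inv_eq_iff_eq_mul.1 h3
  have hconjA : ∀ a ∈ A, r * a * r⁻¹ ∈ A := fun a ha => (Subgroup.mem_normalizer_iff.1 hr a).1 ha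
  have hri : r⁻¹ = r := inv_eq_of_mul_eq_one_right hrr
  have hrv : r * v * r⁻¹ = v := by
    have h2 : r * (r * a₀ * r⁻¹) * r⁻¹ = a₀ := by
      calc r * (r * a₀ * r⁻¹) * r⁻¹ = (r * r) * a₀ * (r⁻¹ * r⁻¹) := by group
        _ = a₀ := by rw [hri, hrr]; simp
    calc r * v * r⁻¹ = (r * a₀ * r⁻¹) * (r * (r * a₀ * r⁻¹) * r⁻¹) := by rw [← hav]; group
      _ = (r * a₀ * r⁻¹) * a₀ := by rw [h2]
      _ = v := by rw [← hav]; exact h.ti.comm (hconjA a₀ ha₀) ha₀
  -- second element centralized by `r`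
  obtain ⟨v', hv'A, hv'1, hv'v, hrv'⟩ : ∃ v' ∈ A, v' ≠ 1 ∧ v' ≠ v ∧ r * v' * r⁻¹ = v' := by
    have hex : ∃ a ∈ A, a ≠ 1 ∧ a ≠ v ∧ a ≠ a₀ ∧ a ≠ a₀ * v := by
      by_contra hcon
      push Not at hcon
      have h2 : (A : Set G) ⊆ {1, v, a₀, a₀ * v} := by
        intro a ha
        by_cases h3 : a = 1
        · simp [h3]
        · by_cases h4 : a = v
          · simp [h4]
          · by_cases h5 : a = a₀
            · simp [h5]
            · have := hcon a ha h3 h4 h5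
              simp [this]
      have h3 : (A : Set G).ncard ≤ ({1, v, a₀, a₀ * v} : Set G).ncard := Set.ncard_le_ncard h2
      have h4 : (A : Set G).ncard = Nat.card A := rfl
      have h5 : ({1, v, a₀, a₀ * v} : Set G).ncard ≤ 4 := by
        refine (Set.ncard_insert_le _ _).trans ?_
        refine (Nat.succ_le_succ ((Set.ncard_insert_le _ _).trans
          (Nat.succ_le_succ ((Set.ncard_insert_le _ _).trans ?_))))
        rw [Set.ncard_singleton]
      have := h.card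
      omega
    obtain ⟨a, ha, ha1, hav', haa, haav⟩ := hex
    rcases hv a ha with h2 | h2
    · refine ⟨a, ha, ha1, hav', ?_⟩
      have h4 : r * a * r⁻¹ = a⁻¹ := (inv_eq_of_mul_eq_one_right h2).symm
      rw [h4, h.ti.inv ha]
    · refine ⟨a₀ * a, A.mul_mem ha₀ ha, ?_, ?_, ?_⟩
      · intro h3
        apply haa
        have h4 : a = a₀⁻¹ := (inv_eq_of_mul_eq_one_right h3).symm
        rw [h4, h.ti.inv ha₀]
      · intro h3
        apply haav
        rw [← h3, ← mul_assoc, h.ti.sq a₀ ha₀, one_mul]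
      · have h3 : r * (a₀ * a) * r⁻¹ = (r * a₀ * r⁻¹) * (r * a * r⁻¹) := by group
        have h4 : r * a₀ * r⁻¹ = a₀ * v := by
          rw [← hav, ← mul_assoc, h.ti.sq a₀ ha₀, one_mul]
        have h5 : r * a * r⁻¹ = a * v := by
          rw [← h2, ← mul_assoc, h.ti.sq a ha, one_mul]
        rw [h3, h4, h5]
        have h6 : a * v = v * a := h.ti.comm ha hvA
        calc a₀ * v * (a * v) = a₀ * v * (v * a) := by rw [h6]
          _ = a₀ * (v * v) * a := by group
          _ = a₀ * a := by rw [h.ti.sq v hvA, mul_one]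
  -- the centralizer of `r`
  let X : Subgroup G := centralizer ({r} : Set G)
  have hmemX : ∀ g : G, g ∈ X ↔ g * r = r * g := fun g => Subgroup.mem_centralizer_singleton_iff
  have hvX : v ∈ X := by
    rw [hmemX]
    exact (mul_inv_eq_iff_eq_mul.1 hrv).symm
  have hv'X : v' ∈ X := by
    rw [hmemX]
    exact (mul_inv_eq_iff_eq_mul.1 hrv').symm
  have hiso : Cfsg.IsIsolatedInvolution (⟨v, hvX⟩ : X) := by
    refine ⟨?_, ?_⟩
    · rw [Subgroup.orderOf_mk]
      exact orderOf_eq_prime (by rw [pow_two]; exact h.ti.sq v hvA) hv1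
    · intro c hc
      have h2 : (v : G) * ((c : G) * v * (c : G)⁻¹) = ((c : G) * v * (c : G)⁻¹) * v :=
        congrArg Subtype.val hc
      have h3 : (c : G) * v * (c : G)⁻¹ ∈ normalizer (A : Set G) := by
        apply h.centralizer_le hvA hv1
        rw [Subgroup.mem_centralizer_singleton_iff]
        exact h2.symm
      have h4 : (c : G) ∈ normalizer (A : Set G) := h.mem_of_conj_mem hvA hv1 h3
      have h5 : (c : G) * v * (c : G)⁻¹ ∈ A := (Subgroup.mem_normalizer_iff.1 h4 v).1 hvA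
      have hcr : (c : G) * r = r * c := (hmemX c).1 c.2
      have h6 : (c : G) * a₀ * (c : G)⁻¹ ∈ A := (Subgroup.mem_normalizer_iff.1 h4 a₀).1 ha₀
      have h7 : (c : G) * v * (c : G)⁻¹ =
          ((c : G) * a₀ * (c : G)⁻¹) * (r * ((c : G) * a₀ * (c : G)⁻¹) * r⁻¹) := by
        calc (c : G) * v * (c : G)⁻¹ = (c : G) * a₀ * ((r * a₀) * r⁻¹) * (c : G)⁻¹ := by
              rw [← hav]; group
          _ = (c : G) * a₀ * (c : G)⁻¹ * (((c : G) * r) * a₀ * ((c : G) * r)⁻¹) := by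
              group
          _ = ((c : G) * a₀ * (c : G)⁻¹) * (r * ((c : G) * a₀ * (c : G)⁻¹) * r⁻¹) := by
              rw [hcr]; group
      have h8 : (c : G) * v * (c : G)⁻¹ ≠ 1 := by
        intro h9
        apply hv1
        have : v = (c : G)⁻¹ * ((c : G) * v * (c : G)⁻¹) * c := by group
        rw [this, h9]; group
      have h9 := hv _ h6
      rw [← h7] at h9
      exact Subtype.ext (h9.resolve_left h8)
  -- the odd core of `X` lies in `N(A)`
  let O : Subgroup G := (Cfsg.oddCore X).map X.subtype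
  have hOn : ∀ x ∈ X, ∀ o ∈ O, x * o * x⁻¹ ∈ O := by
    rintro x hx _ ⟨o, ho, rfl⟩
    exact ⟨⟨x, hx⟩ * o * ⟨x, hx⟩⁻¹, (Cfsg.Agent.Lib.Cores.pPrimeCore_normal 2).conj_mem o ho _, rfl⟩
  have hOodd : Odd (Nat.card O) := by
    have h2 : Nat.card O = Nat.card (Cfsg.oddCore X) :=
      (Nat.card_congr (Subgroup.equivMapOfInjective _ _ X.subtype_injective).toEquiv).symm
    rw [h2]
    exact Nat.coprime_two_right.mp (Cfsg.Agent.Lib.Cores.pPrimeCore_coprime 2)
  have hOle : O ≤ normalizer (A : Set G) := by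
    apply Cfsg.Agent.Lib.KleinGen.le_of_klein O (normalizer (A : Set G)) hOodd v v'
      (h.ti.sq v hvA) (h.ti.sq v' hv'A) (h.ti.comm hvA hv'A)
      (fun o ho => hOn v hvX o ho) (fun o ho => hOn v' hv'X o ho)
      (inf_le_right.trans (h.centralizer_le hvA hv1))
      (inf_le_right.trans (h.centralizer_le hv'A hv'1))
      (inf_le_right.trans (h.centralizer_le (A.mul_mem hvA hv'A) ?_))
    intro h2
    apply hv'v
    have h3 : v' = v⁻¹ := (inv_eq_of_mul_eq_one_right h2).symm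
    rw [h3, h.ti.inv hvA]
  intro x hx
  have h2 := Cfsg.Agent.Held.AffineCaseZ.zstar X ⟨v, hvX⟩ hiso ⟨x, hx⟩
  have h3 : v * x * v⁻¹ * x⁻¹ ∈ O := ⟨_, h2, rfl⟩
  have h4 := hOle h3
  have h5 : x * v * x⁻¹ ∈ normalizer (A : Set G) := by
    have h6 : x * v * x⁻¹ = (v * x * v⁻¹ * x⁻¹)⁻¹ * v := by
      group
    rw [h6]
    exact (normalizer (A : Set G)).mul_mem ((normalizer (A : Set G)).inv_mem h4)
      (Subgroup.le_normalizer hvA)
  exact h.mem_of_conj_mem hvA hv1 h5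

/-- an involution of `N(A)` fixes a nontrivial element of `A` -/
theorem CHyp.exists_fixed (h : CHyp A z) {y : G} (hy : y ∈ normalizer (A : Set G)) (hyy : y * y = 1) :
    ∃ a ∈ A, a ≠ 1 ∧ y * a * y⁻¹ = a := by
  obtain ⟨a, ha, ha1⟩ : ∃ a ∈ A, a ≠ 1 := by
    by_contra hcon
    push Not at hcon
    have h1 : A = ⊥ := (Subgroup.eq_bot_iff_forall _).2 hcon
    have h2 := h.card
    rw [h1, Subgroup.card_bot] at h2
    omega
  have hya : y * a * y⁻¹ ∈ A := (Subgroup.mem_normalizer_iff.1 hy a).1 ha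
  by_cases h1 : a * (y * a * y⁻¹) = 1
  · refine ⟨a, ha, ha1, ?_⟩
    have h2 : y * a * y⁻¹ = a⁻¹ := (inv_eq_of_mul_eq_one_right h1).symm
    rw [h2, h.ti.inv ha]
  · refine ⟨_, A.mul_mem ha hya, h1, ?_⟩
    have hyi : y⁻¹ = y := inv_eq_of_mul_eq_one_right hyy
    calc y * (a * (y * a * y⁻¹)) * y⁻¹ = (y * a * y⁻¹) * ((y * y) * a * (y⁻¹ * y⁻¹)) := by group
      _ = (y * a * y⁻¹) * a := by rw [hyi, hyy]; simp
      _ = a * (y * a * y⁻¹) := h.ti.comm hya ha

/-- a "transvection" lies in a unique conjugate of `N(A)` -/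
theorem CHyp.unique [Finite G] (h : CHyp A z) {x : G} (hx : x ∈ normalizer (A : Set G))
    (hxx : x * x = 1) (hxA : x ∉ A) (hr : RankOne A x) {n : G}
    (hn : n * x * n⁻¹ ∈ normalizer (A : Set G)) : n ∈ normalizer (A : Set G) := by
  obtain ⟨a, ha, ha1, hya⟩ := h.exists_fixed hn (by
    calc n * x * n⁻¹ * (n * x * n⁻¹) = n * (x * x) * n⁻¹ := by group
      _ = 1 := by rw [hxx]; group)
  have h1 : n⁻¹ * a * n ∈ centralizer ({x} : Set G) := by
    rw [Subgroup.mem_centralizer_singleton_iff]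
    have h2 : (n * x * n⁻¹) * a = a * (n * x * n⁻¹) := mul_inv_eq_iff_eq_mul.1 hya
    calc n⁻¹ * a * n * x = n⁻¹ * (a * (n * x * n⁻¹)) * n := by group
      _ = n⁻¹ * ((n * x * n⁻¹) * a) * n := by rw [h2]
      _ = x * (n⁻¹ * a * n) := by group
  have h3 := h.centralizer_le_of_rankOne hx hxx hxA hr h1
  have h4 : n⁻¹ * a * n⁻¹⁻¹ ∈ normalizer (A : Set G) := by rw [inv_inv]; exact h3
  have h5 := h.mem_of_conj_mem ha ha1 h4
  simpa using (normalizer (A : Set G)).inv_mem h5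

/-- a 2-group containing a "transvection" lies in `N(A)` -/
theorem CHyp.le_of_mem [Finite G] (h : CHyp A z) {x : G} (hx : x ∈ normalizer (A : Set G))
    (hxx : x * x = 1) (hxA : x ∉ A) (hr : RankOne A x) {P : Subgroup G} (hP : IsPGroup 2 P)
    (hxP : x ∈ P) : P ≤ normalizer (A : Set G) := by
  have f2 : Fact (Nat.Prime 2) := ⟨Nat.prime_two⟩
  by_contra hcon
  have hlt : P ⊓ normalizer (A : Set G) < P := by
    refine lt_of_le_of_ne inf_le_left ?_
    intro h1
    exact hcon (inf_eq_left.1 h1)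
  obtain ⟨n, hnP, hnD, hnn⟩ :=
    Cfsg.Agent.Involutions.BaerSuzuki.exists_mem_normalizer_of_lt hP hlt
  apply hnD
  refine ⟨hnP, h.unique hx hxx hxA hr ?_⟩
  exact ((Subgroup.mem_normalizer_iff.1 hnn x).1 ⟨hxP, hx⟩).2

/-- **closing**: all conjugates of `z` lie in `N(A)` -/
theorem CHyp.conj_mem [Finite G] (h : CHyp A z) {x : G} (hx : x ∈ normalizer (A : Set G))
    (hxx : x * x = 1) (hxA : x ∉ A) (hr : RankOne A x) {b : G} (hb : IsConj z b) :
    b ∈ normalizer (A : Set G) := by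
  by_contra hbN
  have hA : ∃ a ∈ A, a ≠ 1 := by
    obtain ⟨v, hv, hv1, -⟩ := hr
    exact ⟨v, hv, hv1⟩
  obtain ⟨a₀, ha₀, ha₀1⟩ := hA
  have hbb : b * b = 1 := by
    obtain ⟨g, hg⟩ := isConj_iff.1 ((h.conj a₀ ha₀ ha₀1).symm.trans hb)
    rw [← hg]
    calc g * a₀ * g⁻¹ * (g * a₀ * g⁻¹) = g * (a₀ * a₀) * g⁻¹ := by group
      _ = 1 := by rw [h.ti.sq a₀ ha₀]; group
  have hxi : x⁻¹ = x := inv_eq_of_mul_eq_one_right hxx
  have hbi : b⁻¹ = b := inv_eq_of_mul_eq_one_right hbb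
  have hbxu : b = x * (x * b) := by rw [← mul_assoc, hxx, one_mul]
  -- `u = x b`
  have hxu : x * (x * b) * x⁻¹ = (x * b)⁻¹ := by
    rw [mul_inv_rev, hbi, hxi, ← mul_assoc, hxx, one_mul]
  generalize hu : x * b = u at hxu hbxu
  have hxuk : ∀ k : ℤ, x * u ^ k * x⁻¹ = u ^ (-k) := by
    intro k
    rw [zpow_neg, ← inv_zpow, ← hxu]
    exact (conj_zpow (i := k)).symm
  have hxuk' : ∀ k : ℤ, x * u ^ k = u ^ (-k) * x := by
    intro k
    rw [← hxuk k]; group
  -- conjugates of `b`: `x u^(odd)`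
  have hodd : ∀ k : ℤ, IsConj z (x * u ^ (2 * k + 1)) := by
    intro k
    refine hb.trans (isConj_iff.2 ⟨u ^ (-k), ?_⟩)
    have h1 : b = x * u ^ (1 : ℤ) := by rw [zpow_one]; exact hbxu
    calc u ^ (-k) * b * (u ^ (-k))⁻¹ = (u ^ (-k) * x) * u ^ (1 : ℤ) * (u ^ (-k))⁻¹ := by
          rw [h1]; group
      _ = x * u ^ k * u ^ (1 : ℤ) * (u ^ (-k))⁻¹ := by rw [← hxuk' k]
      _ = x * u ^ (2 * k + 1) := by
        rw [← zpow_neg, mul_assoc, mul_assoc, ← zpow_add, ← zpow_add]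
        congr 2; ring
  have hu1 : 0 < orderOf u := orderOf_pos u
  obtain ⟨e, m, hm, hn⟩ := Nat.exists_eq_two_pow_mul_odd hu1.ne'
  obtain ⟨k, hk⟩ := hm
  -- `w = u ^ m`
  have hy : IsConj z (x * u ^ m) := by
    have h1 := hodd k
    have h2 : (2 * (k : ℤ) + 1) = ((m : ℕ) : ℤ) := by rw [hk]; push_cast; ring
    rw [h2, zpow_natCast] at h1
    exact h1
  have hw2 : (u ^ m) ^ 2 ^ e = 1 := by
    rw [← pow_mul, mul_comm m, ← hn, pow_orderOf_eq_one]
  have hxw : x * u ^ m * x⁻¹ = (u ^ m)⁻¹ := by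
    have h1 := hxuk m
    rw [zpow_neg, zpow_natCast] at h1
    exact h1
  have hwb : u ^ m * u = u * u ^ m := by rw [← pow_succ, ← pow_succ']
  generalize u ^ m = w at hy hw2 hxw hwb
  have hRp : IsPGroup 2 (zpowers w) := by
    intro y
    obtain ⟨j, hj⟩ := Subgroup.mem_zpowers_iff.1 y.2
    refine ⟨e, Subtype.ext ?_⟩
    show (y : G) ^ 2 ^ e = 1
    rw [← hj, ← zpow_natCast, ← zpow_mul, mul_comm, zpow_mul, zpow_natCast, hw2, one_zpow]
  have hxn : x ∈ normalizer ((zpowers w : Subgroup G) : Set G) := by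
    have key : ∀ g : G, g ∈ zpowers w → x * g * x⁻¹ ∈ zpowers w := by
      intro g hg
      obtain ⟨j, rfl⟩ := Subgroup.mem_zpowers_iff.1 hg
      rw [← conj_zpow, hxw]
      exact zpow_mem (inv_mem (mem_zpowers w)) j
    rw [Subgroup.mem_normalizer_iff]
    intro g
    refine ⟨key g, fun hg => ?_⟩
    have h1 := key _ hg
    have h2 : x * (x * g * x⁻¹) * x⁻¹ = g := by
      calc x * (x * g * x⁻¹) * x⁻¹ = (x * x) * g * (x⁻¹ * x⁻¹) := by group
        _ = g := by rw [hxi, hxx]; simp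
    rwa [h2] at h1
  have hPp := Cfsg.Agent.Held.MaxStab.isPGroup_adjoin (zpowers w) hRp x hxn (by
    rw [hxx]; exact one_mem _)
  have hPN := h.le_of_mem hx hxx hxA hr hPp (mem_sup_right (mem_zpowers x))
  have hwN : w ∈ normalizer (A : Set G) := hPN (mem_sup_left (mem_zpowers w))
  have hyA : x * w ∈ A := h.mem _ (mul_mem hx hwN) hy
  -- `w² ∈ {1, v}`
  have hwy : w = x * (x * w) := by rw [← mul_assoc, hxx, one_mul]
  have hwNx : w ∉ A := by
    intro hwA
    apply hxA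
    have h1 : x = (x * w) * w⁻¹ := by group
    rw [h1]
    exact A.mul_mem hyA (A.inv_mem hwA)
  have hact : ∀ a ∈ A, w * a * w⁻¹ = x * a * x⁻¹ := by
    intro a ha
    have h1 : (x * w) * a = a * (x * w) := h.ti.comm hyA ha
    generalize x * w = y at hwy h1
    rw [hwy]
    calc x * y * a * (x * y)⁻¹ = x * (y * a) * (y⁻¹ * x⁻¹) := by group
      _ = x * (a * y) * (y⁻¹ * x⁻¹) := by rw [h1]
      _ = x * a * x⁻¹ := by group
  obtain ⟨v, hvA, hv1, hv⟩ := hr
  have hr : RankOne A x := ⟨v, hvA, hv1, hv⟩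
  have hww : (x * w) * (x * (x * w) * x⁻¹) = w * w := by
    have h1 : x * (x * w) * x⁻¹ ∈ A := (Subgroup.mem_normalizer_iff.1 hx _).1 hyA
    rw [h.ti.comm hyA h1]
    generalize x * w = y at hwy
    rw [hwy, hxi]; group
  have hwu : u * w = w * u := hwb.symm
  rcases hv _ hyA with h1 | h1
  · -- `w² = 1`
    rw [hww] at h1
    have hwi : w⁻¹ = w := inv_eq_of_mul_eq_one_right h1
    have h2 : x * w = w * x := by
      rw [hwi] at hxw
      rwa [mul_inv_eq_iff_eq_mul] at hxw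
    have h3 : b * w = w * b := by
      rw [hbxu, mul_assoc, hwu, ← mul_assoc, h2, mul_assoc]
    apply hbN
    apply h.centralizer_le_of_rankOne hwN h1 hwNx
    · refine ⟨v, hvA, hv1, fun a ha => ?_⟩
      rw [hact a ha]
      exact hv a ha
    · rw [Subgroup.mem_centralizer_singleton_iff]
      exact h3
  · -- `w² = v`
    rw [hww] at h1
    apply hbN
    apply h.centralizer_le hvA hv1
    rw [Subgroup.mem_centralizer_singleton_iff, ← h1]
    have h2 : x * (w * w) = (w * w) * x := by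
      have h3 : x * (w * w) * x⁻¹ = (w * w)⁻¹ := by
        calc x * (w * w) * x⁻¹ = (x * w * x⁻¹) * (x * w * x⁻¹) := by group
          _ = (w * w)⁻¹ := by rw [hxw, mul_inv_rev]
      have h4 : (w * w)⁻¹ = w * w := by rw [h1]; exact h.ti.inv hvA
      rw [h4] at h3
      rwa [mul_inv_eq_iff_eq_mul] at h3
    have h3 : u * (w * w) = (w * w) * u := by
      rw [← mul_assoc, hwu, mul_assoc, hwu, mul_assoc]
    calc b * (w * w) = x * (u * (w * w)) := by rw [hbxu, mul_assoc]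
      _ = (x * (w * w)) * u := by rw [h3]; simp only [mul_assoc]
      _ = (w * w) * b := by rw [h2, hbxu]; simp only [mul_assoc]

/-- such a group has the proper normal subgroup `⟨z^G⟩ ≤ N(A)` -/
theorem CHyp.false_of_simple [Finite G] [IsSimpleGroup G] (h : CHyp A z) {x : G}
    (hx : x ∈ normalizer (A : Set G)) (hxx : x * x = 1) (hxA : x ∉ A) (hr : RankOne A x) : False := by
  have hA : ∃ a ∈ A, a ≠ 1 := by
    obtain ⟨v, hv, hv1, -⟩ := hr
    exact ⟨v, hv, hv1⟩
  obtain ⟨a₀, ha₀, ha₀1⟩ := hA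
  have hz : IsConj z a₀ := h.conj a₀ ha₀ ha₀1
  have hle : Subgroup.normalClosure ({a₀} : Set G) ≤ A := by
    rw [Subgroup.normalClosure]
    rw [Subgroup.closure_le]
    intro b hb
    obtain ⟨c, hc, hbc⟩ := Group.mem_conjugatesOfSet_iff.1 hb
    rw [Set.mem_singleton_iff] at hc
    subst hc
    exact h.mem b (h.conj_mem hx hxx hxA hr (hz.trans hbc)) (hz.trans hbc)
  rcases (Subgroup.normalClosure_normal (s := ({a₀} : Set G))).eq_bot_or_eq_top with h1 | h1
  · apply ha₀1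
    have h2 : a₀ ∈ Subgroup.normalClosure ({a₀} : Set G) := Subgroup.subset_normalClosure rfl
    rw [h1, Subgroup.mem_bot] at h2
    exact h2
  · apply hxA
    apply hle
    rw [h1]
    exact Subgroup.mem_top x

end Cfsg.Agent.LargeExtra.Red.Close
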