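import Cfsg.Agent.LargeExtra.Red.Data

/-!
# S1761, case II: conjugates of `C_G(z)`-invariant subgroups of `Q` (helper988)

* `CInv Q z B`: `z ∈ B ≤ Q`, `B` is `C_G(z)`-invariant; `BPair Q z A a B Ba`: a pair with `Ba = B^g`.
* (L0): `Q ⊓ A` and `RX = C_Q(a) C_A(z)` are normalised by `Q` and `A`; the cycle `z → a → az → z` is
  induced by an element of `Q ⊔ A`.
* (N1) `disj`, `fix_of_perp`.
-/

set_option autoImplicit false

namespace Cfsg.Agent.LargeExtra.Red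

open Cfsg.Agent.Co2Type.Quad Cfsg.Agent.LargeExtra.Base Cfsg.Agent.LargeExtra.TwoCentral
open Cfsg.Agent.LargeExtra.Siegel Cfsg.Agent.LargeExtra.SiegelOrbit Cfsg.Agent.LargeExtra.Local

variable {G : Type*} [Group G] {Q A : Subgroup G} {z a : G}

/-- `B` is `C_G(z)`-invariant, `z ∈ B ≤ Q`. -/
structure CInv (Q : Subgroup G) (z : G) (B : Subgroup G) : Prop where
  le : B ≤ Q
  z_mem : z ∈ B
  inv : ∀ c, c * z = z * c → ∀ x ∈ B, c * x * c⁻¹ ∈ B

theorem mem_map_conj {B : Subgroup G} {g x : G} :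
    x ∈ B.map (MulAut.conj g).toMonoidHom ↔ g⁻¹ * x * g ∈ B := by
  constructor
  · rintro ⟨y, hy, rfl⟩
    have : g⁻¹ * (g * y * g⁻¹) * g = y := by group
    show g⁻¹ * (g * y * g⁻¹) * g ∈ B
    rw [this]; exact hy
  · intro hx
    refine ⟨_, hx, ?_⟩
    show g * (g⁻¹ * x * g) * g⁻¹ = x
    group

theorem inv_conj {g u v : G} (h : g * u * g⁻¹ = v) : g⁻¹ * v * g⁻¹⁻¹ = u := by
  rw [← h]; group

theorem conj_mem_map {B : Subgroup G} (g : G) {x : G} (hx : x ∈ B) :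
    g * x * g⁻¹ ∈ B.map (MulAut.conj g).toMonoidHom := ⟨x, hx, rfl⟩

theorem CInv.conj {B : Subgroup G} (h : CInv Q z B) (g : G) :
    CInv (Q.map (MulAut.conj g).toMonoidHom) (g * z * g⁻¹) (B.map (MulAut.conj g).toMonoidHom) where
  le := Subgroup.map_mono h.le
  z_mem := ⟨z, h.z_mem, rfl⟩
  inv := by
    intro c hc x hx
    rw [mem_map_conj] at hx ⊢
    have h1 : (g⁻¹ * c * g) * z = z * (g⁻¹ * c * g) := by
      calc (g⁻¹ * c * g) * z = g⁻¹ * (c * (g * z * g⁻¹)) * g := by group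
        _ = g⁻¹ * ((g * z * g⁻¹) * c) * g := by rw [hc]
        _ = _ := by group
    have h2 := h.inv _ h1 _ hx
    have e : g⁻¹ * c * g * (g⁻¹ * x * g) * (g⁻¹ * c * g)⁻¹ = g⁻¹ * (c * x * c⁻¹) * g := by group
    rwa [e] at h2

theorem CInv.map_eq {B : Subgroup G} (h : CInv Q z B) {g g' : G}
    (hg : g * z * g⁻¹ = g' * z * g'⁻¹) :
    B.map (MulAut.conj g).toMonoidHom = B.map (MulAut.conj g').toMonoidHom := by
  have key : ∀ g g' : G, g * z * g⁻¹ = g' * z * g'⁻¹ →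
      B.map (MulAut.conj g).toMonoidHom ≤ B.map (MulAut.conj g').toMonoidHom := by
    intro g g' hg x hx
    rw [mem_map_conj] at hx ⊢
    have h1 : (g'⁻¹ * g) * z = z * (g'⁻¹ * g) := by
      have h2 : g'⁻¹ * g * z * g⁻¹ * g' = z := by
        calc g'⁻¹ * g * z * g⁻¹ * g' = g'⁻¹ * (g * z * g⁻¹) * g' := by group
          _ = z := by rw [hg]; group
      calc g'⁻¹ * g * z = (g'⁻¹ * g * z * g⁻¹ * g') * (g'⁻¹ * g) := by group
        _ = _ := by rw [h2]
    have h2 := h.inv _ h1 _ hx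
    have e : g'⁻¹ * g * (g⁻¹ * x * g) * (g'⁻¹ * g)⁻¹ = g'⁻¹ * x * g' := by group
    rwa [e] at h2
  exact le_antisymm (key g g' hg) (key g' g hg.symm)

/-- A pair together with conjugate invariant subgroups. -/
structure BPair (Q : Subgroup G) (z : G) (A : Subgroup G) (a : G) (B Ba : Subgroup G) : Prop where
  pair : Pair Q z A a
  cB : CInv Q z B
  cBa : CInv A a Ba
  swap : ∃ g, g * z * g⁻¹ = a ∧ g * a * g⁻¹ = z ∧ Ba = B.map (MulAut.conj g).toMonoidHom ∧
    B = Ba.map (MulAut.conj g).toMonoidHom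

theorem BPair.symm {B Ba : Subgroup G} (p : BPair Q z A a B Ba) : BPair A a Q z Ba B where
  pair := p.pair.symm
  cB := p.cBa
  cBa := p.cB
  swap := by
    obtain ⟨g, h1, h2, h3, h4⟩ := p.swap
    exact ⟨g, h2, h1, h4, h3⟩

/-- for every conjugator, `Ba = B^g` -/
theorem BPair.eq_map {B Ba : Subgroup G} (p : BPair Q z A a B Ba) {g : G} (hg : g * z * g⁻¹ = a) :
    Ba = B.map (MulAut.conj g).toMonoidHom := by
  obtain ⟨k, h1, -, h3, -⟩ := p.swap
  rw [h3]
  exact p.cB.map_eq (h1.trans hg.symm)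

theorem exists_bpair (p : Pair Q z A a) {B : Subgroup G} (hB : CInv Q z B) :
    ∃ Ba, BPair Q z A a B Ba := by
  obtain ⟨g, h1, h2, h3, h4⟩ := p.isConj
  have hc : CInv A a (B.map (MulAut.conj g).toMonoidHom) := by
    have := hB.conj g
    rwa [← h3, h1] at this
  refine ⟨_, p, hB, hc, g, h1, h2, rfl, ?_⟩
  ext x
  rw [mem_map_conj, mem_map_conj]
  have hgg : (g * g) * z = z * (g * g) := by
    have : g * g * z * (g * g)⁻¹ = z := by
      calc g * g * z * (g * g)⁻¹ = g * (g * z * g⁻¹) * g⁻¹ := by group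
        _ = z := by rw [h1, h2]
    rw [mul_inv_eq_iff_eq_mul] at this
    exact this
  have hgg' : (g * g)⁻¹ * z = z * (g * g)⁻¹ := by
    have h5 : Commute (g * g) z := hgg
    exact h5.inv_left.eq
  constructor
  · intro hx
    have h5 := hB.inv _ hgg' _ hx
    have e : (g * g)⁻¹ * x * (g * g)⁻¹⁻¹ = g⁻¹ * (g⁻¹ * x * g) * g := by
      rw [inv_inv, mul_inv_rev]; simp only [mul_assoc]
    rwa [e] at h5
  · intro hx
    have h5 := hB.inv _ hgg _ hx
    have e : (g * g) * (g⁻¹ * (g⁻¹ * x * g) * g) * (g * g)⁻¹ = x := by group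
    rwa [e] at h5

/-! ### (L0) -/

section L0

variable (p : Pair Q z A a)
include p

theorem exists_y : ∃ y ∈ Q, y * a * y⁻¹ = a * z := by
  obtain ⟨y, hy, h1⟩ := exists_not_comm p.lz p.a_mem p.la.z_ne p.ne
  refine ⟨y, hy, ?_⟩
  rw [mul_inv_eq_iff_eq_mul, h1, mul_assoc, mul_assoc, (p.lz.comm_z y hy)]

theorem conj_a {y : G} (hy : y ∈ Q) : y * a * y⁻¹ = a ∨ y * a * y⁻¹ = a * z := by
  rcases p.lz.comm y hy a p.a_mem with h | h
  · left; rw [h]; group
  · right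
    rw [h, mul_assoc _ z, ← (p.lz.commz hy).inv_left.eq]
    group

theorem conj_z {y : G} (hy : y ∈ Q) : y * z * y⁻¹ = z := by
  rw [p.lz.comm_z y hy]; group

/-- an element of `Q ⊔ A` inducing `z → a → az → z` -/
theorem exists_cycle : ∃ g ∈ Q ⊔ A, g * z * g⁻¹ = a ∧ g * a * g⁻¹ = a * z ∧ g * (a * z) * g⁻¹ = z := by
  obtain ⟨y, hy, hya⟩ := exists_y p
  obtain ⟨x, hx, hxz⟩ := exists_y p.symm
  have hyz := conj_z p hy
  have hxa := conj_z p.symm hx
  have hza : z * a = a * z := p.comm_za.symm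
  have zz := p.lz.z_sq
  have aa := p.la.z_sq
  have hg1 : (x * y) * a * (x * y)⁻¹ = z := by
    calc (x * y) * a * (x * y)⁻¹ = x * (y * a * y⁻¹) * x⁻¹ := by group
      _ = (x * a * x⁻¹) * (x * z * x⁻¹) := by rw [hya]; group
      _ = a * (a * z) := by rw [hxa, hxz, hza]
      _ = z := by rw [← mul_assoc, aa, one_mul]
  have hg2 : (x * y) * z * (x * y)⁻¹ = a * z := by
    calc (x * y) * z * (x * y)⁻¹ = x * (y * z * y⁻¹) * x⁻¹ := by group
      _ = z * a := by rw [hyz, hxz]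
      _ = a * z := hza
  have hg3 : (x * y) * (a * z) * (x * y)⁻¹ = a := by
    calc (x * y) * (a * z) * (x * y)⁻¹ = ((x * y) * a * (x * y)⁻¹) * ((x * y) * z * (x * y)⁻¹) := by
          group
      _ = z * (a * z) := by rw [hg1, hg2]
      _ = a * (z * z) := by rw [← mul_assoc, hza, mul_assoc]
      _ = a := by rw [zz, mul_one]
  refine ⟨(x * y)⁻¹, inv_mem (mul_mem (Subgroup.mem_sup_right hx) (Subgroup.mem_sup_left hy)),
    inv_conj hg1, inv_conj hg3, inv_conj hg2⟩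

/-- a subgroup `S` between `⟨z, a⟩` and `Q ⊓ A` is normalised by `Q ⊔ A` -/
theorem norm_of_le {S : Subgroup G} (hS : S ≤ Q ⊓ A) (hz : z ∈ S) (ha : a ∈ S) :
    ∀ g ∈ Q ⊔ A, ∀ d ∈ S, g * d * g⁻¹ ∈ S := by
  have h1 : Q ⊔ A ≤ Subgroup.normalizer (S : Set G) := by
    have key : ∀ {Q A : Subgroup G} {z a : G} (_ : Pair Q z A a), S ≤ Q ⊓ A → z ∈ S →
        Q ≤ Subgroup.normalizer (S : Set G) := by
      intro Q A z a p hS hz y hy
      have h2 : ∀ y ∈ Q, ∀ d ∈ S, y * d * y⁻¹ ∈ S := by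
        intro y hy d hd
        rcases p.lz.comm y hy d (Subgroup.mem_inf.1 (hS hd)).1 with h | h
        · have : y * d * y⁻¹ = d := by rw [h]; group
          rw [this]; exact hd
        · have : y * d * y⁻¹ = d * z := by
            rw [h, mul_assoc _ z, ← (p.lz.commz hy).inv_left.eq]; group
          rw [this]; exact mul_mem hd hz
      rw [Subgroup.mem_normalizer_iff]
      intro d
      refine ⟨h2 y hy d, fun hd => ?_⟩
      have h3 := h2 y⁻¹ (inv_mem hy) _ hd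
      have e : y⁻¹ * (y * d * y⁻¹) * y⁻¹⁻¹ = d := by group
      rwa [e] at h3
    exact sup_le (key p hS hz) (key p.symm (by rwa [inf_comm]) ha)
  intro g hg d hd
  exact (Subgroup.mem_normalizer_iff.1 (h1 hg) d).1 hd

/-- `Q ⊓ A = A ⊓ Q^k` where `k : a → az`, i.e. `Q ∩ Q_a = Q_a ∩ Q_az` in the form: the cycle preserves
`Q ⊓ A`. -/
theorem norm_D {g : G} (hg : g ∈ Q ⊔ A) {d : G} (hd : d ∈ Q ⊓ A) : g * d * g⁻¹ ∈ Q ⊓ A :=
  norm_of_le p le_rfl (Subgroup.mem_inf.2 ⟨p.lz.z_mem, p.z_mem⟩)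
    (Subgroup.mem_inf.2 ⟨p.a_mem, p.la.z_mem⟩) g hg d hd

end L0

/-- `RX = C_Q(a) C_A(z)` -/
def RX (Q : Subgroup G) (z : G) (A : Subgroup G) (a : G) : Subgroup G :=
  (Q ⊓ Subgroup.centralizer {a}) ⊔ (A ⊓ Subgroup.centralizer {z})

theorem mem_R {x : G} : x ∈ Q ⊓ Subgroup.centralizer {a} ↔ x ∈ Q ∧ x * a = a * x := by
  rw [Subgroup.mem_inf, Subgroup.mem_centralizer_singleton_iff]

section L0

variable (p : Pair Q z A a)
include p

/-- if `h` commutes with `z` and `a` then `[h, y] ∈ C_Q(a)` for `y ∈ Q` -/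
theorem comm_mem_R {h y : G} (hz : h * z = z * h) (ha : h * a = a * h) (hy : y ∈ Q) :
    h * y * h⁻¹ * y⁻¹ ∈ Q ⊓ Subgroup.centralizer {a} := by
  rw [mem_R]
  refine ⟨mul_mem (p.lz.conj_mem h hz y hy) (inv_mem hy), ?_⟩
  have hz' : h⁻¹ * z = z * h⁻¹ := (show Commute h z from hz).inv_left.eq
  have ha' : h⁻¹ * a = a * h⁻¹ := (show Commute h a from ha).inv_left.eq
  rcases conj_a p (inv_mem hy) with h1 | h1
  · have h2 : y⁻¹ * a = a * y⁻¹ := by
      rw [mul_inv_eq_iff_eq_mul] at h1; exact h1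
    have h3 : y * a = a * y := by
      have : Commute y⁻¹ a := h2
      simpa using this.inv_left.eq
    calc h * y * h⁻¹ * y⁻¹ * a = h * y * h⁻¹ * (y⁻¹ * a) := by group
      _ = h * y * (h⁻¹ * a) * y⁻¹ := by rw [h2]; group
      _ = h * (y * a) * h⁻¹ * y⁻¹ := by rw [ha']; group
      _ = (h * a) * y * h⁻¹ * y⁻¹ := by rw [h3]; group
      _ = a * (h * y * h⁻¹ * y⁻¹) := by rw [ha]; group
  · have h2 : y⁻¹ * a = (a * z) * y⁻¹ := by
      rw [mul_inv_eq_iff_eq_mul] at h1; exact h1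
    have h3 : y * (a * z) = a * y := by
      have : a = y * ((a * z) * y⁻¹) := by rw [← h2]; group
      calc y * (a * z) = (y * ((a * z) * y⁻¹)) * y := by group
        _ = a * y := by rw [← this]
    calc h * y * h⁻¹ * y⁻¹ * a = h * y * h⁻¹ * (y⁻¹ * a) := by group
      _ = h * y * ((h⁻¹ * a) * z) * y⁻¹ := by rw [h2]; group
      _ = h * y * (a * (h⁻¹ * z)) * y⁻¹ := by rw [ha']; group
      _ = h * (y * (a * z)) * h⁻¹ * y⁻¹ := by rw [hz']; group
      _ = (h * a) * y * h⁻¹ * y⁻¹ := by rw [h3]; group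
      _ = a * (h * y * h⁻¹ * y⁻¹) := by rw [ha]; group

omit p in
theorem RX_symm : RX A a Q z = RX Q z A a := sup_comm _ _

theorem norm_RX {g : G} (hg : g ∈ Q ⊔ A) : ∀ x ∈ RX Q z A a, g * x * g⁻¹ ∈ RX Q z A a := by
  have key : ∀ {Q A : Subgroup G} {z a : G} (_ : Pair Q z A a), ∀ y ∈ Q, ∀ x ∈ RX Q z A a,
      y * x * y⁻¹ ∈ RX Q z A a := by
    intro Q A z a p y hy x hx
    have h1 : (RX Q z A a).map (MulAut.conj y).toMonoidHom ≤ RX Q z A a := by
      rw [RX, Subgroup.map_sup]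
      apply sup_le
      · rintro _ ⟨r, hr, rfl⟩
        apply Subgroup.mem_sup_left
        obtain ⟨hr1, hr2⟩ := mem_R.1 hr
        show y * r * y⁻¹ ∈ _
        rcases p.lz.comm y hy r hr1 with h | h
        · have : y * r * y⁻¹ = r := by rw [h]; group
          rw [this]; exact hr
        · have : y * r * y⁻¹ = r * z := by
            rw [h, mul_assoc _ z, ← (p.lz.commz hy).inv_left.eq]; group
          rw [this]
          exact mul_mem hr (mem_R.2 ⟨p.lz.z_mem, p.comm_za.symm⟩)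
      · rintro _ ⟨r, hr, rfl⟩
        obtain ⟨hr1, hr2⟩ := mem_R.1 hr
        show y * r * y⁻¹ ∈ _
        have h2 := comm_mem_R p hr2 (p.la.comm_z r hr1) hy
        have e : y * r * y⁻¹ = (r * y * r⁻¹ * y⁻¹)⁻¹ * r := by group
        rw [e]
        exact mul_mem (Subgroup.mem_sup_left (inv_mem h2)) (Subgroup.mem_sup_right hr)
    exact h1 ⟨x, hx, rfl⟩
  have hn : Q ⊔ A ≤ Subgroup.normalizer ((RX Q z A a : Subgroup G) : Set G) := by
    apply sup_le
    · intro y hy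
      rw [Subgroup.mem_normalizer_iff]
      intro x
      refine ⟨key p y hy x, fun hx => ?_⟩
      have h3 := key p y⁻¹ (inv_mem hy) _ hx
      have e : y⁻¹ * (y * x * y⁻¹) * y⁻¹⁻¹ = x := by group
      rwa [e] at h3
    · intro y hy
      rw [Subgroup.mem_normalizer_iff]
      intro x
      rw [← RX_symm]
      refine ⟨key p.symm y hy x, fun hx => ?_⟩
      have h3 := key p.symm y⁻¹ (inv_mem hy) _ hx
      have e : y⁻¹ * (y * x * y⁻¹) * y⁻¹⁻¹ = x := by group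
      rwa [e] at h3
  intro x hx
  exact (Subgroup.mem_normalizer_iff.1 (hn hg) x).1 hx

/-- if `h` commutes with `z` and `a`, then `[h, g] ∈ RX` for `g ∈ Q ⊔ A` -/
theorem comm_mem_RX {h : G} (hz : h * z = z * h) (ha : h * a = a * h) {g : G} (hg : g ∈ Q ⊔ A) :
    h * g * h⁻¹ * g⁻¹ ∈ RX Q z A a := by
  rw [Subgroup.sup_eq_closure] at hg
  induction hg using Subgroup.closure_induction with
  | mem x hx =>
    rcases hx with hx | hx
    · exact Subgroup.mem_sup_left (comm_mem_R p hz ha hx)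
    · exact Subgroup.mem_sup_right (comm_mem_R p.symm ha hz hx)
  | one =>
    have : h * 1 * h⁻¹ * 1⁻¹ = 1 := by group
    rw [this]; exact one_mem _
  | mul x y hx hy hx' hy' =>
    have e : h * (x * y) * h⁻¹ * (x * y)⁻¹ =
        (h * x * h⁻¹ * x⁻¹) * (x * (h * y * h⁻¹ * y⁻¹) * x⁻¹) := by group
    rw [e]
    rw [← Subgroup.sup_eq_closure] at hx
    exact mul_mem hx' (norm_RX p hx _ hy')
  | inv x hx hx' =>
    have e : h * x⁻¹ * h⁻¹ * x⁻¹⁻¹ = x⁻¹ * (h * x * h⁻¹ * x⁻¹)⁻¹ * x⁻¹⁻¹ := by group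
    rw [e]
    rw [← Subgroup.sup_eq_closure] at hx
    exact norm_RX p (inv_mem hx) _ (inv_mem hx')

end L0

/-! ### (N1) -/

section N1

variable [Finite G] (p : Pair Q z A a)
include p

omit [Finite G] in
theorem exists_perp_one {v : p.lz.V} (h0 : v ≠ 0) (h1 : v ≠ p.va) :
    ∃ w, p.lz.b w p.va = 0 ∧ p.lz.b w v = 1 := by
  by_contra hcon
  push Not at hcon
  rcases eq_of_perp p.lz (a := p.va) (d := v) (fun w hw => by
    by_contra hne
    apply hcon w (by rw [p.lz.b_comm]; exact hw)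
    rw [p.lz.b_comm]; exact zmod_two_ne hne) with h2 | h2
  · exact h0 h2
  · exact h1 h2

/-- (N1) an invariant subspace `W` not containing `ã` meets `D̃` trivially -/
theorem disj {W : Submodule (ZMod 2) p.lz.V} (hW : Inv p.lz W) (hn : p.va ∉ W) {v : p.lz.V}
    (hv : v ∈ W) (hvD : v ∈ p.D) : v = 0 := by
  by_contra h0
  have h1 : v ≠ p.va := by
    rintro rfl
    exact hn hv
  obtain ⟨w, hwa, hwv⟩ := exists_perp_one p h0 h1
  obtain ⟨f, hf, hfD⟩ := p.exists_X (p.lz.b w) hwa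
  have h2 := hfD v hvD
  rw [hwv, one_smul] at h2
  have h3 : f v ∈ W := hW f (p.X_le_H hf) v hv
  rw [h2] at h3
  have h4 := W.add_mem hv h3
  rw [← add_assoc, p.lz.add_self, zero_add] at h4
  exact hn h4

/-- (N1) `[W ∩ ã^⊥, X] = 0` -/
theorem fix_of_perp {W : Submodule (ZMod 2) p.lz.V} (hW : Inv p.lz W) (hn : p.va ∉ W)
    {f : p.lz.V ≃ₗ[ZMod 2] p.lz.V} (hf : f ∈ p.X) {v : p.lz.V} (hv : v ∈ W)
    (hva : p.lz.b p.va v = 0) : f v = v := by
  have h1 := disj p hW hn (W.add_mem (hW f (p.X_le_H hf) v hv) hv) (p.X_perp hf hva)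
  calc f v = f v + v + v := by rw [add_assoc, p.lz.add_self, add_zero]
    _ = v := by rw [h1, zero_add]

end N1

theorem inv_sub (h : Large Q z) {B : Subgroup G} (hB : CInv Q z B) : Inv h (sub h B) := by
  rintro _ ⟨c, rfl⟩ _ ⟨x, hx, rfl⟩
  rw [h.act_pr]
  refine ⟨_, ?_, rfl⟩
  rw [h.conjQ_coe]
  exact hB.inv _ (Subgroup.mem_centralizer_singleton_iff.1 c.2) _ hx

end Cfsg.Agent.LargeExtra.Red
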