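import Cfsg.Agent.LargeExtra.SiegelOrbit
import Cfsg.Agent.LargeExtra.TOne

/-!
# S1761, case II: the abstract data of the Siegel family (helper988)

`W` is an `H`-invariant subspace of `V = Q / ⟨z⟩` orthogonal to the singular vector `a ∉ W`; `Wa ≤ a^⊥` is the
preimage of the subspace `W(a) ≅ W` of `a^⊥ / a` such that the Siegel elements `sg a w`, `w ∈ Wa`, lie in `H`.
-/

set_option autoImplicit false

namespace Cfsg.Agent.LargeExtra.Red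

open Cfsg.Agent.Co2Type.Quad Cfsg.Agent.LargeExtra.Base Cfsg.Agent.LargeExtra.TwoCentral
open Cfsg.Agent.LargeExtra.Siegel Cfsg.Agent.LargeExtra.SiegelOrbit

variable {G : Type*} [Group G] {Q : Subgroup G} {z : G}

/-- `W` is invariant under `H`, the image of `C_G(z)` in `GL(V)`. -/
def Inv (h : Large Q z) (W : Submodule (ZMod 2) h.V) : Prop :=
  ∀ f ∈ h.act.range, ∀ v ∈ W, f v ∈ W

/-- `H` fixes no nonzero vector of `V`. -/
def NoFix (h : Large Q z) : Prop :=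
  ∀ v : h.V, (∀ f ∈ h.act.range, f v = v) → v = 0

theorem noFix [Finite G] (hG : ∀ H : Subgroup G, H.index ≠ 2) (h : Large Q z)
    (h32 : 8 < Nat.card Q) : NoFix h := fun _ hv =>
  Cfsg.Agent.LargeExtra.TOne.eq_zero_of_fixed hG h h32 fun c => hv _ ⟨c, rfl⟩

/-- The Siegel family attached to `W ≤ a^⊥`, `a ∉ W`. -/
structure SData (h : Large Q z) (W : Submodule (ZMod 2) h.V) (a : h.V)
    (Wa : Submodule (ZMod 2) h.V) : Prop where
  inv : Inv h W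
  q_a : h.q a = 0
  a_ne : a ≠ 0
  /-- `W ≤ a^⊥` -/
  perp : ∀ v ∈ W, h.b a v = 0
  notMem : a ∉ W
  a_mem : a ∈ Wa
  perp' : ∀ w ∈ Wa, h.b a w = 0
  /-- the Siegel elements `sg a w`, `w ∈ Wa`, belong to `H` -/
  sg_mem : ∀ w (hw : w ∈ Wa), sg h a w q_a (perp' w hw) ∈ h.act.range
  /-- `W ⟂ Wa` -/
  orth : ∀ w ∈ Wa, ∀ v ∈ W, h.b w v = 0
  /-- `Wa` is invariant under the stabiliser of `a` -/
  stab : ∀ f ∈ h.act.range, f a = a → ∀ w ∈ Wa, f w ∈ Wa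
  /-- `H_0 ∩ H_a`, `H_0 = C_H(W)`, centralises `Wa / ⟨a⟩` -/
  fix : ∀ f ∈ h.act.range, f a = a → (∀ v ∈ W, f v = v) → ∀ w ∈ Wa, f w = w ∨ f w = w + a
  /-- `Wa / ⟨a⟩` is isometric to `W` -/
  iso : ∃ ι : W →ₗ[ZMod 2] h.V, (∀ v, h.q (ι v) = h.q v) ∧
    (∀ w, w ∈ Wa ↔ ∃ v, w = ι v ∨ w = ι v + a) ∧ (∀ v, ι v = 0 ∨ ι v = a → v = 0)

end Cfsg.Agent.LargeExtra.Red
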