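import Cfsg.Agent.LargeExtra.Red.BThm

/-!
# S1761 [R4]: (N5) (helper539)

In the situation `BThm.Data`, if `W c / c` is nondegenerate and either `16 ≤ |W c|` or `q = 1` on
`W c ∖ {0, c}`, then `O_2(H) ≠ 1`.
-/

set_option autoImplicit false

namespace Cfsg.Agent.LargeExtra.Red.NFive

open Cfsg.Agent.LargeExtra.Red.SiegelE Cfsg.Agent.LargeExtra.Red.BThm

variable {V : Type*} [AddCommGroup V] [Module (ZMod 2) V]
  {S : QSp V} {H H0 : Subgroup (V ≃ₗ[ZMod 2] V)} {O : Set V} {W : V → Submodule (ZMod 2) V}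

/-- `W c / c` is nondegenerate. -/
def NonDeg (S : QSp V) (O : Set V) (W : V → Submodule (ZMod 2) V) : Prop :=
  ∀ c ∈ O, ∀ v ∈ W c, v ≠ 0 → v ≠ c → ∃ y ∈ W c, S.b v y = 1

theorem bl (S : QSp V) (x y z : V) : S.b (x + y) z = S.b x z + S.b y z := by
  rw [map_add, LinearMap.add_apply]

theorem br (S : QSp V) (x y z : V) : S.b x (y + z) = S.b x y + S.b x z := by
  rw [map_add]

/-- The values of `E(c, w)`. -/
theorem ev (S : QSp V) {t : V ≃ₗ[ZMod 2] V} {c w : V} (ht : S.IsE t c w) {y : V} {e f g : ZMod 2}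
    (h1 : S.b y w = e) (h2 : S.b y c = f) (h3 : S.q w = g) : t y = y + e • c + f • (w + g • c) := by
  rw [ht y, h1, h2, h3]

/-- Some pair in `O` is not orthogonal. -/
theorem exists_pair [Finite V] (D : Data S H H0 O W) (hB : PropB S O W)
    (hO2 : ∀ N : Subgroup H, N.Normal → IsPGroup 2 N → N = ⊥)
    {c0 : V} (hc0 : c0 ∈ O) {v0 : V} (hv0 : v0 ∈ W c0) (n0 : v0 ≠ 0) (n1 : v0 ≠ c0) :
    ∃ c ∈ O, ∃ c' ∈ O, S.b c c' = 1 := by
  by_contra hcon
  push Not at hcon
  refine D.false_of_pairs hO2 hc0 hv0 n0 n1 ?_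
  intro c hc v hv c' hc' v' hv' t ht t' ht' hE hE'
  have hb : S.b c c' = 0 := by
    rcases zcases (S.b c c') with h | h
    · exact h
    · exact absurd h (hcon c hc c' hc')
  have h1 := hE.sq (D.W_perp c hc v hv)
  have h2 := hE'.sq (D.W_perp c' hc' v' hv')
  have h3 := D.comm_perp hB hc hc' hb hv hv' ht hE hE'
  have : (t * t') * (t * t') = 1 := by
    calc (t * t') * (t * t') = t * (t' * t) * t' := by group
      _ = (t * t) * (t' * t') := by rw [← h3]; group
      _ = 1 := by rw [h1, h2, one_mul]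
  rw [show 4 = 2 * 2 from rfl, pow_mul, pow_two (t * t'), this, one_pow]

/-- A singular vector in `W c ∩ c'^⊥`. -/
theorem exists_singular [Finite V] {Wc : Submodule (ZMod 2) V} {c' : V}
    (hcard : 16 ≤ Nat.card Wc) : ∃ w ∈ Wc, w ≠ 0 ∧ S.b c' w = 0 ∧ S.q w = 0 := by
  classical
  set W0 : Submodule (ZMod 2) V := Wc ⊓ LinearMap.ker (S.b c') with hW0
  have h1 := card_le_two_mul Wc (S.b c') (W0 : Set V) (fun v hv h0 => ⟨hv, h0⟩)
  have h2 : (W0 : Set V).ncard = Nat.card W0 := rfl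
  have h3 : 8 ≤ Nat.card W0 := by omega
  have hu : ∃ u ∈ W0, u ≠ 0 := by
    by_contra hcon
    push Not at hcon
    have h4 : (W0 : Set V) ⊆ {0} := fun v hv => hcon v hv
    have h5 := Set.ncard_le_ncard h4 (Set.toFinite _)
    rw [Set.ncard_singleton] at h5
    omega
  obtain ⟨u, hu, hu0⟩ := hu
  set W1 : Submodule (ZMod 2) V := W0 ⊓ LinearMap.ker (S.b u) with hW1
  have h4 := card_le_two_mul W0 (S.b u) (W1 : Set V) (fun v hv h0 => ⟨hv, h0⟩)
  have h5 : (W1 : Set V).ncard = Nat.card W1 := rfl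
  have hv : ∃ v ∈ W1, v ≠ 0 ∧ v ≠ u := by
    by_contra hcon
    push Not at hcon
    have h6 : (W1 : Set V) ⊆ {0, u} := fun v hv => by
      by_cases h : v = 0
      · simp [h]
      · simp [hcon v hv h]
    have h7 := Set.ncard_le_ncard h6 (Set.toFinite _)
    have h8 := ncard_two_le 0 u
    omega
  obtain ⟨v, hv, hv0, hvu⟩ := hv
  have huW : u ∈ Wc := hu.1
  have huc : S.b c' u = 0 := hu.2
  have hvW : v ∈ Wc := hv.1.1
  have hvc : S.b c' v = 0 := hv.1.2
  have huv : S.b u v = 0 := hv.2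
  rcases zcases (S.q u) with e1 | e1
  · exact ⟨u, huW, hu0, huc, e1⟩
  rcases zcases (S.q v) with e2 | e2
  · exact ⟨v, hvW, hv0, hvc, e2⟩
  refine ⟨u + v, Wc.add_mem huW hvW, fun h => hvu (eq_of_add_eq_zero h).symm, ?_, ?_⟩
  · rw [br, huc, hvc, add_zero]
  · rw [S.q_add, e1, e2, huv]; decide

/-- (N5), case `16 ≤ |W c|`, for a nonorthogonal pair. -/
theorem big_pair [Finite V] (D : Data S H H0 O W) (hcard : ∀ c ∈ O, 16 ≤ Nat.card (W c)) (nd : NonDeg S O W)
    {c c' : V} (hc : c ∈ O) (hc' : c' ∈ O) (hb : S.b c c' = 1) : False := by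
  have hB := D.B_big hcard
  have hb' : S.b c' c = 1 := by rw [S.b_comm]; exact hb
  obtain ⟨w, hw, hw0, hcw, hqw⟩ := exists_singular (S := S) (c' := c') (hcard c hc)
  obtain ⟨w', hw', hw0', hcw', hqw'⟩ := exists_singular (S := S) (c' := c) (hcard c' hc')
  have hwc : w ≠ c := by
    rintro rfl
    rw [hb'] at hcw
    exact absurd hcw (by decide)
  obtain ⟨y, hy, hwy⟩ := nd c hc w hw hw0 hwc
  obtain ⟨t, ht, hE⟩ := D.E_mem c hc w hw
  obtain ⟨t', ht', hE'⟩ := D.E_mem c' hc' w' hw'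
  have hwcp := D.W_perp c hc w hw
  have hwcp' := D.W_perp c' hc' w' hw'
  -- `w ⊥ W c'`
  have h1 : t c' = c' + w := by
    rw [ev S hE hcw hb' hqw]; simp
  have h1' : t' c = c + w' := by
    rw [ev S hE' hcw' hb hqw']; simp
  have h2 : c' + w ∈ O := by rw [← h1]; exact D.O_inv t (D.le ht) c' hc'
  have h2' : c + w' ∈ O := by rw [← h1']; exact D.O_inv t' (D.le ht') c hc
  have h3 : ∀ x ∈ W c', S.b w x = 0 := by
    intro x hx
    have h := hB c' hc' (c' + w) h2 (fun h => hw0 (by simpa using h.symm)) (by rw [br, S.b_self, hcw, add_zero]) x hx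
    rw [bl, S.b_comm c' x, D.W_perp c' hc' x hx, zero_add] at h
    exact h
  have h3' : ∀ x ∈ W c, S.b w' x = 0 := by
    intro x hx
    have h := hB c hc (c + w') h2' (fun h => hw0' (by simpa using h.symm)) (by rw [br, S.b_self, hcw', add_zero]) x hx
    rw [bl, S.b_comm c x, D.W_perp c hc x hx, zero_add] at h
    exact h
  have hww' : S.b w w' = 0 := h3 w' hw'
  have hw'w : S.b w' w = 0 := by rw [S.b_comm]; exact hww'
  have hwc' : S.b w c' = 0 := by rw [S.b_comm]; exact hcw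
  have hw'c : S.b w' c = 0 := by rw [S.b_comm]; exact hcw'
  have hcw1 : S.b c w = 0 := by rw [S.b_comm]; exact hwcp
  -- `g = t' t t'⁻¹ = E(c + w', w)`
  have h4 : t' w = w := by
    rw [ev S hE' hww' hwc' hqw']; simp
  have h5 : S.IsE (t' * t * t'⁻¹) (c + w') w := by
    have := hE.conj (D.isom t' (D.le ht'))
    rwa [h1', h4] at this
  have hg : t' * t * t'⁻¹ ∈ H0 := mul_mem (mul_mem ht' ht) (inv_mem ht')
  have hk : t * (t' * t * t'⁻¹) ∈ H0 := mul_mem ht hg
  have hkc : (t * (t' * t * t'⁻¹)) c = c := by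
    show t ((t' * t * t'⁻¹) c) = c
    have e1 : S.b c (c + w') = 0 := by rw [br, S.b_self, hcw', add_zero]
    rw [ev S h5 hcw1 e1 hqw]
    simp only [zero_smul, add_zero]
    rw [ev S hE hcw1 (S.b_self c) hqw]
    simp
  have hyw : S.b y w = 1 := by rw [S.b_comm]; exact hwy
  have hyc := D.W_perp c hc y hy
  have hyw' : S.b y w' = 0 := by rw [S.b_comm]; exact h3' y hy
  have hky : (t * (t' * t * t'⁻¹)) y = y + w' := by
    show t ((t' * t * t'⁻¹) y) = y + w'
    have e1 : S.b y (c + w') = 0 := by rw [br, hyc, hyw', add_zero]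
    rw [ev S h5 hyw e1 hqw]
    simp only [zero_smul, add_zero, one_smul]
    have e2 : S.b (y + (c + w')) w = 1 := by rw [bl, bl, hyw, hcw1, hw'w, add_zero, add_zero]
    have e3 : S.b (y + (c + w')) c = 0 := by rw [bl, bl, hyc, S.b_self, hw'c, add_zero, add_zero]
    rw [ev S hE e2 e3 hqw]
    simp only [zero_smul, add_zero, one_smul]
    calc y + (c + w') + c = y + w' + (c + c) := by abel
      _ = y + w' := by rw [vadd_self, add_zero]
  rcases D.cent _ hk c hc hkc y hy with h | h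
  · rw [hky] at h
    exact hw0' (by simpa using h)
  · rw [hky] at h
    have : w' = c := add_left_cancel h
    rw [this, hb] at hwcp'
    exact absurd hwcp' (by decide)

/-- **(N5)**, case `16 ≤ |W c|`. -/
theorem n5_big [Finite V] (D : Data S H H0 O W) (hO : O.Nonempty) (hcard : ∀ c ∈ O, 16 ≤ Nat.card (W c))
    (nd : NonDeg S O W) (hO2 : ∀ N : Subgroup H, N.Normal → IsPGroup 2 N → N = ⊥) : False := by
  obtain ⟨c0, hc0⟩ := hO
  obtain ⟨v0, hv0, n0, n1⟩ : ∃ v0 ∈ W c0, v0 ≠ 0 ∧ v0 ≠ c0 := by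
    by_contra hcon
    push Not at hcon
    have h2 : (W c0 : Set V) ⊆ {0, c0} := fun v' hv' => by
      by_cases h : v' = 0
      · simp [h]
      · simp [hcon v' hv' h]
    have h3 := Set.ncard_le_ncard h2 (Set.toFinite _)
    have h4 := ncard_two_le 0 c0
    have h5 : (W c0 : Set V).ncard = Nat.card (W c0) := rfl
    have h6 := hcard c0 hc0
    omega
  obtain ⟨c, hc, c', hc', hb⟩ := exists_pair D (D.B_big hcard) hO2 hc0 hv0 n0 n1
  exact big_pair D hcard nd hc hc' hb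

/-! ### the anisotropic case -/

/-- `q = 1` on `W c ∖ {0, c}`. -/
def Aniso (S : QSp V) (O : Set V) (W : V → Submodule (ZMod 2) V) : Prop :=
  ∀ c ∈ O, ∀ v ∈ W c, v ≠ 0 → v ≠ c → S.q v = 1

theorem B_aniso' (D : Data S H H0 O W) (han : Aniso S O W) (nd : NonDeg S O W)
    (hex : ∀ c ∈ O, ∃ v ∈ W c, v ≠ 0 ∧ v ≠ c) : PropB S O W := by
  refine D.B_aniso han ?_
  intro c hc
  obtain ⟨v, hv, v0, vc⟩ := hex c hc
  obtain ⟨y, hy, hvy⟩ := nd c hc v hv v0 vc
  have h01 : (0 : ZMod 2) ≠ 1 := by decide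
  have hvv := S.b_self v
  have hvc := D.W_perp c hc v hv
  refine ⟨v, hv, y, hy, v0, vc, ?_, ?_, ?_, ?_⟩
  · rintro rfl; rw [map_zero] at hvy; exact h01 hvy
  · rintro rfl; rw [hvc] at hvy; exact h01 hvy
  · intro h
    have h1 : S.b v (v + y) = 1 := by rw [br, hvv, hvy, zero_add]
    rw [h, map_zero] at h1
    exact h01 h1
  · intro h
    have h1 : S.b v (v + y) = 1 := by rw [br, hvv, hvy, zero_add]
    rw [h, hvc] at h1
    exact h01 h1

/-- A pair of vectors in `W c ∩ c'^⊥` that are not orthogonal. -/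
theorem exists_hyp (D : Data S H H0 O W) (nd : NonDeg S O W)
    (hex : ∀ c ∈ O, ∃ v ∈ W c, v ≠ 0 ∧ v ≠ c) {c c' : V} (hc : c ∈ O) (hb' : S.b c' c = 1) :
    ∃ v ∈ W c, ∃ y ∈ W c, S.b c' v = 0 ∧ S.b c' y = 0 ∧ S.b v y = 1 := by
  obtain ⟨v, hv, v0, vc⟩ := hex c hc
  obtain ⟨y, hy, hvy⟩ := nd c hc v hv v0 vc
  have key : ∀ x ∈ W c, ∃ x' ∈ W c, S.b c' x' = 0 ∧ (∀ z ∈ W c, S.b x' z = S.b x z) := by
    intro x hx
    rcases zcases (S.b c' x) with h | h
    · exact ⟨x, hx, h, fun _ _ => rfl⟩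
    · refine ⟨x + c, (W c).add_mem hx (D.W_mem c hc), ?_, fun z hz => ?_⟩
      · rw [br, h, hb']; decide
      · rw [bl, S.b_comm c z, D.W_perp c hc z hz, add_zero]
  obtain ⟨v', hv', h1, h2⟩ := key v hv
  obtain ⟨y', hy', h3, h4⟩ := key y hy
  refine ⟨v', hv', y', hy', h1, h3, ?_⟩
  rw [h2 y' hy', S.b_comm, h4 v hv, S.b_comm]
  exact hvy

/-- The partner of `w`. -/
theorem exists_partner {Wc : Submodule (ZMod 2) V} {c w : V}
    (h : ∃ v ∈ Wc, ∃ y ∈ Wc, S.b c v = 0 ∧ S.b c y = 0 ∧ S.b v y = 1) :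
    ∃ w' ∈ Wc, w' ≠ 0 ∧ S.b c w' = 0 ∧ S.b w w' = 0 := by
  obtain ⟨v, hv, y, hy, h1, h2, h3⟩ := h
  have h01 : (0 : ZMod 2) ≠ 1 := by decide
  rcases zcases (S.b w v) with e1 | e1
  · refine ⟨v, hv, ?_, h1, e1⟩
    rintro rfl
    rw [map_zero, LinearMap.zero_apply] at h3
    exact h01 h3
  rcases zcases (S.b w y) with e2 | e2
  · refine ⟨y, hy, ?_, h2, e2⟩
    rintro rfl
    rw [map_zero] at h3
    exact h01 h3
  refine ⟨v + y, Wc.add_mem hv hy, ?_, ?_, ?_⟩
  · intro h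
    rw [eq_of_add_eq_zero h, S.b_self] at h3
    exact h01 h3
  · rw [br, h1, h2, add_zero]
  · rw [br, e1, e2]; decide

/-- The package of facts on a pair `w ∈ W c ∩ c'^⊥`, `w' ∈ W c' ∩ c^⊥`. -/
structure Pair (S : QSp V) (W : V → Submodule (ZMod 2) V) (c c' w w' : V) : Prop where
  hw : w ∈ W c
  hw' : w' ∈ W c'
  w0 : w ≠ 0
  w0' : w' ≠ 0
  cw : S.b c' w = 0
  cw' : S.b c w' = 0
  ww : S.b w w' = 0

/-- Fact A. -/
theorem factA (D : Data S H H0 O W) (han : Aniso S O W) (hB : PropB S O W) {c c' w w' : V} (hc : c ∈ O)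
    (hc' : c' ∈ O) (hb : S.b c c' = 1) (P : Pair S W c c' w w') :
    (∀ x ∈ W c, S.b c' x = 0 → S.b x w = S.b x w') := by
  intro x hx hcx
  by_cases hww : w = w'
  · rw [hww]
  have h01 : (0 : ZMod 2) ≠ 1 := by decide
  have hb' : S.b c' c = 1 := by rw [S.b_comm]; exact hb
  have hwc : w ≠ c := by
    rintro rfl
    exact h01 (P.cw.symm.trans hb')
  have hwc' : w' ≠ c' := by
    rintro rfl
    exact h01 (P.cw'.symm.trans hb)
  have hq := han c hc w P.hw P.w0 hwc
  have hq' := han c' hc' w' P.hw' P.w0' hwc'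
  obtain ⟨t, ht, hE⟩ := D.E_mem c hc w P.hw
  obtain ⟨t', ht', hE'⟩ := D.E_mem c' hc' w' P.hw'
  have h1 : t c' = c' + (w + c) := by
    rw [ev S hE P.cw hb' hq]; simp
  have h1' : t' c = c + (w' + c') := by
    rw [ev S hE' P.cw' hb hq']; simp
  have h2 : c' + (w + c) ∈ O := by rw [← h1]; exact D.O_inv t (D.le ht) c' hc'
  have h2' : c + (w' + c') ∈ O := by rw [← h1']; exact D.O_inv t' (D.le ht') c hc
  have hxc' : S.b x c' = 0 := by rw [S.b_comm]; exact hcx
  have hxc := D.W_perp c hc x hx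
  have hcx' : S.b c x = 0 := by rw [S.b_comm]; exact hxc
  have h3 : t' x = x + S.b x w' • c' := by
    rw [ev S hE' rfl hxc' hq']; simp
  have h4 : x + S.b x w' • c' ∈ W (c + (w' + c')) := by
    rw [← h3, ← h1']
    exact D.W_inv t' (D.le ht') c hc x hx
  have hne : c + (w' + c') ≠ c' + (w + c) := by
    intro h
    apply hww
    have h5 : (c + c') + w = (c + c') + w' := by
      calc (c + c') + w = c' + (w + c) := by abel
        _ = c + (w' + c') := h.symm
        _ = (c + c') + w' := by abel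
    exact add_left_cancel h5
  have hwcp := D.W_perp c hc w P.hw
  have hwcp' := D.W_perp c' hc' w' P.hw'
  have hw'w : S.b w' w = 0 := by rw [S.b_comm]; exact P.ww
  have hcw1 : S.b c w = 0 := by rw [S.b_comm]; exact hwcp
  have hc'w1 : S.b w' c = 0 := by rw [S.b_comm]; exact P.cw'
  have hperp : S.b (c + (w' + c')) (c' + (w + c)) = 0 := by
    rw [bl, bl, br, br, br, br, br, br, hb, hcw1, S.b_self c, hwcp', hw'w, hc'w1, S.b_self c', P.cw, hb']
    decide
  have h5 := hB _ h2' _ h2 hne hperp _ h4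
  rw [br, map_smul, bl, bl, bl, bl, hcx, hcx', S.b_comm w x, S.b_self c', S.b_comm w c', P.cw, hb, smul_eq_mul] at h5
  rcases zcases (S.b x w) with e1 | e1 <;> rcases zcases (S.b x w') with e2 | e2 <;> rw [e1, e2] at h5 ⊢ <;>
    first
    | rfl
    | (exfalso; revert h5; decide)

theorem Pair.symm {c c' w w' : V} (P : Pair S W c c' w w') : Pair S W c' c w' w :=
  ⟨P.hw', P.hw, P.w0', P.w0, P.cw', P.cw, by rw [S.b_comm]; exact P.ww⟩

/-- The element `n = E(c,w) E(c',w') E(c,w)`. -/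
theorem exists_n (D : Data S H H0 O W) (han : Aniso S O W) (hB : PropB S O W) {c c' w w' : V} (hc : c ∈ O)
    (hc' : c' ∈ O) (hb : S.b c c' = 1) (P : Pair S W c c' w w') :
    ∃ n ∈ H0, n c = c' + (w + w') ∧ n c' = c + (w + w') ∧
      (∀ x ∈ W c, S.b c' x = 0 → n x = x + S.b x w • w') ∧
      (∀ x ∈ W c', S.b c x = 0 → n x = x + S.b x w • w') := by
  have h01 : (0 : ZMod 2) ≠ 1 := by decide
  have hb' : S.b c' c = 1 := by rw [S.b_comm]; exact hb
  have hwc : w ≠ c := by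
    rintro rfl
    exact h01 (P.cw.symm.trans hb')
  have hwc' : w' ≠ c' := by
    rintro rfl
    exact h01 (P.cw'.symm.trans hb)
  have hq := han c hc w P.hw P.w0 hwc
  have hq' := han c' hc' w' P.hw' P.w0' hwc'
  obtain ⟨t, ht, hE⟩ := D.E_mem c hc w P.hw
  obtain ⟨t', ht', hE'⟩ := D.E_mem c' hc' w' P.hw'
  have hwcp := D.W_perp c hc w P.hw
  have hwcp' := D.W_perp c' hc' w' P.hw'
  have hw'w : S.b w' w = 0 := by rw [S.b_comm]; exact P.ww
  have hcw1 : S.b c w = 0 := by rw [S.b_comm]; exact hwcp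
  have hw'c : S.b w' c = 0 := by rw [S.b_comm]; exact P.cw'
  have hwc1 : S.b w c' = 0 := by rw [S.b_comm]; exact P.cw
  have hc'w' : S.b c' w' = 0 := by rw [S.b_comm]; exact hwcp'
  -- the action of `t`
  have tc : t c = c := by
    rw [ev S hE hcw1 (S.b_self c) hq]; simp
  have tc' : t c' = c' + (w + c) := by
    rw [ev S hE P.cw hb' hq]; simp
  have tw : t w = w := by
    rw [ev S hE (S.b_self w) hwcp hq]; simp
  have tw' : t w' = w' := by
    rw [ev S hE hw'w hw'c hq]; simp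
  have t'c : t' c = c + (w' + c') := by
    rw [ev S hE' P.cw' hb hq']; simp
  have t'c' : t' c' = c' := by
    rw [ev S hE' hc'w' (S.b_self c') hq']; simp
  have t'w : t' w = w := by
    rw [ev S hE' P.ww hwc1 hq']; simp
  have t'w' : t' w' = w' := by
    rw [ev S hE' (S.b_self w') hwcp' hq']; simp
  have hcc := vadd_self c
  have hcc' := vadd_self c'
  have hww := vadd_self w
  refine ⟨t * t' * t, mul_mem (mul_mem ht ht') ht, ?_, ?_, ?_, ?_⟩
  · show t (t' (t c)) = _
    rw [tc, t'c, map_add, map_add, tc, tw', tc']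
    calc c + (w' + (c' + (w + c))) = c' + (w + w') + (c + c) := by abel
      _ = c' + (w + w') := by rw [hcc, add_zero]
  · show t (t' (t c')) = _
    rw [tc', map_add t' c' (w + c), map_add t' w c, t'c', t'w, t'c, map_add, map_add, map_add, map_add, tw, tc, tw',
      tc']
    calc c' + (w + c) + (w + (c + (w' + (c' + (w + c)))))
        = c + (w + w') + (c' + c') + (w + w) + (c + c) := by abel
      _ = c + (w + w') := by rw [hcc', hww, hcc, add_zero, add_zero, add_zero]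
  · intro x hx hcx
    have hA := factA D han hB hc hc' hb P x hx hcx
    have hxc' : S.b x c' = 0 := by rw [S.b_comm]; exact hcx
    have hxc := D.W_perp c hc x hx
    have tx : t x = x + S.b x w • c := by
      rw [ev S hE rfl hxc hq]; simp
    have t'x : t' x = x + S.b x w • c' := by
      rw [ev S hE' rfl hxc' hq', ← hA]; simp
    show t (t' (t x)) = _
    rw [tx, map_add, t'x, map_smul, t'c, map_add, map_add, map_smul, map_smul, map_add, map_add, tx, tc', tc, tw']
    rcases zcases (S.b x w) with e | e <;> rw [e]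
    · simp
    · simp only [one_smul]
      calc x + c + (c' + (w + c)) + (c + (w' + (c' + (w + c))))
          = x + w' + (c + c) + (c + c) + (c' + c') + (w + w) := by abel
        _ = x + w' := by rw [hcc, hcc', hww, add_zero, add_zero, add_zero, add_zero]
  · intro x hx hcx
    have hA := factA D han hB hc' hc hb' P.symm x hx hcx
    have hxc : S.b x c = 0 := by rw [S.b_comm]; exact hcx
    have hxc' := D.W_perp c' hc' x hx
    have tx : t x = x + S.b x w • c := by
      rw [ev S hE rfl hxc hq]; simp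
    have t'x : t' x = x + S.b x w • c' := by
      rw [ev S hE' rfl hxc' hq', hA]; simp
    show t (t' (t x)) = _
    rw [tx, map_add, t'x, map_smul, t'c, map_add, map_add, map_smul, map_smul, map_add, map_add, tx, tc', tc, tw']
    rcases zcases (S.b x w) with e | e <;> rw [e]
    · simp
    · simp only [one_smul]
      calc x + c + (c' + (w + c)) + (c + (w' + (c' + (w + c))))
          = x + w' + (c + c) + (c + c) + (c' + c') + (w + w) := by abel
        _ = x + w' := by rw [hcc, hcc', hww, add_zero, add_zero, add_zero, add_zero]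

/-- (N5), the anisotropic case, for a nonorthogonal pair. -/
theorem aniso_pair (D : Data S H H0 O W) (han : Aniso S O W) (nd : NonDeg S O W)
    (hex : ∀ c ∈ O, ∃ v ∈ W c, v ≠ 0 ∧ v ≠ c)
    {c c' : V} (hc : c ∈ O) (hc' : c' ∈ O) (hb : S.b c c' = 1) : False := by
  have h01 : (0 : ZMod 2) ≠ 1 := by decide
  have hB := B_aniso' D han nd hex
  have hb' : S.b c' c = 1 := by rw [S.b_comm]; exact hb
  obtain ⟨w1, hw1, w2, hw2, hcw1, hcw2, hb12⟩ := exists_hyp D nd hex hc hb'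
  have hh := exists_hyp D nd hex hc' hb
  obtain ⟨w1', hw1', n1', hcw1', hb11⟩ := exists_partner (S := S) (w := w1) hh
  obtain ⟨w2', hw2', n2', hcw2', hb22⟩ := exists_partner (S := S) (w := w2) hh
  have n1 : w1 ≠ 0 := by
    rintro rfl
    rw [map_zero, LinearMap.zero_apply] at hb12
    exact h01 hb12
  have n2 : w2 ≠ 0 := by
    rintro rfl
    rw [map_zero] at hb12
    exact h01 hb12
  have P1 : Pair S W c c' w1 w1' := ⟨hw1, hw1', n1, n1', hcw1, hcw1', hb11⟩
  have P2 : Pair S W c c' w2 w2' := ⟨hw2, hw2', n2, n2', hcw2, hcw2', hb22⟩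
  obtain ⟨g1, hg1, g1c, g1c', g1x, g1x'⟩ := exists_n D han hB hc hc' hb P1
  obtain ⟨g2, hg2, g2c, g2c', g2x, g2x'⟩ := exists_n D han hB hc hc' hb P2
  have A1 := factA D han hB hc hc' hb P1
  have A2 := factA D han hB hc hc' hb P2
  have b21 : S.b w2 w1 = 1 := by rw [S.b_comm]; exact hb12
  have b21' : S.b w2' w1 = 1 := by rw [S.b_comm, ← A2 w1 hw1 hcw1]; exact hb12
  have b12' : S.b w1' w2 = 1 := by rw [S.b_comm, ← A1 w2 hw2 hcw2]; exact b21
  have b11' : S.b w1' w1 = 0 := by rw [S.b_comm]; exact hb11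
  have b22' : S.b w2' w2 = 0 := by rw [S.b_comm]; exact hb22
  -- the values of `g1`, `g2`
  have g1w1 : g1 w1 = w1 := by rw [g1x w1 hw1 hcw1, S.b_self]; simp
  have g1w2 : g1 w2 = w2 + w1' := by rw [g1x w2 hw2 hcw2, b21]; simp
  have g1w1' : g1 w1' = w1' := by rw [g1x' w1' hw1' hcw1', b11']; simp
  have g1w2' : g1 w2' = w2' + w1' := by rw [g1x' w2' hw2' hcw2', b21']; simp
  have g2w1 : g2 w1 = w1 + w2' := by rw [g2x w1 hw1 hcw1, hb12]; simp
  have g2w2 : g2 w2 = w2 := by rw [g2x w2 hw2 hcw2, S.b_self]; simp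
  have g2w1' : g2 w1' = w1' + w2' := by rw [g2x' w1' hw1' hcw1', b12']; simp
  have g2w2' : g2 w2' = w2' := by rw [g2x' w2' hw2' hcw2', b22']; simp
  have z1 := vadd_self w1
  have z2 := vadd_self w2
  have z1' := vadd_self w1'
  have z2' := vadd_self w2'
  -- `m = g1 g2`
  have mc : (g1 * g2) c = c + (w1 + w1') + (w2 + w2') := by
    show g1 (g2 c) = _
    rw [g2c, map_add, map_add, g1c', g1w2, g1w2']
    calc c + (w1 + w1') + (w2 + w1' + (w2' + w1')) = c + (w1 + w1') + (w2 + w2') + (w1' + w1') := by abel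
      _ = c + (w1 + w1') + (w2 + w2') := by rw [z1', add_zero]
  have mw1 : (g1 * g2) w1 = w1 + w2' + w1' := by
    show g1 (g2 w1) = _
    rw [g2w1, map_add, g1w1, g1w2', add_assoc]
  have mw2 : (g1 * g2) w2 = w2 + w1' := by
    show g1 (g2 w2) = _
    rw [g2w2, g1w2]
  have mw1' : (g1 * g2) w1' = w2' := by
    show g1 (g2 w1') = _
    rw [g2w1', map_add, g1w1', g1w2']
    calc w1' + (w2' + w1') = w2' + (w1' + w1') := by abel
      _ = w2' := by rw [z1', add_zero]
  have mw2' : (g1 * g2) w2' = w2' + w1' := by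
    show g1 (g2 w2') = _
    rw [g2w2', g1w2']
  have mmc : ((g1 * g2) * (g1 * g2)) c = c := by
    show (g1 * g2) ((g1 * g2) c) = c
    rw [mc, map_add, map_add, map_add, map_add, mc, mw1, mw1', mw2, mw2']
    calc c + (w1 + w1') + (w2 + w2') + (w1 + w2' + w1' + w2') + (w2 + w1' + (w2' + w1'))
        = c + (w1 + w1) + (w2 + w2) + (w1' + w1') + (w1' + w1') + (w2' + w2') + (w2' + w2') := by abel
      _ = c := by rw [z1, z2, z1', z2']; simp
  have mmw : ((g1 * g2) * (g1 * g2)) w1 = w1 + w2' := by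
    show (g1 * g2) ((g1 * g2) w1) = _
    rw [mw1, map_add, map_add, mw1, mw1', mw2']
    calc w1 + w2' + w1' + (w2' + w1') + w2' = w1 + w2' + (w1' + w1') + (w2' + w2') := by abel
      _ = w1 + w2' := by rw [z1', z2', add_zero, add_zero]
  have hm : (g1 * g2) * (g1 * g2) ∈ H0 := mul_mem (mul_mem hg1 hg2) (mul_mem hg1 hg2)
  rcases D.cent _ hm c hc mmc w1 hw1 with h | h
  · rw [mmw] at h
    exact n2' (by simpa using h)
  · rw [mmw] at h
    have h1 : w2' = c := add_left_cancel h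
    have h2 := D.W_perp c' hc' w2' hw2'
    rw [h1, hb] at h2
    exact h01 h2.symm

/-- **(N5)**, the anisotropic case. -/
theorem n5_aniso [Finite V] (D : Data S H H0 O W) (hO : O.Nonempty) (han : Aniso S O W) (nd : NonDeg S O W)
    (hex : ∀ c ∈ O, ∃ v ∈ W c, v ≠ 0 ∧ v ≠ c)
    (hO2 : ∀ N : Subgroup H, N.Normal → IsPGroup 2 N → N = ⊥) : False := by
  obtain ⟨c0, hc0⟩ := hO
  obtain ⟨v0, hv0, n0, n1⟩ := hex c0 hc0
  obtain ⟨c, hc, c', hc', hb⟩ := exists_pair D (B_aniso' D han nd hex) hO2 hc0 hv0 n0 n1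
  exact aniso_pair D han nd hex hc hc' hb

end Cfsg.Agent.LargeExtra.Red.NFive
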