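import Cfsg.Agent.LargeExtra.Red.Data
import Cfsg.Agent.LargeExtra.Red.NFive

/-!
# S1761, case II: (N5), (N6) for `SData` (helper539)

* `false_ts`: `W` totally singular, `4 ≤ |W|` is impossible;
* `false_nd`: `W ≠ 0` nondegenerate is impossible.
-/

set_option autoImplicit false

namespace Cfsg.Agent.LargeExtra.Red.FalseSD

open Cfsg.Agent.Co2Type.Quad Cfsg.Agent.LargeExtra.Base Cfsg.Agent.LargeExtra.TwoCentral
open Cfsg.Agent.LargeExtra.Siegel Cfsg.Agent.LargeExtra.SiegelOrbit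
open Cfsg.Agent.LargeExtra.Red.SiegelE Cfsg.Agent.LargeExtra.Red.BThm Cfsg.Agent.LargeExtra.Red.NFive

variable {G : Type*} [Group G] {Q : Subgroup G} {z : G}

/-- The quadratic space `V` of `Large`. -/
noncomputable def qsp (h : Large Q z) : QSp h.V where
  q := h.q
  b := h.b
  q_add := h.q_add'
  b_self := h.b_self
  nondeg := fun _ hv => h.b_nondeg hv

/-- `C_H(W)`. -/
noncomputable def cH (h : Large Q z) (W : Submodule (ZMod 2) h.V) : Subgroup (h.V ≃ₗ[ZMod 2] h.V) where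
  carrier := {f | f ∈ h.act.range ∧ ∀ v ∈ W, f v = v}
  one_mem' := ⟨one_mem _, fun _ _ => rfl⟩
  mul_mem' := by
    rintro f g ⟨hf, hf1⟩ ⟨hg, hg1⟩
    exact ⟨mul_mem hf hg, fun v hv => by show f (g v) = v; rw [hg1 v hv, hf1 v hv]⟩
  inv_mem' := by
    rintro f ⟨hf, hf1⟩
    refine ⟨inv_mem hf, fun v hv => ?_⟩
    nth_rewrite 1 [← hf1 v hv]
    exact apply_inv f v

/-- The orbit of `a`. -/
def orb (h : Large Q z) (a : h.V) : Set h.V := {c | ∃ f ∈ h.act.range, f a = c}

open Classical in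
/-- The family `c ↦ W~(c)`. -/
noncomputable def fam (h : Large Q z) (a : h.V) (Wa : Submodule (ZMod 2) h.V) (c : h.V) :
    Submodule (ZMod 2) h.V :=
  if hc : ∃ f ∈ h.act.range, f a = c then Wa.map (hc.choose : h.V →ₗ[ZMod 2] h.V) else ⊥

variable {h : Large Q z} {W Wa : Submodule (ZMod 2) h.V} {a : h.V}

theorem mem_fam (d : SData h W a Wa) {f : h.V ≃ₗ[ZMod 2] h.V} (hf : f ∈ h.act.range) {v : h.V} :
    v ∈ fam h a Wa (f a) ↔ ∃ w ∈ Wa, f w = v := by
  classical
  have hc : ∃ g ∈ h.act.range, g a = f a := ⟨f, hf, rfl⟩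
  rw [fam, dif_pos hc, Submodule.mem_map]
  obtain ⟨hg, hga⟩ := hc.choose_spec
  set g := hc.choose
  constructor
  · rintro ⟨w, hw, rfl⟩
    refine ⟨(f⁻¹ * g) w, d.stab _ (mul_mem (inv_mem hf) hg) ?_ w hw, ?_⟩
    · show f⁻¹ (g a) = a
      rw [hga]; exact apply_inv f a
    · show f (f⁻¹ (g w)) = g w
      exact inv_apply f _
  · rintro ⟨w, hw, rfl⟩
    refine ⟨(g⁻¹ * f) w, d.stab _ (mul_mem (inv_mem hg) hf) ?_ w hw, ?_⟩
    · show g⁻¹ (f a) = a
      rw [← hga]; exact apply_inv g a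
    · show g (g⁻¹ (f w)) = f w
      exact inv_apply g _

theorem isE_sg (w : h.V) (ha : h.q a = 0) (hw : h.b a w = 0) : (qsp h).IsE (sg h a w ha hw) a w := by
  intro y
  show sg h a w ha hw y = y + h.b y w • a + h.b y a • (w + h.q w • a)
  rw [sg_apply, h.b_comm y w, h.b_comm y a]
  rw [add_smul, smul_add, smul_smul, mul_comm]
  abel

theorem data (d : SData h W a Wa) : Data (qsp h) h.act.range (cH h W) (orb h a) (fam h a Wa) where
  isom := fun f hf v => range_le_O h hf v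
  le := fun f hf => hf.1
  O_inv := by
    rintro f hf _ ⟨g, hg, rfl⟩
    exact ⟨f * g, mul_mem hf hg, rfl⟩
  O_ne := by
    rintro _ ⟨g, hg, rfl⟩ h0
    exact d.a_ne ((LinearEquiv.map_eq_zero_iff g).1 h0)
  O_q := by
    rintro _ ⟨g, hg, rfl⟩
    exact (range_le_O h hg a).trans d.q_a
  W_inv := by
    rintro f hf _ ⟨g, hg, rfl⟩ v hv
    obtain ⟨w, hw, rfl⟩ := (mem_fam d hg).1 hv
    exact (mem_fam d (mul_mem hf hg)).2 ⟨w, hw, rfl⟩
  W_mem := by
    rintro _ ⟨g, hg, rfl⟩
    exact (mem_fam d hg).2 ⟨a, d.a_mem, rfl⟩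
  W_perp := by
    rintro _ ⟨g, hg, rfl⟩ v hv
    obtain ⟨w, hw, rfl⟩ := (mem_fam d hg).1 hv
    show h.b (g w) (g a) = 0
    rw [b_of_mem_O h (range_le_O h hg), h.b_comm]
    exact d.perp' w hw
  E_mem := by
    rintro _ ⟨g, hg, rfl⟩ v hv
    obtain ⟨w, hw, rfl⟩ := (mem_fam d hg).1 hv
    refine ⟨g * sg h a w d.q_a (d.perp' w hw) * g⁻¹, ⟨?_, ?_⟩, ?_⟩
    · exact mul_mem (mul_mem hg (d.sg_mem w hw)) (inv_mem hg)
    · intro v hv
      have h1 : g⁻¹ v ∈ W := d.inv _ (inv_mem hg) v hv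
      show g (sg h a w d.q_a (d.perp' w hw) (g⁻¹ v)) = v
      rw [sg_perp h d.q_a (d.perp' w hw) (d.perp _ h1), d.orth w hw _ h1, zero_smul, add_zero]
      exact inv_apply g v
    · exact (isE_sg w d.q_a (d.perp' w hw)).conj (fun v => range_le_O h hg v)
  cent := by
    rintro f ⟨hf, hf1⟩ _ ⟨g, hg, rfl⟩ hfix v hv
    obtain ⟨w, hw, rfl⟩ := (mem_fam d hg).1 hv
    have h1 : (g⁻¹ * f * g) a = a := by
      show g⁻¹ (f (g a)) = a
      rw [hfix]; exact apply_inv g a
    have h2 : ∀ v ∈ W, (g⁻¹ * f * g) v = v := by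
      intro v hv
      show g⁻¹ (f (g v)) = v
      rw [hf1 _ (d.inv g hg v hv)]; exact apply_inv g v
    have h3 : g ((g⁻¹ * f * g) w) = f (g w) := inv_apply g _
    rcases d.fix _ (mul_mem (mul_mem (inv_mem hg) hf) hg) h1 h2 w hw with h4 | h4
    · left
      rw [← h3, h4]
    · right
      rw [← h3, h4, map_add]

theorem o2 [Finite G] (hO : O2 h) : ∀ N : Subgroup h.act.range, N.Normal → IsPGroup 2 N → N = ⊥ := by
  intro N hN h2
  rw [eq_bot_iff]
  rintro ⟨f, hf⟩ hfN
  rw [Subgroup.mem_bot]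
  apply Subtype.ext
  refine eq_one_of_normal h hO (N := N.map h.act.range.subtype) ?_ ?_ ?_ (g := f) ⟨⟨f, hf⟩, hfN, rfl⟩
  · rintro _ ⟨x, -, rfl⟩
    exact x.2
  · rintro k hk _ ⟨x, hx, rfl⟩
    exact ⟨⟨k, hk⟩ * x * ⟨k, hk⟩⁻¹, hN.conj_mem x hx _, rfl⟩
  · rintro _ ⟨x, hx, rfl⟩
    obtain ⟨k, hk⟩ := h2 ⟨x, hx⟩
    exact ⟨k, congrArg (fun y : N => ((y : h.act.range) : h.V ≃ₗ[ZMod 2] h.V)) hk⟩

theorem two_mul_card_le [Finite G] (d : SData h W a Wa) {c : h.V} (hc : c ∈ orb h a) :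
    2 * Nat.card W ≤ Nat.card (fam h a Wa c) := by
  classical
  obtain ⟨g, hg, rfl⟩ := hc
  obtain ⟨ι, h1, h2, h3⟩ := d.iso
  have hι : ∀ v, ι v ∈ Wa := fun v => (h2 _).2 ⟨v, Or.inl rfl⟩
  let F : W × Bool → fam h a Wa (g a) := fun p =>
    ⟨g (ι p.1 + if p.2 then a else 0), (mem_fam d hg).2 ⟨_, Wa.add_mem (hι _) (by
      by_cases hp : p.2
      · rw [if_pos hp]; exact d.a_mem
      · rw [if_neg hp]; exact Wa.zero_mem), rfl⟩⟩
  have hF : Function.Injective F := by
    rintro ⟨v, e⟩ ⟨v', e'⟩ hp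
    have h4 : ι v + (if e then a else 0) = ι v' + if e' then a else 0 := g.injective (congrArg Subtype.val hp)
    have h5 : ι (v + v') = (if e then a else 0) + if e' then a else 0 := by
      rw [map_add]
      calc ι v + ι v' = (ι v + if e then a else 0) + (if e then a else 0) + ι v' := by
            rw [add_assoc (ι v), h.add_self, add_zero]
        _ = (ι v' + ι v') + ((if e then a else 0) + if e' then a else 0) := by rw [h4]; abel
        _ = _ := by rw [h.add_self, zero_add]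
    have h6 : v + v' = 0 := by
      apply h3
      rw [h5]
      cases e <;> cases e' <;> simp [h.add_self]
    have h7 : v = v' := by
      calc v = v + (v' + v') := by rw [vadd_self, add_zero]
        _ = (v + v') + v' := by rw [add_assoc]
        _ = v' := by rw [h6, zero_add]
    subst h7
    have h8 : (if e then a else 0) = if e' then a else 0 := add_left_cancel h4
    have h9 : e = e' := by
      cases e <;> cases e'
      · rfl
      · exact absurd h8.symm (by simpa using d.a_ne)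
      · exact absurd h8 (by simpa using d.a_ne)
      · rfl
    rw [h9]
  have h10 := Nat.card_le_card_of_injective F hF
  rw [Nat.card_prod, Nat.card_eq_fintype_card (α := Bool), Fintype.card_bool] at h10
  omega

/-- **(N6)**. -/
theorem false_ts [Finite G] (hO : O2 h) (d : SData h W a Wa) (hq : ∀ v ∈ W, h.q v = 0)
    (hW : 4 ≤ Nat.card W) : False := by
  refine (data d).n6 ⟨a, 1, one_mem _, rfl⟩ ?_ ?_ (o2 hO)
  · rintro _ ⟨g, hg, rfl⟩ v hv
    obtain ⟨w, hw, rfl⟩ := (mem_fam d hg).1 hv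
    show h.q (g w) = 0
    rw [q_of_mem_O h (range_le_O h hg)]
    obtain ⟨ι, h1, h2, h3⟩ := d.iso
    obtain ⟨v, hv | hv⟩ := (h2 w).1 hw
    · rw [hv, h1]; exact hq v v.2
    · have h4 : h.b (ι v) a = 0 := by
        rw [h.b_comm]
        exact d.perp' _ ((h2 _).2 ⟨v, Or.inl rfl⟩)
      rw [hv, h.q_add', h1, hq v v.2, d.q_a, h4]; decide
  · intro c hc
    have := two_mul_card_le d hc
    omega

/-- `Wa / a` is nondegenerate. -/
theorem nondeg (d : SData h W a Wa) (hn : ∀ v ∈ W, (∀ w ∈ W, h.b v w = 0) → v = 0) :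
    NonDeg (qsp h) (orb h a) (fam h a Wa) := by
  rintro _ ⟨g, hg, rfl⟩ v hv v0 va
  obtain ⟨w, hw, rfl⟩ := (mem_fam d hg).1 hv
  obtain ⟨ι, h1, h2, h3⟩ := d.iso
  have hι : ∀ v, ι v ∈ Wa := fun v => (h2 _).2 ⟨v, Or.inl rfl⟩
  have hb : ∀ v v', h.b (ι v) (ι v') = h.b (v : h.V) (v' : h.V) := by
    intro v v'
    have e := h.q_add' (ι v) (ι v')
    rw [← map_add, h1, h1, h1, Submodule.coe_add, h.q_add'] at e
    exact (add_left_cancel e).symm
  have w0 : w ≠ 0 := by rintro rfl; exact v0 (map_zero g)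
  have wa : w ≠ a := by rintro rfl; exact va rfl
  have key : ∃ x : W, (x : h.V) ≠ 0 ∧ ∀ y : h.V, h.b a y = 0 → h.b w y = h.b (ι x) y := by
    obtain ⟨x, hx | hx⟩ := (h2 w).1 hw
    · refine ⟨x, ?_, fun y _ => by rw [hx]⟩
      intro h0
      apply w0
      rw [hx, (Subtype.ext h0 : x = 0), map_zero]
    · refine ⟨x, ?_, fun y hy => ?_⟩
      · intro h0
        apply wa
        rw [hx, (Subtype.ext h0 : x = 0), map_zero, zero_add]
      · rw [hx, map_add, LinearMap.add_apply, hy, add_zero]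
  obtain ⟨x, hx0, hx⟩ := key
  obtain ⟨y, hy, hxy⟩ : ∃ y ∈ W, h.b (x : h.V) y ≠ 0 := by
    by_contra hcon
    push Not at hcon
    exact hx0 (hn x x.2 hcon)
  refine ⟨g (ι ⟨y, hy⟩), (mem_fam d hg).2 ⟨_, hι _, rfl⟩, ?_⟩
  show h.b (g w) (g (ι ⟨y, hy⟩)) = 1
  rw [b_of_mem_O h (range_le_O h hg), hx _ (d.perp' _ (hι _)), hb]
  exact zmod_two_ne hxy

/-- **(N5)**. -/
theorem false_nd [Finite G] (hO : O2 h) (hT : NoFix h) (d : SData h W a Wa)
    (hn : ∀ v ∈ W, (∀ w ∈ W, h.b v w = 0) → v = 0) (hW : W ≠ ⊥) : False := by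
  classical
  have hne : (orb h a).Nonempty := ⟨a, 1, one_mem _, rfl⟩
  by_cases h8 : 8 ≤ Nat.card W
  · exact n5_big (data d) hne (fun c hc => by
      have := two_mul_card_le d hc
      omega) (nondeg d hn) (o2 hO)
  -- `|W| = 4`
  obtain ⟨v1, hv1, hv10⟩ := (Submodule.ne_bot_iff W).1 hW
  obtain ⟨v2, hv2, hv12⟩ : ∃ y ∈ W, h.b v1 y ≠ 0 := by
    by_contra hcon
    push Not at hcon
    exact hv10 (hn v1 hv1 hcon)
  replace hv12 : h.b v1 v2 = 1 := zmod_two_ne hv12
  have h01 : (0 : ZMod 2) ≠ 1 := by decide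
  have hv20 : v2 ≠ 0 := by
    rintro rfl
    rw [map_zero] at hv12
    exact h01 hv12
  have hne12 : v1 ≠ v2 := by
    rintro rfl
    rw [h.b_self] at hv12
    exact h01 hv12
  have hs0 : v1 + v2 ≠ 0 := fun e => hne12 (eq_of_add_eq_zero e)
  -- the elements of `W`
  have hall : ∀ v ∈ W, v = 0 ∨ v = v1 ∨ v = v2 ∨ v = v1 + v2 := by
    intro v hv
    by_contra hcon
    push Not at hcon
    obtain ⟨n0, n1, n2, n3⟩ := hcon
    apply h8
    -- eight distinct elements: `W ⊋ ⟨v1, v2⟩`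
    let F : (ZMod 2 × ZMod 2 × ZMod 2) → W := fun p => ⟨p.1 • v1 + p.2.1 • v2 + p.2.2 • v,
      W.add_mem (W.add_mem (W.smul_mem _ hv1) (W.smul_mem _ hv2)) (W.smul_mem _ hv)⟩
    have hF : ∀ p, F p = 0 → p = 0 := by
      rintro ⟨x, y, t⟩ hp
      have h1 : x • v1 + y • v2 + t • v = 0 := congrArg Subtype.val hp
      rcases zcases x with rfl | rfl <;> rcases zcases y with rfl | rfl <;> rcases zcases t with rfl | rfl <;>
        simp only [zero_smul, one_smul, zero_add, add_zero] at h1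
      · rfl
      · exact absurd h1 n0
      · exact absurd h1 hv20
      · exact absurd (eq_of_add_eq_zero h1).symm n2
      · exact absurd h1 hv10
      · exact absurd (eq_of_add_eq_zero h1).symm n1
      · exact absurd h1 hs0
      · exact absurd (eq_of_add_eq_zero h1).symm n3
    have hFadd : ∀ p p', F (p + p') = F p + F p' := by
      rintro ⟨x, y, t⟩ ⟨x', y', t'⟩
      apply Subtype.ext
      show (x + x') • v1 + (y + y') • v2 + (t + t') • v = (x • v1 + y • v2 + t • v) + (x' • v1 + y' • v2 + t' • v)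
      rw [add_smul, add_smul, add_smul]; abel
    have hFi : Function.Injective F := by
      intro p p' hp
      have h1 : F (p + p') = 0 := by rw [hFadd, hp, vadd_self]
      have h2 := hF _ h1
      have h3 : p + (p' + p') = p' := by rw [← add_assoc, h2, zero_add]
      rw [vadd_self, add_zero] at h3
      exact h3
    have := Nat.card_le_card_of_injective F hFi
    rw [Nat.card_prod, Nat.card_prod, Nat.card_zmod] at this
    omega
  have hs : v1 + v2 ∈ W := W.add_mem hv1 hv2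
  have hqs := h.q_add' v1 v2
  rw [hv12] at hqs
  -- `q = 1` on `W ∖ 0`
  have huniq : ∀ u ∈ W, h.q u = 1 → (∀ w ∈ W, h.q w = 1 → w = u) → False := by
    intro u hu hqu hw
    have h1 : u = 0 := by
      apply hT
      intro f hf
      exact hw _ (d.inv f hf u hu) ((q_of_mem_O h (range_le_O h hf) u).trans hqu)
    rw [h1, h.q_zero] at hqu
    exact h01 hqu
  have hz := h.q_zero
  have han : ∀ v ∈ W, v ≠ 0 → h.q v = 1 := by
    rcases zcases (h.q v1) with e1 | e1 <;> rcases zcases (h.q v2) with e2 | e2 <;> rw [e1, e2] at hqs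
    · exfalso
      refine huniq (v1 + v2) hs (hqs.trans (by decide)) ?_
      intro w hw hqw
      rcases hall w hw with rfl | rfl | rfl | rfl
      · rw [hz] at hqw; exact absurd hqw h01
      · rw [e1] at hqw; exact absurd hqw h01
      · rw [e2] at hqw; exact absurd hqw h01
      · rfl
    · exfalso
      have hqs' : h.q (v1 + v2) = 0 := hqs.trans (by decide)
      refine huniq v2 hv2 e2 ?_
      intro w hw hqw
      rcases hall w hw with rfl | rfl | rfl | rfl
      · rw [hz] at hqw; exact absurd hqw h01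
      · rw [e1] at hqw; exact absurd hqw h01
      · rfl
      · rw [hqs'] at hqw; exact absurd hqw h01
    · exfalso
      have hqs' : h.q (v1 + v2) = 0 := hqs.trans (by decide)
      refine huniq v1 hv1 e1 ?_
      intro w hw hqw
      rcases hall w hw with rfl | rfl | rfl | rfl
      · rw [hz] at hqw; exact absurd hqw h01
      · rfl
      · rw [e2] at hqw; exact absurd hqw h01
      · rw [hqs'] at hqw; exact absurd hqw h01
    · have hqs' : h.q (v1 + v2) = 1 := hqs.trans (by decide)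
      intro v hv h0
      rcases hall v hv with rfl | rfl | rfl | rfl
      · exact absurd rfl h0
      · exact e1
      · exact e2
      · exact hqs'
  obtain ⟨ι, h1, h2, h3⟩ := d.iso
  have hι : ∀ v, ι v ∈ Wa := fun v => (h2 _).2 ⟨v, Or.inl rfl⟩
  refine n5_aniso (data d) hne ?_ (nondeg d hn) ?_ (o2 hO)
  · rintro _ ⟨g, hg, rfl⟩ v hv v0 va
    obtain ⟨w, hw, rfl⟩ := (mem_fam d hg).1 hv
    show h.q (g w) = 1
    rw [q_of_mem_O h (range_le_O h hg)]
    have w0 : w ≠ 0 := by rintro rfl; exact v0 (map_zero g)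
    have wa : w ≠ a := by rintro rfl; exact va rfl
    obtain ⟨x, hx | hx⟩ := (h2 w).1 hw
    · rw [hx, h1]
      apply han x x.2
      intro h0
      apply w0
      rw [hx, (Subtype.ext h0 : x = 0), map_zero]
    · have h4 : h.b (ι x) a = 0 := by
        rw [h.b_comm]
        exact d.perp' _ (hι x)
      rw [hx, h.q_add', h1, d.q_a, h4, add_zero, add_zero]
      apply han x x.2
      intro h0
      apply wa
      rw [hx, (Subtype.ext h0 : x = 0), map_zero, zero_add]
  · rintro _ ⟨g, hg, rfl⟩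
    have h5 : ι ⟨v1, hv1⟩ ≠ 0 := fun e => hv10 (congrArg Subtype.val (h3 _ (Or.inl e)))
    have h6 : ι ⟨v1, hv1⟩ ≠ a := fun e => hv10 (congrArg Subtype.val (h3 _ (Or.inr e)))
    refine ⟨g (ι ⟨v1, hv1⟩), (mem_fam d hg).2 ⟨_, hι _, rfl⟩, ?_, ?_⟩
    · intro e
      exact h5 ((LinearEquiv.map_eq_zero_iff g).1 e)
    · intro e
      exact h6 (g.injective e)

end Cfsg.Agent.LargeExtra.Red.FalseSD
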