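import Cfsg.Agent.LargeExtra.Red.Conj

/-!
# S1761, case II: (N3) the Siegel family of an invariant subgroup `B ≤ C_Q(a)`, `a ∉ B` (helper988)
-/

set_option autoImplicit false

namespace Cfsg.Agent.LargeExtra.Red

open Cfsg.Agent.Co2Type.Quad Cfsg.Agent.LargeExtra.Base Cfsg.Agent.LargeExtra.TwoCentral
open Cfsg.Agent.LargeExtra.Siegel Cfsg.Agent.LargeExtra.SiegelOrbit Cfsg.Agent.LargeExtra.Local

variable {G : Type*} [Group G] {Q A B Ba : Subgroup G} {z a : G}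

theorem conj_eq_of_comm {x y : G} (h : x * y = y * x) : x * y * x⁻¹ = y := by rw [h]; group

theorem comm_of_conj_eq {x y : G} (h : x * y * x⁻¹ = y) : x * y = y * x := by
  rwa [mul_inv_eq_iff_eq_mul] at h

/-- `g` maps `Ba` to `B^(g²)`: description of `Ba` by a conjugator. -/
theorem BPair.mem_iff (p : BPair Q z A a B Ba) {g : G} (hg : g * z * g⁻¹ = a) {x : G} :
    x ∈ Ba ↔ g⁻¹ * x * g ∈ B := by
  rw [p.eq_map hg, mem_map_conj]

theorem BPair.conj_mem (p : BPair Q z A a B Ba) {g : G} (hg : g * z * g⁻¹ = a) {x : G}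
    (hx : x ∈ B) : g * x * g⁻¹ ∈ Ba := by
  rw [p.eq_map hg]
  exact conj_mem_map g hx

/-- the standing hypothesis: `B` centralises `a` and `a ∉ B`; it is symmetric. -/
structure Off (p : BPair Q z A a B Ba) : Prop where
  comm : ∀ x ∈ B, x * a = a * x
  notMem : a ∉ B

theorem Off.symm {p : BPair Q z A a B Ba} (o : Off p) : Off p.symm := by
  obtain ⟨g, h1, h2, h3, h4⟩ := p.swap
  refine ⟨?_, ?_⟩
  · intro x hx
    have h5 := o.comm _ ((p.mem_iff h1).1 hx)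
    have h6 : z = g * a * g⁻¹ := h2.symm
    calc x * z = g * ((g⁻¹ * x * g) * a) * g⁻¹ := by rw [h6]; group
      _ = g * (a * (g⁻¹ * x * g)) * g⁻¹ := by rw [h5]
      _ = z * x := by rw [h6]; group
  · intro hz
    have h5 := (p.mem_iff h1).1 hz
    apply o.notMem
    have : g⁻¹ * z * g = a := by rw [← h2]; group
    rwa [this] at h5

section

variable [Finite G] {p : BPair Q z A a B Ba} (o : Off p)
include o

theorem Off.va_notMem : p.pair.va ∉ sub p.pair.lz B := by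
  intro h
  exact o.notMem ((pr_mem_sub p.pair.lz p.cB.z_mem ⟨a, p.pair.a_mem⟩).1 h)

theorem Off.perp {v : p.pair.lz.V} (hv : v ∈ sub p.pair.lz B) : p.pair.lz.b p.pair.va v = 0 := by
  obtain ⟨x, hx, rfl⟩ := hv
  exact (p.pair.lz.b_pr _ _).2 (o.comm x hx).symm

/-- `[B, X] ≤ ⟨z⟩` -/
theorem Off.conj_B {x b : G} (hx : x ∈ A) (hxz : x * z = z * x) (hb : b ∈ B) :
    x * b * x⁻¹ = b ∨ x * b * x⁻¹ = b * z := by
  have hbQ := p.cB.le hb
  have hxC : x ∈ Subgroup.centralizer ({z} : Set G) := Subgroup.mem_centralizer_singleton_iff.2 hxz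
  have h1 := fix_of_perp p.pair (inv_sub p.pair.lz p.cB) o.va_notMem
    (f := p.pair.lz.act ⟨x, hxC⟩) (p.pair.mem_X.2 ⟨⟨x, hxC⟩, hx, rfl⟩)
    (v := p.pair.lz.pr ⟨b, hbQ⟩) ⟨⟨b, hbQ⟩, hb, rfl⟩ (o.perp ⟨⟨b, hbQ⟩, hb, rfl⟩)
  rw [p.pair.lz.act_pr, p.pair.lz.pr_eq_pr, p.pair.lz.conjQ_coe] at h1
  exact h1

/-- `[B, Ba] = 1` -/
theorem Off.comm_BBa {b β : G} (hb : b ∈ B) (hβ : β ∈ Ba) : b * β = β * b := by
  have h1 := o.conj_B (p.cBa.le hβ) (o.symm.comm β hβ) hb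
  have h2 := o.symm.conj_B (p.cB.le hb) (o.comm b hb) hβ
  rcases h1 with h1 | h1
  · exact (comm_of_conj_eq h1).symm
  · rcases h2 with h2 | h2
    · exact comm_of_conj_eq h2
    · exfalso
      -- `β b = b z β`, `b β = β a b`
      have e1 : β * b = b * z * β := by rw [mul_inv_eq_iff_eq_mul] at h1; exact h1
      have e2 : b * β = β * a * b := by rw [mul_inv_eq_iff_eq_mul] at h2; exact h2
      have e3 : z * β = β * z := (o.symm.comm β hβ).symm
      have e4 : a * b = b * a := (o.comm b hb).symm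
      have zz := p.pair.lz.z_sq
      have e5 : b * β * z = b * β * a := by
        calc b * β * z = b * z * β := by rw [mul_assoc, ← e3, ← mul_assoc]
          _ = β * b := e1.symm
          _ = β * (a * a) * b := by rw [p.pair.la.z_sq, mul_one]
          _ = β * a * (a * b) := by group
          _ = (β * a * b) * a := by rw [e4]; group
          _ = b * β * a := by rw [e2]
      exact p.pair.ne (mul_left_cancel e5).symm

/-- `[C_Q(a), β] ≤ ⟨a⟩` for `β ∈ Ba`: the action on `a^⊥` -/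
theorem Off.act_perp {c : Subgroup.centralizer ({z} : Set G)} (hc : (c : G) ∈ Ba)
    {v : p.pair.lz.V} (hv : p.pair.lz.b p.pair.va v = 0) :
    p.pair.lz.act c v = v ∨ p.pair.lz.act c v = v + p.pair.va := by
  obtain ⟨r, rfl⟩ := p.pair.lz.pr_surjective v
  have hra : (r : G) * a = a * r := ((p.pair.lz.b_pr _ _).1 hv).symm
  -- `r c r⁻¹ = c` or `c a`
  have ac : a * (c : G) = (c : G) * a := (p.pair.la.comm_z _ (p.cBa.le hc)).symm
  rcases o.symm.conj_B r.2 hra hc with h1 | h1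
  · left
    refine Pair.act_pr_coe p.pair.lz c r r ?_
    exact conj_eq_of_comm (comm_of_conj_eq h1).symm
  · right
    rw [Pair.va, ← p.pair.lz.pr_mul]
    refine Pair.act_pr_coe p.pair.lz c r _ ?_
    show (c : G) * r * (c : G)⁻¹ = r * a
    have e2 : (r : G) * c = c * a * r := by rw [mul_inv_eq_iff_eq_mul] at h1; exact h1
    have ai : a⁻¹ = a := p.pair.la.z_inv
    rw [mul_inv_eq_iff_eq_mul]
    calc (c : G) * r = c * (a * a) * r := by rw [p.pair.la.z_sq, mul_one]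
      _ = c * a * (a * r) := by group
      _ = (c * a * r) * a := by rw [← hra]; group
      _ = r * c * a := by rw [e2]
      _ = r * a * c := by rw [mul_assoc, ← ac, ← mul_assoc]

theorem Off.exists_sg {c : Subgroup.centralizer ({z} : Set G)} (hc : (c : G) ∈ Ba) :
    ∃ (w : p.pair.lz.V) (hw : p.pair.lz.b p.pair.va w = 0),
      p.pair.lz.act c = sg p.pair.lz p.pair.va w (q_va p.pair) hw := by
  apply eq_sg p.pair.lz (q_va p.pair) p.pair.va_ne (act_mem_O p.pair.lz c)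
  · exact p.pair.X_va (p.pair.mem_X.2 ⟨c, p.cBa.le hc, rfl⟩)
  · exact fun v hv => o.act_perp hc hv

/-- `Ba ∩ Q = ⟨a⟩` -/
theorem Off.eq_of_mem {β : G} (hβ : β ∈ Ba) (hQ : β ∈ Q) : β = 1 ∨ β = a := by
  have h1 := disj p.pair.symm (inv_sub p.pair.la p.cBa) o.symm.va_notMem
    (v := p.pair.la.pr ⟨β, p.cBa.le hβ⟩) ⟨⟨β, p.cBa.le hβ⟩, hβ, rfl⟩
    ((p.pair.symm.pr_mem_D _).2 hQ)
  exact p.pair.la.pr_eq_zero.1 h1

/-- for `k ∈ RX`: `k β k⁻¹ ∈ β⟨a⟩` -/
theorem Off.conj_RX {k : G} (hk : k ∈ RX Q z A a) :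
    k * a = a * k ∧ ∀ β ∈ Ba, k * β * k⁻¹ = β ∨ k * β * k⁻¹ = β * a := by
  rw [RX, Subgroup.sup_eq_closure] at hk
  have ai : a⁻¹ = a := p.pair.la.z_inv
  have hBaa : ∀ β ∈ Ba, β * a ∈ Ba := fun β hβ => mul_mem hβ p.cBa.z_mem
  induction hk using Subgroup.closure_induction with
  | mem x hx =>
    rcases hx with hx | hx
    · obtain ⟨h1, h2⟩ := mem_R.1 hx
      exact ⟨h2, fun β hβ => o.symm.conj_B h1 h2 hβ⟩
    · obtain ⟨h1, h2⟩ := mem_R.1 hx
      refine ⟨p.pair.la.comm_z x h1, fun β hβ => ?_⟩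
      exact p.pair.conj_D (p.cBa.le hβ) h1
  | one => exact ⟨by group, fun β hβ => Or.inl (by group)⟩
  | mul x y hx hy hx' hy' =>
    obtain ⟨h1, h2⟩ := hx'
    obtain ⟨h3, h4⟩ := hy'
    refine ⟨by rw [mul_assoc, h3, ← mul_assoc, h1, mul_assoc], fun β hβ => ?_⟩
    have e : x * y * β * (x * y)⁻¹ = x * (y * β * y⁻¹) * x⁻¹ := by group
    have e2 : x * (β * a) * x⁻¹ = x * β * x⁻¹ * a := by
      have h5 : x⁻¹ * a = a * x⁻¹ := (show Commute x a from h1).inv_left.eq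
      calc x * (β * a) * x⁻¹ = x * β * (a * x⁻¹) := by group
        _ = x * β * x⁻¹ * a := by rw [← h5]; group
    rw [e]
    rcases h4 β hβ with h5 | h5 <;> rw [h5]
    · exact h2 β hβ
    · rw [e2]
      rcases h2 β hβ with h6 | h6 <;> rw [h6]
      · right; rfl
      · left; rw [mul_assoc, p.pair.la.z_sq, mul_one]
  | inv x hx hx' =>
    obtain ⟨h1, h2⟩ := hx'
    have h1' : x⁻¹ * a = a * x⁻¹ := (show Commute x a from h1).inv_left.eq
    refine ⟨h1', fun β hβ => ?_⟩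
    rcases h2 β hβ with h5 | h5
    · left
      have : x⁻¹ * (x * β * x⁻¹) * x⁻¹⁻¹ = β := by group
      rwa [h5] at this
    · right
      have h6 : x⁻¹ * β * x⁻¹⁻¹ * a = β := by
        calc x⁻¹ * β * x⁻¹⁻¹ * a = x⁻¹ * β * (x * a) := by rw [inv_inv]; group
          _ = x⁻¹ * (β * a) * x⁻¹⁻¹ := by rw [h1, inv_inv]; group
          _ = x⁻¹ * (x * β * x⁻¹) * x⁻¹⁻¹ := by rw [h5]
          _ = β := by group
      calc x⁻¹ * β * x⁻¹⁻¹ = (x⁻¹ * β * x⁻¹⁻¹ * a) * a := by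
            rw [mul_assoc _ a a, p.pair.la.z_sq, mul_one]
        _ = β * a := by rw [h6]

end

end Cfsg.Agent.LargeExtra.Red
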