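import Cfsg.Agent.LargeExtra.Red.Pre
import Cfsg.Agent.LargeExtra.Perp
import Mathlib.LinearAlgebra.Transvection.Generation

/-!
# S1761, case II, (γ): the minimal submodule `U` is not orthogonal to `ã` (helper448)

`H = GL(U)`, `X` = all transvections of `U` with axis `U ∩ ã^⊥`, `|D̃| = |U|`, `U ∩ D̃ = 0`.
-/

set_option autoImplicit false

namespace Cfsg.Agent.LargeExtra.Red.Gamma

open Cfsg.Agent.Co2Type.Quad Cfsg.Agent.LargeExtra.Base Cfsg.Agent.LargeExtra.TwoCentral
open Cfsg.Agent.LargeExtra.Siegel Cfsg.Agent.LargeExtra.SiegelOrbit Cfsg.Agent.LargeExtra.Local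
open Cfsg.Agent.LargeExtra.Red

section GenLin

variable {W : Type*} [AddCommGroup W] [Module (ZMod 2) W] [Finite W]

open scoped Pointwise in
/-- `GL(W)` over the field with two elements is generated by transvections -/
theorem mem_of_transvections (S : Subgroup (W ≃ₗ[ZMod 2] W))
    (hS : ∀ (f : Module.Dual (ZMod 2) W) (v : W) (hf : f v = 0),
      LinearEquiv.transvection hf ∈ S) (e : W ≃ₗ[ZMod 2] W) : e ∈ S := by
  have hfin : Module.Finite (ZMod 2) W := Module.Finite.of_finite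
  have hne : ¬ LinearEquiv.IsExceptional e := by
    rintro ⟨h1, h2, k, hk⟩
    have h3 : ∀ k : ZMod 2, k = 0 ∨ k = 1 := by decide
    rcases h3 k with rfl | rfl
    · have h4 : ∀ x : W ⧸ e.fixedSubmodule, x = 0 := by
        intro x
        apply e.fixedReduce.injective
        rw [hk, zero_smul, map_zero]
      have h5 : Subsingleton (W ⧸ e.fixedSubmodule) := ⟨fun x y => (h4 x).trans (h4 y).symm⟩
      rw [Module.finrank_zero_of_subsingleton] at h1
      omega
    · apply h2
      ext x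
      rw [hk, one_smul]; rfl
  have h := LinearEquiv.mem_transvections_pow_mul_dilatransvections_of_not_isExceptional hne
  obtain ⟨t, ht, d, hd, rfl⟩ := Set.mem_mul.1 h
  have hT : ∀ n : ℕ, (LinearEquiv.transvections (ZMod 2) W) ^ n ⊆ (S : Set (W ≃ₗ[ZMod 2] W)) := by
    intro n
    induction n with
    | zero =>
      rw [pow_zero]
      intro x hx
      rw [Set.mem_one.1 hx]; exact S.one_mem
    | succ n ih =>
      rw [pow_succ]
      rintro x hx
      obtain ⟨u, hu, v, ⟨f, w, hf, rfl⟩, rfl⟩ := Set.mem_mul.1 hx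
      exact S.mul_mem (ih hu) (hS f w hf)
  refine S.mul_mem (hT _ ht) ?_
  obtain ⟨f, v, hfv⟩ := hd
  have hd' : ∀ x, d x = x + f x • v := fun x => by
    have := congrArg (fun g : W →ₗ[ZMod 2] W => g x) hfv
    exact this
  have hf : f v = 0 := by
    by_contra hne
    have h1 : f v = 1 := by
      have : ∀ k : ZMod 2, k ≠ 0 → k = 1 := by decide
      exact this _ hne
    have h2 : d v = 0 := by
      rw [hd', h1, one_smul]
      have h3 : (2 : ZMod 2) • v = 0 := by
        rw [show (2 : ZMod 2) = 0 from rfl, zero_smul]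
      rwa [two_smul] at h3
    have h4 : v = 0 := d.injective (by rw [h2, map_zero])
    exact hne (by rw [h4, map_zero])
  have h5 : d = LinearEquiv.transvection hf := by
    ext x
    rw [hd', LinearEquiv.transvection.apply]
  rw [h5]
  exact hS f v hf

end GenLin

variable {G : Type*} [Group G] {Q A : Subgroup G} {z a : G}

/-- `A ∩ A^e ≤ Q` for `e ∈ Q` not commuting with `a` -/
theorem mem_Q (p : Pair Q z A a) {e : G} (hea : e * a * e⁻¹ = a * z) {c : G}
    (hc : c ∈ A) (hc' : c ∈ A.map (MulAut.conj e).toMonoidHom) : c ∈ Q := by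
  obtain ⟨g, hg, g1, g2, -⟩ := exists_cycle p
  obtain ⟨k, k1, -, k3, -⟩ := p.isConj
  have h1 : A = Q.map (MulAut.conj g).toMonoidHom := by
    rw [k3]; exact map_eq_of_conj p.lz (k1.trans g1.symm)
  have h2 : A.map (MulAut.conj e).toMonoidHom = A.map (MulAut.conj g).toMonoidHom :=
    map_eq_of_conj p.la (hea.trans g2.symm)
  rw [h2] at hc'
  have hc1 : g⁻¹ * c * g ∈ Q := by
    rw [h1, mem_map_conj] at hc; exact hc
  have hc2 : g⁻¹ * c * g ∈ A := mem_map_conj.1 hc'
  have h3 := norm_D p hg (Subgroup.mem_inf.2 ⟨hc1, hc2⟩)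
  have e1 : g * (g⁻¹ * c * g) * g⁻¹ = c := by group
  rw [e1] at h3
  exact (Subgroup.mem_inf.1 h3).1

/-- an element of `X` fixing a vector not orthogonal to `ã` is trivial -/
theorem eq_one_of_fix (p : Pair Q z A a) {f : p.lz.V ≃ₗ[ZMod 2] p.lz.V} (hf : f ∈ p.X)
    {u : p.lz.V} (hu : p.lz.b p.va u = 1) (hfu : f u = u) : f = 1 := by
  obtain ⟨c, hc, rfl⟩ := p.mem_X.1 hf
  obtain ⟨e, rfl⟩ := p.lz.pr_surjective u
  have h1 : (e : G) * a * (e : G)⁻¹ = a * z := by
    have h2 := (p.lz.b_pr_one _ _).1 hu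
    have h2' : a * (e : G) = e * a * z := h2
    have h3 : (e : G) * a = a * e * z := by
      rw [h2', mul_assoc, p.lz.z_sq, mul_one]
    rw [h3, mul_assoc _ z, ← (p.lz.commz e.2).inv_left.eq]
    group
  have h1' : (e : G)⁻¹ * a * (e : G)⁻¹⁻¹ = a * z := by
    rw [inv_inv]
    have hz : (e : G) * z * (e : G)⁻¹ = z := conj_z p e.2
    have h5 : (e : G) * (a * z) * (e : G)⁻¹ = a := by
      calc (e : G) * (a * z) * (e : G)⁻¹ = ((e : G) * a * (e : G)⁻¹) * ((e : G) * z * (e : G)⁻¹) := by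
            group
        _ = a := by rw [h1, hz, mul_assoc, p.lz.z_sq, mul_one]
    calc (e : G)⁻¹ * a * e = (e : G)⁻¹ * ((e : G) * (a * z) * (e : G)⁻¹) * e := by rw [h5]
      _ = a * z := by group
  have hcz : (c : G) * z = z * c := Subgroup.mem_centralizer_singleton_iff.1 c.2
  have h4 : (c : G) * e * (c : G)⁻¹ = e ∨ (c : G) * e * (c : G)⁻¹ = e * z := by
    rw [p.lz.act_pr] at hfu
    have := p.lz.pr_eq_pr.1 hfu
    rwa [p.lz.conjQ_coe] at this
  have h5 : (e : G) * c * (e : G)⁻¹ = c ∨ (e : G) * c * (e : G)⁻¹ = c * z := by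
    rcases h4 with h | h
    · left
      have h6 : (c : G) * e = e * c := by rw [mul_inv_eq_iff_eq_mul] at h; exact h
      rw [← h6]; group
    · right
      have h6 : (c : G) * e = e * z * c := by rw [mul_inv_eq_iff_eq_mul] at h; exact h
      have h7 : (e : G) * c = c * e * z := by
        calc (e : G) * c = e * z * (z * c) := by
              rw [mul_assoc, ← mul_assoc z, p.lz.z_sq, one_mul]
          _ = e * z * (c * z) := by rw [hcz]
          _ = (e * z * c) * z := by group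
          _ = c * e * z := by rw [← h6]
      rw [h7, mul_assoc _ z, ← (p.lz.commz e.2).inv_left.eq]
      group
  have h6 : (c : G) ∈ A.map (MulAut.conj (e : G)⁻¹).toMonoidHom := by
    rw [mem_map_conj, inv_inv]
    rcases h5 with h | h
    · rw [h]; exact hc
    · rw [h]; exact A.mul_mem hc p.z_mem
  exact p.lz.act_mem c (mem_Q p h1' hc h6)

section Case

variable [Finite G] (p : Pair Q z A a) {U : Submodule (ZMod 2) p.lz.V}

/-- `U ∩ ã^⊥` -/
noncomputable def Ua (U : Submodule (ZMod 2) p.lz.V) : Submodule (ZMod 2) p.lz.V :=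
  U ⊓ LinearMap.ker (p.lz.b p.va)

omit [Finite G] in
theorem mem_Ua {v : p.lz.V} : v ∈ Ua p U ↔ v ∈ U ∧ p.lz.b p.va v = 0 := by
  rw [Ua, Submodule.mem_inf, LinearMap.mem_ker]

omit [Finite G] in
theorem notMem_of (hts : ∀ v ∈ U, p.lz.q v = 0) {u : p.lz.V} (hu : u ∈ U)
    (hb : p.lz.b p.va u = 1) : p.va ∉ U := by
  intro h
  have := b_eq_zero_of_ts p.lz hts h hu
  rw [this] at hb
  exact absurd hb (by decide)

omit [Finite G] in
theorem arith {x d u n V : ℕ} (c1 : x ≤ n) (c2 : n * 2 ≤ u) (c3 : x * d * 2 = V)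
    (c4 : u * u ≤ V) (c5 : d * d ≤ V) (hu : 0 < u) (hd : 0 < d) :
    d = u ∧ V = u * u ∧ x = n ∧ n * 2 = u := by
  have d1 : V ≤ u * d := by
    rw [← c3]
    calc x * d * 2 = (x * 2) * d := by ring
      _ ≤ u * d := Nat.mul_le_mul_right _ (by omega)
  have d2 : u ≤ d := Nat.le_of_mul_le_mul_left (c4.trans d1) hu
  have d3 : d ≤ u := Nat.le_of_mul_le_mul_right (c5.trans d1) hd
  have d4 : d = u := le_antisymm d3 d2
  subst d4
  have d5 : V = d * d := le_antisymm d1 c4
  have d6 : x * 2 = d := by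
    have : (x * 2) * d = d * d := by rw [← d5, ← c3]; ring
    exact Nat.eq_of_mul_eq_mul_right hd this
  exact ⟨rfl, d5, by omega, by omega⟩

omit [Finite G] in
theorem finite_equiv {V : Type*} [AddCommGroup V] [Module (ZMod 2) V] [Finite V] :
    Finite (V ≃ₗ[ZMod 2] V) :=
  Finite.of_injective (fun f : V ≃ₗ[ZMod 2] V => (f : V → V)) DFunLike.coe_injective

/-- the counting -/
theorem count (hI : Inv p.lz U) (hts : ∀ v ∈ U, p.lz.q v = 0) {u₀ : p.lz.V} (hu : u₀ ∈ U)
    (hb : p.lz.b p.va u₀ = 1) :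
    Nat.card p.D = Nat.card U ∧ Nat.card p.lz.V = Nat.card U * Nat.card U ∧
      ∀ w ∈ U, p.lz.b p.va w = 0 → ∃ f ∈ p.X, f u₀ = u₀ + w := by
  classical
  have hn := notMem_of p hts hu hb
  have hfinV : Finite p.lz.V := inferInstance
  have hmem : ∀ f : p.X, (f : p.lz.V ≃ₗ[ZMod 2] p.lz.V) u₀ + u₀ ∈ Ua p U := by
    rintro ⟨f, hf⟩
    rw [mem_Ua]
    refine ⟨U.add_mem (hI f (p.X_le_H hf) u₀ hu) hu, ?_⟩
    rw [map_add, b_inv p (p.X_le_H hf)]
    have h1 : f⁻¹ p.va = p.va := p.X_va (inv_mem hf)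
    rw [h1]
    exact CharTwo.add_self_eq_zero _
  let ψ : p.X → Ua p U := fun f => ⟨_, hmem f⟩
  have hinj : Function.Injective ψ := by
    rintro ⟨f, hf⟩ ⟨g, hg⟩ e
    have e1 : f u₀ + u₀ = g u₀ + u₀ := congrArg Subtype.val e
    have e2 : f u₀ = g u₀ := add_right_cancel e1
    apply Subtype.ext
    show f = g
    have h1 : (g⁻¹ * f) u₀ = u₀ := by
      show g⁻¹ (f u₀) = u₀
      rw [e2]; exact apply_inv g u₀
    have h2 := eq_one_of_fix p (mul_mem (inv_mem hg) hf) hb h1
    rw [inv_mul_eq_one] at h2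
    exact h2.symm
  have hEfin : Finite (p.lz.V ≃ₗ[ZMod 2] p.lz.V) := finite_equiv
  have hXfin : Finite p.X := inferInstance
  have c1 : Nat.card p.X ≤ Nat.card (Ua p U) := Nat.card_le_card_of_injective ψ hinj
  have c2 : Nat.card (Ua p U) * 2 ≤ Nat.card U := by
    have hm : ∀ x : (Ua p U) × Bool, (x.1 : p.lz.V) + (if x.2 then u₀ else 0) ∈ U := by
      rintro ⟨x, b⟩
      refine U.add_mem ((mem_Ua p).1 x.2).1 ?_
      cases b
      · exact U.zero_mem
      · exact hu
    have hi : Function.Injective (fun x : (Ua p U) × Bool => (⟨_, hm x⟩ : U)) := by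
      rintro ⟨x, b⟩ ⟨y, c⟩ e
      have e1 : (x : p.lz.V) + (if b then u₀ else 0) = y + (if c then u₀ else 0) :=
        congrArg Subtype.val e
      have e2 := congrArg (p.lz.b p.va) e1
      rw [map_add, map_add, ((mem_Ua p).1 x.2).2, ((mem_Ua p).1 y.2).2, zero_add, zero_add] at e2
      have hbc : b = c := by
        cases b <;> cases c
        · rfl
        · simp only [Bool.false_eq_true, if_false, if_true, map_zero, hb] at e2
          exact absurd e2 (by decide)
        · simp only [Bool.false_eq_true, if_false, if_true, map_zero, hb] at e2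
          exact absurd e2 (by decide)
        · rfl
      subst hbc
      have e3 : (x : p.lz.V) = y := add_right_cancel e1
      rw [Subtype.ext e3]
    have h1 := Nat.card_le_card_of_injective _ hi
    rw [Nat.card_prod, Nat.card_eq_fintype_card (α := Bool), Fintype.card_bool] at h1
    exact h1
  have c3 := p.card_X
  have c4 := Perp.card_sq_le p.lz U fun v hv w hw => b_eq_zero_of_ts p.lz hts hv hw
  have c5 := Perp.card_sq_le p.lz p.D fun v hv w hw => p.b_D hv hw
  obtain ⟨d1, d2, d3, -⟩ := arith c1 c2 c3 c4 c5 Nat.card_pos Nat.card_pos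
  refine ⟨d1, d2, ?_⟩
  intro w hw hbw
  have hbij := (Nat.bijective_iff_injective_and_card ψ).2 ⟨hinj, d3⟩
  obtain ⟨⟨f, hf⟩, hfw⟩ := hbij.2 ⟨w, (mem_Ua p).2 ⟨hw, hbw⟩⟩
  refine ⟨f, hf, ?_⟩
  have e : f u₀ + u₀ = w := congrArg Subtype.val hfw
  rw [← e]
  calc f u₀ = u₀ + u₀ + f u₀ := by rw [p.lz.add_self, zero_add]
    _ = u₀ + (f u₀ + u₀) := by abel

/-- `U^⊥ = U` -/
theorem perp (h : Large Q z) {U : Submodule (ZMod 2) h.V} (hts : ∀ v ∈ U, h.q v = 0)
    (hc : Nat.card h.V = Nat.card U * Nat.card U) {v : h.V} (hv : ∀ u ∈ U, h.b u v = 0) :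
    v ∈ U := by
  have h1 := Perp.card_perp h U
  rw [hc] at h1
  have h2 : Nat.card (h.b.orthogonal U) = Nat.card U :=
    Nat.eq_of_mul_eq_mul_left Nat.card_pos h1
  have hle : U ≤ h.b.orthogonal U := fun u hu =>
    (Perp.mem_perp h U).2 fun w hw => b_eq_zero_of_ts h hts hw hu
  have h3 : Function.Bijective (Submodule.inclusion hle) :=
    (Nat.bijective_iff_injective_and_card _).2 ⟨Submodule.inclusion_injective hle, h2.symm⟩
  obtain ⟨u, hu⟩ := h3.2 ⟨v, (Perp.mem_perp h U).2 hv⟩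
  have : (u : h.V) = v := congrArg Subtype.val hu
  rw [← this]; exact u.2

omit [Finite G] in
theorem b_act' (h : Large Q z) {f : h.V ≃ₗ[ZMod 2] h.V} (hf : f ∈ h.act.range) (v w : h.V) :
    h.b (f v) (f w) = h.b v w := by
  obtain ⟨c, rfl⟩ := hf
  exact h.b_act c v w

/-- `H` is faithful on `U = U^⊥` -/
theorem faithful (h : Large Q z) (hO : O2 h) {U : Submodule (ZMod 2) h.V} (hI : Inv h U)
    (hp : ∀ v, (∀ u ∈ U, h.b u v = 0) → v ∈ U) {f : h.V ≃ₗ[ZMod 2] h.V} (hf : f ∈ h.act.range)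
    (hfU : ∀ u ∈ U, f u = u) : f = 1 := by
  have hadd : ∀ g ∈ h.act.range, (∀ u ∈ U, g u = u) → ∀ v, g v + v ∈ U := by
    intro g hg hgU v
    apply hp
    intro u hu
    rw [map_add]
    nth_rewrite 1 [← hgU u hu]
    rw [b_act' h hg]
    exact CharTwo.add_self_eq_zero _
  let N : Subgroup (h.V ≃ₗ[ZMod 2] h.V) :=
    { carrier := {g | g ∈ h.act.range ∧ ∀ u ∈ U, g u = u}
      one_mem' := ⟨one_mem _, fun u _ => rfl⟩
      mul_mem' := by
        rintro g k ⟨hg, hgU⟩ ⟨hk, hkU⟩
        refine ⟨mul_mem hg hk, fun u hu => ?_⟩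
        show g (k u) = u
        rw [hkU u hu, hgU u hu]
      inv_mem' := by
        rintro g ⟨hg, hgU⟩
        refine ⟨inv_mem hg, fun u hu => ?_⟩
        nth_rewrite 1 [← hgU u hu]
        exact apply_inv g u }
  refine eq_one_of_normal h hO (N := N) (fun g hg => hg.1) ?_ ?_ (g := f) ⟨hf, hfU⟩
  · rintro k hk g ⟨hg, hgU⟩
    refine ⟨mul_mem (mul_mem hk hg) (inv_mem hk), fun u hu => ?_⟩
    show k (g (k⁻¹ u)) = u
    rw [hgU _ (hI _ (inv_mem hk) u hu), inv_apply]
  · rintro g ⟨hg, hgU⟩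
    refine ⟨1, ?_⟩
    rw [pow_one, pow_two]
    ext v
    show g (g v) = v
    have h1 := hgU _ (hadd g hg hgU v)
    rw [map_add] at h1
    exact add_right_cancel (h1.trans (add_comm _ _))

end Case

section Case2

variable [Finite G] (h : Large Q z) {U : Submodule (ZMod 2) h.V}

/-- `c` is *full* if all transvections of `U` with axis `U ∩ c^⊥` are induced by `H` -/
def Full (U : Submodule (ZMod 2) h.V) (c : h.V) : Prop :=
  ∀ w ∈ U, h.b c w = 0 → ∃ f ∈ h.act.range, ∀ u ∈ U, f u = u + h.b c u • w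

omit [Finite G] in
theorem Full.congr {c c' : h.V} (hc : Full h U c) (e : ∀ u ∈ U, h.b c u = h.b c' u) :
    Full h U c' := by
  intro w hw hb
  obtain ⟨f, hf, hfu⟩ := hc w hw (by rw [e w hw]; exact hb)
  exact ⟨f, hf, fun u hu => by rw [hfu u hu, e u hu]⟩

omit [Finite G] in
theorem Full.map (hI : Inv h U) {c : h.V} (hc : Full h U c) {g : h.V ≃ₗ[ZMod 2] h.V}
    (hg : g ∈ h.act.range) : Full h U (g c) := by
  intro w hw hb
  have hb' : ∀ v, h.b (g c) v = h.b c (g⁻¹ v) := by
    intro v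
    rw [← b_act' h hg c (g⁻¹ v), inv_apply]
  obtain ⟨f, hf, hfu⟩ := hc (g⁻¹ w) (hI _ (inv_mem hg) w hw) (by rw [← hb']; exact hb)
  refine ⟨g * f * g⁻¹, mul_mem (mul_mem hg hf) (inv_mem hg), fun u hu => ?_⟩
  show g (f (g⁻¹ u)) = _
  rw [hfu _ (hI _ (inv_mem hg) u hu), map_add, map_smul, inv_apply, inv_apply, ← hb']

omit [Finite G] in
theorem full_zero : Full h U 0 := by
  intro w _ _
  refine ⟨1, one_mem _, fun u _ => ?_⟩
  rw [map_zero, LinearMap.zero_apply, zero_smul, add_zero]; rfl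

omit [Finite G] in
theorem zmod_cases (k : ZMod 2) : k = 0 ∨ k = 1 := by revert k; decide

omit [Finite G] in
theorem Full.add (hI : Inv h U) {c c' : h.V} (hc : Full h U c)
    (hc' : Full h U c') : Full h U (c + c') := by
  by_cases h0 : ∀ u ∈ U, h.b c u = 0
  · exact Full.congr h hc' fun u hu => by rw [map_add, LinearMap.add_apply, h0 u hu, zero_add]
  by_cases h0' : ∀ u ∈ U, h.b c' u = 0
  · exact Full.congr h hc fun u hu => by rw [map_add, LinearMap.add_apply, h0' u hu, add_zero]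
  by_cases heq : ∀ u ∈ U, h.b c u = h.b c' u
  · exact Full.congr h (full_zero h) fun u hu => by
      rw [map_add, LinearMap.add_apply, heq u hu, map_zero, LinearMap.zero_apply,
        CharTwo.add_self_eq_zero]
  -- a vector `w` with `c w = 0`, `c' w = 1`, or the other way round
  have key : ∀ c c' : h.V, Full h U c → Full h U c' → (∃ w ∈ U, h.b c w = 0 ∧ h.b c' w = 1) →
      Full h U (c + c') := by
    rintro c c' hc hc' ⟨w, hw, h1, h2⟩
    obtain ⟨f, hf, hfu⟩ := hc w hw h1
    refine Full.congr h (Full.map h hI hc' (inv_mem hf)) fun u hu => ?_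
    have h3 : h.b (f⁻¹ c') u = h.b c' (f u) := by
      rw [← b_act' h hf (f⁻¹ c') u, inv_apply]
    rw [h3, hfu u hu, map_add, map_smul, h2, smul_eq_mul, mul_one, map_add, LinearMap.add_apply]
    exact add_comm _ _
  push Not at h0 h0' heq
  obtain ⟨u1, hu1, hne⟩ := heq
  rcases zmod_cases (h.b c u1) with e1 | e1 <;> rcases zmod_cases (h.b c' u1) with e2 | e2
  · exact absurd (e1.trans e2.symm) hne
  · exact key c c' hc hc' ⟨u1, hu1, e1, e2⟩
  · rw [add_comm]
    exact key c' c hc' hc ⟨u1, hu1, e2, e1⟩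
  · exact absurd (e1.trans e2.symm) hne

/-- `H` induces `GL(U)` on `U` -/
theorem gl_of_full (hI : Inv h U) (hmin : ∀ W : Submodule (ZMod 2) h.V, Inv h W → W ≤ U →
    W = ⊥ ∨ W = U) (hts : ∀ v ∈ U, h.q v = 0)
    (hp : ∀ v, (∀ u ∈ U, h.b u v = 0) → v ∈ U) {c : h.V} (hc : Full h U c) (hcU : c ∉ U) (s : U ≃ₗ[ZMod 2] U) :
    ∃ f ∈ h.act.range, ∀ u : U, f (u : h.V) = (s u : h.V) := by
  -- all vectors are full
  let F : Submodule (ZMod 2) h.V :=
    { carrier := {c | Full h U c}
      zero_mem' := full_zero h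
      add_mem' := fun {x y} hx hy => Full.add h hI hx hy
      smul_mem' := by
        intro k x hx
        rcases zmod_cases k with rfl | rfl
        · rw [zero_smul]; exact full_zero h
        · rw [one_smul]; exact hx }
  have hFI : Inv h F := fun f hf v hv => Full.map h hI hv hf
  have hUF : ∀ v, (∀ u ∈ U, h.b v u = 0) → v ∈ F := fun v hv =>
    Full.congr h (full_zero h) fun u hu => by
      rw [hv u hu, map_zero, LinearMap.zero_apply]
  have hall : ∀ v, v ∈ F := by
    let W := h.b.orthogonal F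
    have hWI : Inv h W := by
      intro f hf v hv
      rw [Perp.mem_perp] at hv ⊢
      intro w hw
      have h1 := hv (f⁻¹ w) (hFI _ (inv_mem hf) w hw)
      rw [← b_act' h hf (f⁻¹ w) v, inv_apply] at h1
      exact h1
    have hWU : W ≤ U := by
      intro v hv
      apply hp
      intro u hu
      rw [Perp.mem_perp] at hv
      exact hv u (hUF u fun u' hu' => b_eq_zero_of_ts h hts hu hu')
    rcases hmin W hWI hWU with h1 | h1
    · intro v
      apply Perp.mem_of_perp h F
      intro w hw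
      have h2 : w ∈ W := (Perp.mem_perp h F).2 hw
      rw [h1, Submodule.mem_bot] at h2
      rw [h2, map_zero, LinearMap.zero_apply]
    · exfalso
      apply hcU
      apply hp
      intro u hu
      have h2 : u ∈ W := by rw [h1]; exact hu
      rw [Perp.mem_perp] at h2
      rw [h.b_comm]
      exact h2 c hc
  -- hence all transvections are induced
  let S : Subgroup (U ≃ₗ[ZMod 2] U) :=
    { carrier := {s | ∃ f ∈ h.act.range, ∀ u : U, f (u : h.V) = (s u : h.V)}
      one_mem' := ⟨1, one_mem _, fun u => rfl⟩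
      mul_mem' := by
        rintro s t ⟨f, hf, hfs⟩ ⟨g, hg, hgt⟩
        refine ⟨f * g, mul_mem hf hg, fun u => ?_⟩
        show f (g u) = _
        rw [hgt, hfs]; rfl
      inv_mem' := by
        rintro s ⟨f, hf, hfs⟩
        refine ⟨f⁻¹, inv_mem hf, fun u => ?_⟩
        have h1 := hfs (s⁻¹ u)
        have h2 : s (s⁻¹ u) = u := s.apply_symm_apply u
        rw [h2] at h1
        rw [← h1, apply_inv] }
  refine mem_of_transvections S ?_ s
  intro φ v hφ
  obtain ⟨ψ, hψ⟩ := LinearMap.exists_extend φ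
  obtain ⟨c', hc'⟩ := h.exists_b_eq ψ
  have hc'' : ∀ u : U, h.b c' (u : h.V) = φ u := fun u => by
    rw [hc', ← hψ]; rfl
  obtain ⟨f, hf, hfu⟩ := hall c' v v.2 (by rw [hc'']; exact hφ)
  refine ⟨f, hf, fun u => ?_⟩
  rw [hfu u u.2, hc'', LinearEquiv.transvection.apply]
  rfl

end Case2

/-- [R6] the case (γ): `U ≰ ã^⊥` -/
theorem gamma_case [Finite G] (p : Pair Q z A a) (hO : O2 p.lz) {U : Submodule (ZMod 2) p.lz.V}
    (hU : MinInv p.lz U) (hts : ∀ v ∈ U, p.lz.q v = 0) (hn : ∃ u ∈ U, p.lz.b p.va u ≠ 0) :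
    GammaCase p U := by
  obtain ⟨u₀, hu, hne⟩ := hn
  have hb : p.lz.b p.va u₀ = 1 := (zmod_cases _).resolve_left hne
  have hI := hU.inv
  obtain ⟨hD, hV, hX⟩ := count p hI hts hu hb
  have hnm := notMem_of p hts hu hb
  have hp : ∀ v, (∀ u ∈ U, p.lz.b u v = 0) → v ∈ U := fun v hv => perp p.lz hts hV hv
  have hdec : ∀ u ∈ U, p.lz.b p.va u = 1 → ∃ u' ∈ U, p.lz.b p.va u' = 0 ∧ u = u₀ + u' := by
    intro u huU hb1
    refine ⟨u₀ + u, U.add_mem hu huU, ?_, ?_⟩
    · rw [map_add, hb, hb1]; exact CharTwo.add_self_eq_zero _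
    · rw [← add_assoc, p.lz.add_self, zero_add]
  have hfull : Full p.lz U p.va := by
    intro w hw hbw
    obtain ⟨f, hf, hfu⟩ := hX w hw hbw
    refine ⟨f, p.X_le_H hf, fun u huU => ?_⟩
    rcases zmod_cases (p.lz.b p.va u) with h0 | h1
    · rw [h0, zero_smul, add_zero]
      exact fix_of_perp p hI hnm hf huU h0
    · obtain ⟨u', hu', hb', rfl⟩ := hdec u huU h1
      rw [h1, one_smul, map_add, hfu, fix_of_perp p hI hnm hf hu' hb']
      abel
  have hfaith : ∀ f ∈ p.lz.act.range, (∀ u ∈ U, f u = u) → f = 1 := fun f hf hfU =>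
    faithful p.lz hO hI hp hf hfU
  refine ⟨⟨hI, hts, hp, gl_of_full p.lz hI hU.min hts hp hfull hnm, hfaith⟩,
    fun v hv hvD => disj p hI hnm hv hvD, hD, ?_⟩
  intro f
  constructor
  · intro hf
    exact ⟨p.X_le_H hf, fun u huU h0 => fix_of_perp p hI hnm hf huU h0⟩
  · rintro ⟨hf, hfix⟩
    have hw : f u₀ + u₀ ∈ U := U.add_mem (hI f hf u₀ hu) hu
    have hbw : p.lz.b p.va (f u₀ + u₀) = 0 := by
      by_contra hcon
      have h1 := (zmod_cases _).resolve_left hcon
      rw [map_add, hb] at h1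
      have h2 : p.lz.b p.va (f u₀) = 0 := add_eq_right.1 h1
      have h3 := hfix _ (hI f hf u₀ hu) h2
      have h4 : f u₀ = u₀ := f.injective h3
      rw [h4, hb] at h2
      exact absurd h2 (by decide)
    obtain ⟨x, hx, hxu⟩ := hX _ hw hbw
    have h5 : x u₀ = f u₀ := by
      rw [hxu, add_comm (f u₀), ← add_assoc, p.lz.add_self, zero_add]
    have h6 : x⁻¹ * f = 1 := by
      apply hfaith _ (mul_mem (inv_mem (p.X_le_H hx)) hf)
      intro u huU
      show x⁻¹ (f u) = u
      rcases zmod_cases (p.lz.b p.va u) with h0 | h1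
      · rw [hfix u huU h0]
        have h7 := fix_of_perp p hI hnm hx huU h0
        nth_rewrite 1 [← h7]
        exact apply_inv x u
      · obtain ⟨u', hu', hb', rfl⟩ := hdec u huU h1
        rw [map_add f, ← h5, hfix u' hu' hb', map_add, apply_inv]
        have h7 := fix_of_perp p hI hnm hx hu' hb'
        nth_rewrite 1 [← h7]
        rw [apply_inv]
    rw [inv_mul_eq_one] at h6
    rw [← h6]; exact hx

end Cfsg.Agent.LargeExtra.Red.Gamma
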