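import Cfsg.Agent.LargeExtra.Red.Sdata

/-!
# S1761, case II: (N3) `exists_sdata` (helper988)
-/

set_option autoImplicit false

namespace Cfsg.Agent.LargeExtra.Red

open Cfsg.Agent.Co2Type.Quad Cfsg.Agent.LargeExtra.Base Cfsg.Agent.LargeExtra.TwoCentral
open Cfsg.Agent.LargeExtra.Siegel Cfsg.Agent.LargeExtra.SiegelOrbit Cfsg.Agent.LargeExtra.Local

variable {G : Type*} [Group G] {Q A B Ba : Subgroup G} {z a : G}

section

variable [Finite G] {p : BPair Q z A a B Ba} (o : Off p)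
include o

theorem Off.exists_w {g : G} (hg : g * z * g⁻¹ = a) {b : G} (hb : b ∈ B) :
    ∃ w, ((⟨p.pair.lz.pr ⟨b, p.cB.le hb⟩, ⟨b, p.cB.le hb⟩, hb, rfl⟩, w) :
      sub p.pair.lz B × p.pair.lz.V) ∈ Gam o g hg := by
  have h1 := p.conj_mem hg hb
  have h2 : g * b * g⁻¹ ∈ Subgroup.centralizer ({z} : Set G) :=
    Subgroup.mem_centralizer_singleton_iff.2 (o.symm.comm _ h1)
  obtain ⟨w, hw, hw'⟩ := o.exists_sg (c := ⟨_, h2⟩) h1
  exact ⟨w, b, hb, hw, ⟨_, h2⟩, rfl, rfl, hw'⟩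

theorem Off.Gam_zero {g : G} {hg : g * z * g⁻¹ = a} {x : sub p.pair.lz B × p.pair.lz.V}
    (hx : x ∈ Gam o g hg) (h0 : x.1 = 0) : x.2 = 0 ∨ x.2 = p.pair.va := by
  obtain ⟨b, hb, hw, c, h1, h2, h3⟩ := hx
  rw [h0] at h1
  apply (sg_eq_one p.pair.lz (q_va p.pair) hw p.pair.va_ne).1
  rw [← h3]
  apply p.pair.lz.act_mem
  rw [h2]
  rcases p.pair.lz.pr_eq_zero.1 h1 with h4 | h4
  · have h5 : b = 1 := h4
    rw [h5]
    have : g * 1 * g⁻¹ = 1 := by group
    rw [this]; exact Q.one_mem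
  · have h5 : b = z := h4
    rw [h5, hg]; exact p.pair.a_mem

theorem Off.Gam_fst {g : G} {hg : g * z * g⁻¹ = a} {x : sub p.pair.lz B × p.pair.lz.V}
    (hx : x ∈ Gam o g hg) (h0 : x.2 = 0 ∨ x.2 = p.pair.va) : x.1 = 0 := by
  obtain ⟨b, hb, hw, c, h1, h2, h3⟩ := hx
  rw [(sg_eq_one p.pair.lz (q_va p.pair) hw p.pair.va_ne).2 h0] at h3
  have h4 := p.pair.lz.mem_of_act c h3
  have h5 : (c : G) ∈ Ba := by rw [h2]; exact p.conj_mem hg hb
  apply Subtype.ext
  rw [← h1]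
  apply p.pair.lz.pr_eq_zero.2
  rcases o.eq_of_mem h5 h4 with h6 | h6
  · left
    show b = 1
    rw [h2] at h6
    have : b = g⁻¹ * (g * b * g⁻¹) * g := by group
    rw [this, h6]; group
  · right
    show b = z
    rw [h2, ← hg] at h6
    exact (MulAut.conj g).injective h6

/-- **(N3)** -/
theorem Off.sdata : SData p.pair.lz (sub p.pair.lz B) p.pair.va (Wa p) where
  inv := inv_sub p.pair.lz p.cB
  q_a := q_va p.pair
  a_ne := p.pair.va_ne
  perp := fun v hv => o.perp hv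
  notMem := o.va_notMem
  a_mem := va_mem_Wa p
  perp' := fun w hw => ((mem_Wa p).1 hw).1
  sg_mem := by
    intro w hw
    obtain ⟨hw', c, hc, h1⟩ := (mem_Wa p).1 hw
    exact ⟨c, h1⟩
  orth := by
    intro w hw v hv
    obtain ⟨hw', c, hc, h1⟩ := (mem_Wa p).1 hw
    have hav := o.perp hv
    obtain ⟨x, hx, rfl⟩ := hv
    have h2 : p.pair.lz.act c (p.pair.lz.pr x) = p.pair.lz.pr x :=
      Pair.act_pr_coe p.pair.lz c x x (conj_eq_of_comm (o.comm_BBa hx hc).symm)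
    rw [h1, sg_perp _ _ _ hav] at h2
    rcases smul_eq_zero.1 (add_eq_left.1 h2) with h3 | h3
    · exact h3
    · exact absurd h3 p.pair.va_ne
  stab := by
    intro f hf hfa w hw
    obtain ⟨hw', c, hc, h1⟩ := (mem_Wa p).1 hw
    have hfO : f ∈ Cfsg.Agent.LieClassical.OrthCore.O (qf p.pair.lz) := range_le_O p.pair.lz hf
    obtain ⟨d, hd, rfl⟩ := p.pair.exists_lift hf hfa
    have h2 : p.pair.lz.b p.pair.va (p.pair.lz.act d w) = 0 := by
      nth_rewrite 1 [← hfa]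
      rw [p.pair.lz.b_act]; exact hw'
    refine (mem_Wa p).2 ⟨h2, d * c * d⁻¹, p.cBa.inv _ hd _ hc, ?_⟩
    have h3 : p.pair.lz.b (p.pair.lz.act d p.pair.va) (p.pair.lz.act d w) = 0 := by
      rw [hfa]; exact h2
    rw [map_mul, map_mul, map_inv, h1, sg_conj p.pair.lz hfO _ _ (by rw [hfa]; exact q_va p.pair) h3]
    exact sg_congr _ _ _ _ _ hfa rfl
  fix := by
    intro f hf hfa hfW w hw
    obtain ⟨hw', c, hc, h1⟩ := (mem_Wa p).1 hw
    have hfO : f ∈ Cfsg.Agent.LieClassical.OrthCore.O (qf p.pair.lz) := range_le_O p.pair.lz hf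
    obtain ⟨d, hd, rfl⟩ := p.pair.exists_lift hf hfa
    have hdz : (d : G) * z = z * d := Subgroup.mem_centralizer_singleton_iff.1 d.2
    have h2 : p.pair.lz.b p.pair.va (p.pair.lz.act d w) = 0 := by
      nth_rewrite 1 [← hfa]
      rw [p.pair.lz.b_act]; exact hw'
    have h3 : p.pair.lz.b (p.pair.lz.act d p.pair.va) (p.pair.lz.act d w) = 0 := by
      rw [hfa]; exact h2
    have h4 := o.conj_Ba hdz hd (fun b hb => by
      have h5 := hfW (p.pair.lz.pr ⟨b, p.cB.le hb⟩) ⟨⟨b, p.cB.le hb⟩, hb, rfl⟩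
      rw [p.pair.lz.act_pr, p.pair.lz.pr_eq_pr, p.pair.lz.conjQ_coe] at h5
      exact h5) hc
    have h5 : p.pair.lz.act (d * c * d⁻¹) = p.pair.lz.act c := by
      rw [← mul_inv_eq_one, ← map_inv, ← map_mul]
      apply p.pair.lz.act_mem
      show (d : G) * c * (d : G)⁻¹ * (c : G)⁻¹ ∈ Q
      rcases h4 with h4 | h4 <;> rw [h4]
      · rw [mul_inv_cancel]; exact Q.one_mem
      · have h6 : (c : G) * a = a * c := p.pair.la.comm_z _ (p.cBa.le hc)
        have : (c : G) * a * (c : G)⁻¹ = a := conj_eq_of_comm h6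
        rw [this]; exact p.pair.a_mem
    rw [map_mul, map_mul, map_inv, h1, sg_conj p.pair.lz hfO _ _ (by rw [hfa]; exact q_va p.pair) h3]
      at h5
    have h6 : sg p.pair.lz p.pair.va (p.pair.lz.act d w) (q_va p.pair) h2 =
        sg p.pair.lz p.pair.va w (q_va p.pair) hw' := by
      rw [← h5]
      exact sg_congr _ _ _ _ _ hfa.symm rfl
    exact eq_of_sg_eq p.pair.lz (q_va p.pair) hw' h2 p.pair.va_ne h6.symm
  iso := by
    obtain ⟨g, hg, hg1, -⟩ := exists_cycle p.pair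
    let π : Gam o g hg1 →ₗ[ZMod 2] sub p.pair.lz B :=
      (LinearMap.fst (ZMod 2) _ _).comp (Gam o g hg1).subtype
    have hπ : Function.Surjective π := by
      rintro ⟨v, x, hx, rfl⟩
      obtain ⟨w, hw⟩ := o.exists_w hg1 hx
      exact ⟨⟨_, hw⟩, rfl⟩
    obtain ⟨s, hs⟩ := π.exists_rightInverse_of_surjective (LinearMap.range_eq_top.2 hπ)
    have hs1 : ∀ v, ((s v : Gam o g hg1) : sub p.pair.lz B × p.pair.lz.V).1 = v := fun v => by
      have := congrArg (fun l : sub p.pair.lz B →ₗ[ZMod 2] sub p.pair.lz B => l v) hs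
      exact this
    let ι : sub p.pair.lz B →ₗ[ZMod 2] p.pair.lz.V :=
      (LinearMap.snd (ZMod 2) _ _).comp ((Gam o g hg1).subtype.comp s)
    have hι : ∀ v, (v, ι v) ∈ Gam o g hg1 := by
      intro v
      have h1 := (s v).2
      have h2 : ((s v : Gam o g hg1) : sub p.pair.lz B × p.pair.lz.V) = (v, ι v) :=
        Prod.ext (hs1 v) rfl
      rwa [h2] at h1
    refine ⟨ι, ?_, ?_, ?_⟩
    · intro v
      obtain ⟨b, hb, hw, c, h1, h2, h3⟩ := hι v
      rw [← show p.pair.lz.pr ⟨b, p.cB.le hb⟩ = (v : p.pair.lz.V) from h1]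
      exact o.q_eq hg1 hb h2 hw h3
    · intro w
      constructor
      · intro hw
        obtain ⟨hw', c, hc, h1⟩ := (mem_Wa p).1 hw
        have hb := (p.mem_iff hg1).1 hc
        refine ⟨⟨p.pair.lz.pr ⟨_, p.cB.le hb⟩, ⟨_, p.cB.le hb⟩, hb, rfl⟩, ?_⟩
        have h4 := hι ⟨p.pair.lz.pr ⟨_, p.cB.le hb⟩, ⟨_, p.cB.le hb⟩, hb, rfl⟩
        have h5 : ((⟨p.pair.lz.pr ⟨_, p.cB.le hb⟩, ⟨_, p.cB.le hb⟩, hb, rfl⟩, w) :
            sub p.pair.lz B × p.pair.lz.V) ∈ Gam o g hg1 :=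
          ⟨_, hb, hw', c, rfl, by group, h1⟩
        have h6 := o.Gam_zero ((Gam o g hg1).add_mem h4 h5) (by
          apply Subtype.ext
          exact p.pair.lz.add_self _)
        generalize (⟨p.pair.lz.pr ⟨_, p.cB.le hb⟩, ⟨_, p.cB.le hb⟩, hb, rfl⟩ :
          sub p.pair.lz B) = v at h6 ⊢
        have h7 : ι v + w = 0 ∨ ι v + w = p.pair.va := h6
        rcases h7 with h7 | h7
        · left
          calc w = ι v + (ι v + w) := by rw [← add_assoc, p.pair.lz.add_self, zero_add]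
            _ = ι v := by rw [h7, add_zero]
        · right
          calc w = ι v + (ι v + w) := by rw [← add_assoc, p.pair.lz.add_self, zero_add]
            _ = ι v + p.pair.va := by rw [h7]
      · rintro ⟨v, hv⟩
        have h1 : ι v ∈ Wa p := by
          obtain ⟨b, hb, hw, c, h1, h2, h3⟩ := hι v
          exact (mem_Wa p).2 ⟨hw, c, by rw [h2]; exact p.conj_mem hg1 hb, h3⟩
        rcases hv with rfl | rfl
        · exact h1
        · exact (Wa p).add_mem h1 (va_mem_Wa p)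
    · intro v hv
      exact o.Gam_fst (hι v) hv

end

/-- (N3) in terms of a pair and an invariant subgroup. -/
theorem exists_sdata [Finite G] (p : Pair Q z A a) (hB : CInv Q z B)
    (hperp : ∀ v ∈ sub p.lz B, p.lz.b p.va v = 0) (hn : p.va ∉ sub p.lz B) :
    ∃ Wa, SData p.lz (sub p.lz B) p.va Wa := by
  obtain ⟨Ba, bp⟩ := exists_bpair p hB
  have o : Off bp := by
    refine ⟨fun x hx => ?_, fun ha => ?_⟩
    · exact ((p.lz.b_pr _ _).1 (hperp (p.lz.pr ⟨x, hB.le hx⟩) ⟨⟨x, hB.le hx⟩, hx, rfl⟩)).symm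
    · exact hn ⟨⟨a, p.a_mem⟩, ha, rfl⟩
  exact ⟨_, o.sdata⟩

end Cfsg.Agent.LargeExtra.Red
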