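import Cfsg.Agent.LargeExtra.Red.Conj

/-!
# S1761, case II: invariant subspaces of `V` and invariant subgroups of `Q`; interfaces (helper988)

* `pre h U`: the preimage in `Q` (as a subgroup of `G`) of a subspace `U ≤ V`; `cinv_pre`, `sub_pre`.
* `MinInv h U`: `U` is a minimal invariant subspace; `exists_minInv`.
* `GLCase h U`: `U = U^⊥` totally singular, `H = GL(U)`, faithful.
* `GammaCase`, `AffCase`: outputs of the cases (γ), (A1).
-/

set_option autoImplicit false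

namespace Cfsg.Agent.LargeExtra.Red

open Cfsg.Agent.Co2Type.Quad Cfsg.Agent.LargeExtra.Base Cfsg.Agent.LargeExtra.TwoCentral
open Cfsg.Agent.LargeExtra.Siegel Cfsg.Agent.LargeExtra.SiegelOrbit Cfsg.Agent.LargeExtra.Local

variable {G : Type*} [Group G] {Q A : Subgroup G} {z a : G}

/-- the preimage of `U ≤ V` in `G` -/
def pre (h : Large Q z) (U : Submodule (ZMod 2) h.V) : Subgroup G where
  carrier := {x | ∃ y : Q, (y : G) = x ∧ h.pr y ∈ U}
  one_mem' := ⟨1, rfl, by rw [h.pr_one]; exact U.zero_mem⟩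
  mul_mem' := by
    rintro _ _ ⟨x, rfl, hx⟩ ⟨y, rfl, hy⟩
    exact ⟨x * y, rfl, by rw [h.pr_mul]; exact U.add_mem hx hy⟩
  inv_mem' := by
    rintro _ ⟨x, rfl, hx⟩
    exact ⟨x⁻¹, rfl, by rw [h.pr_inv]; exact U.neg_mem hx⟩

theorem mem_pre (h : Large Q z) {U : Submodule (ZMod 2) h.V} {x : G} :
    x ∈ pre h U ↔ ∃ y : Q, (y : G) = x ∧ h.pr y ∈ U := Iff.rfl

theorem coe_mem_pre (h : Large Q z) {U : Submodule (ZMod 2) h.V} (x : Q) :
    (x : G) ∈ pre h U ↔ h.pr x ∈ U := by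
  constructor
  · rintro ⟨y, hy, hyU⟩
    have : y = x := Subtype.ext hy
    rwa [← this]
  · intro hx
    exact ⟨x, rfl, hx⟩

theorem pre_le (h : Large Q z) (U : Submodule (ZMod 2) h.V) : pre h U ≤ Q := by
  rintro _ ⟨x, rfl, -⟩
  exact x.2

theorem z_mem_pre (h : Large Q z) (U : Submodule (ZMod 2) h.V) : z ∈ pre h U :=
  ⟨⟨z, h.z_mem⟩, rfl, by rw [h.pr_eq_zero.2 (Or.inr rfl)]; exact U.zero_mem⟩

theorem sub_pre (h : Large Q z) (U : Submodule (ZMod 2) h.V) : sub h (pre h U) = U := by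
  ext v
  constructor
  · rintro ⟨x, hx, rfl⟩
    exact (coe_mem_pre h x).1 hx
  · intro hv
    obtain ⟨x, rfl⟩ := h.pr_surjective v
    exact ⟨x, (coe_mem_pre h x).2 hv, rfl⟩

theorem pre_sub (h : Large Q z) {B : Subgroup G} (hB : B ≤ Q) (hz : z ∈ B) : pre h (sub h B) = B := by
  ext x
  constructor
  · rintro ⟨y, rfl, hy⟩
    exact (pr_mem_sub h hz y).1 hy
  · intro hx
    exact ⟨⟨x, hB hx⟩, rfl, ⟨x, hB hx⟩, hx, rfl⟩

theorem cinv_pre (h : Large Q z) {U : Submodule (ZMod 2) h.V} (hU : Inv h U) : CInv Q z (pre h U) where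
  le := pre_le h U
  z_mem := z_mem_pre h U
  inv := by
    rintro c hc _ ⟨x, rfl, hx⟩
    have hcC : c ∈ Subgroup.centralizer ({z} : Set G) := Subgroup.mem_centralizer_singleton_iff.2 hc
    refine ⟨h.conjQ ⟨c, hcC⟩ x, rfl, ?_⟩
    rw [← h.act_pr]
    exact hU _ ⟨⟨c, hcC⟩, rfl⟩ _ hx

theorem card_pre [Finite Q] (h : Large Q z) (U : Submodule (ZMod 2) h.V) :
    Nat.card (pre h U) = 2 * Nat.card U := by
  have h1 := card_sub h (z_mem_pre h U)
  rw [sub_pre, inf_eq_left.2 (pre_le h U)] at h1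
  exact h1

/-- `x² = 1` for `x` in the preimage of a totally singular subspace -/
theorem sq_of_mem_pre (h : Large Q z) {U : Submodule (ZMod 2) h.V} (hq : ∀ v ∈ U, h.q v = 0) {x : G}
    (hx : x ∈ pre h U) : x * x = 1 := by
  obtain ⟨y, rfl, hy⟩ := hx
  exact h.q_eq_zero.1 (hq _ hy)

theorem b_eq_zero_of_ts (h : Large Q z) {U : Submodule (ZMod 2) h.V} (hq : ∀ v ∈ U, h.q v = 0)
    {u v : h.V} (hu : u ∈ U) (hv : v ∈ U) : h.b u v = 0 := by
  have h1 := h.q_add' u v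
  rw [hq _ (U.add_mem hu hv), hq u hu, hq v hv, zero_add, zero_add] at h1
  exact h1.symm

/-- a minimal invariant subspace -/
structure MinInv (h : Large Q z) (U : Submodule (ZMod 2) h.V) : Prop where
  inv : Inv h U
  ne_bot : U ≠ ⊥
  min : ∀ W : Submodule (ZMod 2) h.V, Inv h W → W ≤ U → W = ⊥ ∨ W = U

theorem exists_minInv [Finite Q] (h : Large Q z) {U : Submodule (ZMod 2) h.V} (hU : Inv h U)
    (h0 : U ≠ ⊥) : ∃ W ≤ U, MinInv h W := by
  classical
  have hfin : Finite h.V := Finite.of_surjective _ h.pr_surjective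
  have hfs : Finite (Submodule (ZMod 2) h.V) :=
    Finite.of_injective (fun W : Submodule (ZMod 2) h.V => (W : Set h.V)) SetLike.coe_injective
  let S : Set (Submodule (ZMod 2) h.V) := {W | Inv h W ∧ W ≠ ⊥ ∧ W ≤ U}
  obtain ⟨W, hW⟩ := (Set.toFinite S).exists_minimal ⟨U, hU, h0, le_rfl⟩
  refine ⟨W, hW.1.2.2, hW.1.1, hW.1.2.1, ?_⟩
  intro W' hW' hle
  by_cases hb : W' = ⊥
  · exact Or.inl hb
  · exact Or.inr (le_antisymm hle (hW.2 ⟨hW', hb, hle.trans hW.1.2.2⟩ hle))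

/-- `U` is a maximal totally singular subspace, `U = U^⊥`, and `H = GL(U)` faithfully. -/
structure GLCase (h : Large Q z) (U : Submodule (ZMod 2) h.V) : Prop where
  inv : Inv h U
  ts : ∀ v ∈ U, h.q v = 0
  perp : ∀ v, (∀ u ∈ U, h.b u v = 0) → v ∈ U
  gl : ∀ s : U ≃ₗ[ZMod 2] U, ∃ f ∈ h.act.range, ∀ u : U, f (u : h.V) = (s u : h.V)
  faithful : ∀ f ∈ h.act.range, (∀ u ∈ U, f u = u) → f = 1

/-- output of case (γ): `U ≰ ã^⊥` -/
structure GammaCase (p : Pair Q z A a) (U : Submodule (ZMod 2) p.lz.V) : Prop where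
  gl : GLCase p.lz U
  disj : ∀ v ∈ U, v ∈ p.D → v = 0
  card_D : Nat.card p.D = Nat.card U
  /-- `X` is the group of all transvections of `U` with axis `U ∩ ã^⊥` -/
  mem_X : ∀ f, f ∈ p.X ↔ (f ∈ p.H ∧ ∀ u ∈ U, p.lz.b p.va u = 0 → f u = u)

/-- output of case (A1): `E = pre U` is self-centralising, TI, `N(E)/E = Aut(E)`, `E# ⊆ z^G`. -/
structure AffCase (h : Large Q z) (U : Submodule (ZMod 2) h.V) : Prop where
  gl : GLCase h U
  cent : ∀ x : G, (∀ y ∈ pre h U, x * y = y * x) → x ∈ pre h U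
  aut : ∀ σ : MulAut (pre h U), ∃ x : G, ∀ e : pre h U, x * (e : G) * x⁻¹ = ((σ e : pre h U) : G)
  conj : ∀ e ∈ pre h U, e ≠ 1 → IsConj z e
  ti : ∀ e ∈ pre h U, e ≠ 1 → ∀ g : G, g * e * g⁻¹ ∈ pre h U →
    g ∈ Subgroup.normalizer ((pre h U : Subgroup G) : Set G)

end Cfsg.Agent.LargeExtra.Red
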