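import Cfsg.Agent.LargeExtra.Red.NSeven
import Cfsg.Agent.LargeExtra.Red.Nthree
import Cfsg.Agent.LargeExtra.Red.Pre

/-!
# S1761, case II: (N7), final form (helper539)
-/

set_option autoImplicit false

namespace Cfsg.Agent.LargeExtra.Red.NSevenB

open Cfsg.Agent.Co2Type.Quad Cfsg.Agent.LargeExtra.Base Cfsg.Agent.LargeExtra.TwoCentral
open Cfsg.Agent.LargeExtra.Siegel Cfsg.Agent.LargeExtra.SiegelOrbit Cfsg.Agent.LargeExtra.Local

variable {G : Type*} [Group G] {Q A : Subgroup G} {z a : G}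

/-- (N3) for an invariant subspace. -/
theorem exists_sdata_inv [Finite G] (p : Pair Q z A a) {W : Submodule (ZMod 2) p.lz.V} (hW : Inv p.lz W)
    (hperp : ∀ v ∈ W, p.lz.b p.va v = 0) (hn : p.va ∉ W) : ∃ Wa, SData p.lz W p.va Wa := by
  have h := exists_sdata p (cinv_pre p.lz hW) (by rw [sub_pre]; exact hperp) (by rw [sub_pre]; exact hn)
  rwa [sub_pre] at h

/-- **(N7)**, final form. -/
theorem n7 [Finite G] (p : Pair Q z A a) (hT : NoFix p.lz) (hO : O2 p.lz) (hV : 64 ≤ Nat.card p.lz.V)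
    {U : Submodule (ZMod 2) p.lz.V} (hU : MinInv p.lz U) (hne : U ≠ ⊤) :
    (∀ v ∈ U, p.lz.q v = 0) ∧ (p.va ∈ U ∨ ∃ u ∈ U, p.lz.b p.va u ≠ 0) := by
  have h := NSeven.n7 p hO hT (fun W hW h1 h2 => exists_sdata_inv p hW h1 h2) (by omega) hU.inv hU.ne_bot hne
    hU.min
  refine ⟨h.1, h.2.imp id ?_⟩
  rintro ⟨u, hu, h1⟩
  exact ⟨u, hu, by rw [h1]; decide⟩

end Cfsg.Agent.LargeExtra.Red.NSevenB
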