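import Cfsg.Agent.LargeExtra.Red.Pre
import Cfsg.Agent.LargeExtra.SixMinus
import Cfsg.Agent.Held.HeldTri
import Cfsg.Agent.SylowL5.Coords
import Cfsg.Prelude.Def_Spor_Mathieu

/-!
# S1761, case II, `w = 3`: from `GLCase` to the theorem on `2^(1+6).L₃(2)` (helper356)

* `rangeEquiv`: in the case `GLCase h U`, `H ≃* GL(U)`.
* `exists_sl`: `C_G(z) / Q' ≃* SL (Fin n) (ZMod 2)` for `|U| = 2 ^ n`.
* `w_three`: the conclusion of S1761 for `n = 3` from S1716 and helper246's `equiv_of_simple`.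
-/

set_option autoImplicit false

namespace Cfsg.Agent.LargeExtra.Red.WThree

open Cfsg.Agent.Co2Type.Quad Cfsg.Agent.LargeExtra.Base
open Cfsg.Agent.LargeExtra.Siegel Cfsg.Agent.LargeExtra.SiegelOrbit

/-- over the field with two elements `SL = GL` -/
noncomputable def slEquivGL (n : ℕ) :
    Matrix.SpecialLinearGroup (Fin n) (ZMod 2) ≃* Matrix.GeneralLinearGroup (Fin n) (ZMod 2) :=
  MulEquiv.ofBijective Matrix.SpecialLinearGroup.toGL ⟨Matrix.SpecialLinearGroup.toGL_injective, by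
    intro g
    have hd : (g : Matrix (Fin n) (Fin n) (ZMod 2)).det = 1 := by
      have h2 : IsUnit (g : Matrix (Fin n) (Fin n) (ZMod 2)).det :=
        (Matrix.isUnit_iff_isUnit_det _).1 g.isUnit
      have h3 : ∀ x : ZMod 2, IsUnit x → x = 1 := by decide
      exact h3 _ h2
    refine ⟨⟨g, hd⟩, ?_⟩
    ext i j
    rfl⟩

/-- `GL(U) ≃* SL (Fin n) (ZMod 2)` -/
theorem exists_equiv {U : Type*} [AddCommGroup U] [Module (ZMod 2) U] [Finite U] {n : ℕ}
    (hU : Nat.card U = 2 ^ n) :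
    Nonempty ((U ≃ₗ[ZMod 2] U) ≃* Matrix.SpecialLinearGroup (Fin n) (ZMod 2)) := by
  have hfd : FiniteDimensional (ZMod 2) U := Module.Finite.of_finite
  have hdim : Module.finrank (ZMod 2) U = n := by
    have h1 := Module.natCard_eq_pow_finrank (K := ZMod 2) (V := U)
    rw [hU, Nat.card_zmod] at h1
    exact (Nat.pow_right_injective (le_refl 2) h1).symm
  let B := Module.finBasisOfFinrankEq (ZMod 2) U hdim
  exact ⟨((LinearMap.GeneralLinearGroup.generalLinearEquiv (ZMod 2) U).symm.trans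
    (Units.mapEquiv (LinearMap.toMatrixAlgEquiv B).toMulEquiv)).trans (slEquivGL n).symm⟩

section

variable {G : Type*} [Group G] {Q : Subgroup G} {z : G}

theorem map_eq {h : Large Q z} {U : Submodule (ZMod 2) h.V} (hinv : Inv h U)
    {f : h.V ≃ₗ[ZMod 2] h.V} (hf : f ∈ h.act.range) : U.map (f : h.V →ₗ[ZMod 2] h.V) = U := by
  apply le_antisymm
  · rintro _ ⟨v, hv, rfl⟩
    exact hinv f hf v hv
  · intro v hv
    refine ⟨f⁻¹ v, hinv _ (h.act.range.inv_mem hf) v hv, ?_⟩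
    exact f.apply_symm_apply v

/-- restriction to the invariant subspace `U` -/
noncomputable def res {h : Large Q z} {U : Submodule (ZMod 2) h.V} (hinv : Inv h U) :
    h.act.range →* (U ≃ₗ[ZMod 2] U) where
  toFun f := (f : h.V ≃ₗ[ZMod 2] h.V).ofSubmodules U U (map_eq hinv f.2)
  map_one' := by
    ext v
    rfl
  map_mul' f g := by
    ext v
    rfl

theorem res_apply {h : Large Q z} {U : Submodule (ZMod 2) h.V} (hinv : Inv h U) (f : h.act.range)
    (u : U) : ((res hinv f u : U) : h.V) = (f : h.V ≃ₗ[ZMod 2] h.V) u := rfl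

/-- `H ≃* GL(U)` -/
noncomputable def rangeEquiv {h : Large Q z} {U : Submodule (ZMod 2) h.V} (gl : GLCase h U) :
    h.act.range ≃* (U ≃ₗ[ZMod 2] U) :=
  MulEquiv.ofBijective (res gl.inv) ⟨by
    rw [injective_iff_map_eq_one]
    intro f hf
    apply Subtype.ext
    refine gl.faithful f f.2 fun u hu => ?_
    have := congrArg (fun s : U ≃ₗ[ZMod 2] U => ((s ⟨u, hu⟩ : U) : h.V)) hf
    exact this, by
    intro s
    obtain ⟨f, hf, hs⟩ := gl.gl s
    refine ⟨⟨f, hf⟩, ?_⟩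
    ext u
    exact hs u⟩

/-- `C_G(z) / Q' ≃* SL (Fin n) (ZMod 2)` -/
theorem exists_sl [Finite G] {h : Large Q z} {U : Submodule (ZMod 2) h.V} (gl : GLCase h U) {n : ℕ}
    (hU : Nat.card U = 2 ^ n) (Q' : Subgroup (Subgroup.centralizer ({z} : Set G))) [Q'.Normal]
    (hQ' : Q'.map (Subgroup.centralizer ({z} : Set G)).subtype = Q) :
    Nonempty ((Subgroup.centralizer ({z} : Set G)) ⧸ Q' ≃*
      Matrix.SpecialLinearGroup (Fin n) (ZMod 2)) := by
  have hfin : Finite h.V := Finite.of_surjective _ h.pr_surjective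
  obtain ⟨e1⟩ := SixMinus.quotient_equiv h Q' hQ'
  obtain ⟨e2⟩ := exists_equiv hU
  exact ⟨(e1.trans (rangeEquiv gl)).trans e2⟩

end

/-- The case `w = 3` of S1761: `H1` is `Held.ExtFinal.equiv_of_simple` (helper246), `H2` is S1716. -/
theorem w_three {G : Type*} [Group G] [Finite G] [IsSimpleGroup G] (z : G) (hz : orderOf z = 2)
    (hE : Cfsg.IsExtraspecial 2 ↥(Cfsg.generalizedFittingSubgroup ↥(Subgroup.centralizer ({z} : Set G))))
    (hcard : Nat.card ↥(Cfsg.generalizedFittingSubgroup ↥(Subgroup.centralizer ({z} : Set G))) = 2 ^ 7)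
    {U : Submodule (ZMod 2) (large_of_genFitting z hz hE).V} (gl : GLCase (large_of_genFitting z hz hE) U)
    (hU : Nat.card U = 8)
    (s : Matrix.SpecialLinearGroup (Fin 5) (ZMod 2))
    (H1 : ∀ (Q' : Subgroup (Subgroup.centralizer ({z} : Set G))) [Q'.Normal],
      Cfsg.IsExtraspecial 2 Q' → Nat.card Q' = 2 ^ 7 →
      Subgroup.centralizer (Q' : Set (Subgroup.centralizer ({z} : Set G))) ≤ Q' →
      ((Subgroup.centralizer ({z} : Set G)) ⧸ Q' ≃* Matrix.SpecialLinearGroup (Fin 3) (ZMod 2)) →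
      Nonempty (Subgroup.centralizer ({z} : Set G) ≃*
        Subgroup.centralizer ({s} : Set (Matrix.SpecialLinearGroup (Fin 5) (ZMod 2)))))
    (H2 : (Subgroup.centralizer ({z} : Set G) ≃*
        Subgroup.centralizer ({s} : Set (Matrix.SpecialLinearGroup (Fin 5) (ZMod 2)))) →
      Held.HeldTri.Tetra G) :
    (∃ (F : Type) (_ : Field F) (_ : Fintype F), Fintype.card F = 2 ∧
      Nonempty (G ≃* Matrix.ProjectiveSpecialLinearGroup (Fin 5) F)) ∨
      Cfsg.Spor.IsoM24 G ∨ Cfsg.Spor.IsoHe G := by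
  have hn := Cfsg.Agent.S1755.gfs_normal (Subgroup.centralizer ({z} : Set G))
  have hcc := Cfsg.Agent.S1313.centralizer_le (Subgroup.centralizer ({z} : Set G))
  obtain ⟨e⟩ := exists_sl gl (n := 3) (by rw [hU]; norm_num)
    (Cfsg.generalizedFittingSubgroup (Subgroup.centralizer ({z} : Set G))) rfl
  obtain ⟨f⟩ := H1 _ hE hcard hcc e
  rcases Held.HeldTri.tetra_simple (H2 f) with ⟨⟨k⟩⟩ | ⟨⟨k⟩⟩ | h1
  · exact Or.inl ⟨ZMod 2, inferInstance, inferInstance, ZMod.card 2,
      ⟨k.trans Cfsg.Agent.SylowL5.Coords.pslTwo.symm⟩⟩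
  · exact Or.inr (Or.inl ⟨k⟩)
  · exact Or.inr (Or.inr h1)

end Cfsg.Agent.LargeExtra.Red.WThree
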