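import Cfsg.Agent.LargeExtra.Red.XOne
import Cfsg.Agent.LargeExtra.Red.Close

/-!
# S1761, case II, (X1) without Goldschmidt's theorem (helper988)
-/

set_option autoImplicit false

namespace Cfsg.Agent.LargeExtra.Red.XOneClose

open Cfsg.Agent.Co2Type.Quad Cfsg.Agent.LargeExtra.Base Cfsg.Agent.LargeExtra.TwoCentral
open Cfsg.Agent.LargeExtra.Siegel Cfsg.Agent.LargeExtra.SiegelOrbit Cfsg.Agent.LargeExtra.Local
open Cfsg.Agent.LargeExtra.Red Cfsg.Agent.LargeExtra.Red.XOne Cfsg.Agent.LargeExtra.Red.Close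

universe u

variable {G : Type u} [Group G] {Q : Subgroup G} {z : G}

/-- (X1): contradiction -/
theorem x_one [Finite G] [IsSimpleGroup G] (h : Large Q z) {U : Submodule (ZMod 2) h.V}
    (aff : AffCase h U) (hc : 16 ≤ Nat.card U)
    (hD : ∀ g, g * z * g⁻¹ ∈ Q → g * z * g⁻¹ ∈ pre h U) : False := by
  obtain ⟨t, htQ, htt, htU⟩ := exists_involution h aff.gl (by omega)
  have H := XOne.hyp h aff hc hD
  have hC : CHyp (pre h U) z :=
    { ti := H.ti, card := by have := H.card; omega, conj := H.conj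
      mem := fun t ht hzt => H.mem ht hzt }
  refine hC.false_of_simple (mem_normalizer h aff.gl.inv (h.comm_z t htQ)) htt htU ?_
  refine ⟨z, z_mem_pre h U, h.z_ne, ?_⟩
  intro a ha
  have haQ : a ∈ Q := by
    obtain ⟨⟨x, hx⟩, rfl, -⟩ := ha
    exact hx
  have haa : a * a = 1 := H.ti.sq a ha
  rcases h.comm t htQ a haQ with h1 | h1
  · left
    rw [h1, mul_inv_cancel_right, haa]
  · right
    have htz : t * z = z * t := h.comm_z t htQ
    calc a * (t * a * t⁻¹) = a * (a * t * z * t⁻¹) := by rw [h1]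
      _ = (a * a) * (t * z * t⁻¹) := by group
      _ = z := by rw [haa, htz, one_mul, mul_inv_cancel_right]

end Cfsg.Agent.LargeExtra.Red.XOneClose
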