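import Cfsg.Agent.LargeExtra.Red.Glue
import Cfsg.Agent.LargeExtra.Red.XOneClose
import Cfsg.Agent.LargeExtra.Red.NSevenB
import Cfsg.Agent.LargeExtra.Red.Gamma
import Cfsg.Agent.LargeExtra.Red.Alpha1
import Cfsg.Agent.LargeExtra.Red.Alpha2
import Cfsg.Agent.LargeExtra.Red.WThree
import Cfsg.Agent.LargeExtra.GLRecMain
import Cfsg.Agent.LargeExtra.WCIrr

/-!
# Assembly of S1761 (helper988)
-/

set_option autoImplicit false

namespace Cfsg.Agent.LargeExtra.Red.Final

open Cfsg.Agent.Co2Type.Quad Cfsg.Agent.LargeExtra.Base Cfsg.Agent.LargeExtra.TwoCentral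
open Cfsg.Agent.LargeExtra.Siegel Cfsg.Agent.LargeExtra.SiegelOrbit Cfsg.Agent.LargeExtra.Local
open Cfsg.Agent.LargeExtra.Red

variable {G : Type*} [Group G] {Q A : Subgroup G} {z a : G}

theorem index_ne_two [Finite G] [IsSimpleGroup G] (h4 : 2 < Nat.card G) (H : Subgroup G) :
    H.index ≠ 2 := by
  intro h2
  have hn : H.Normal := Subgroup.normal_of_index_eq_two h2
  rcases hn.eq_bot_or_eq_top with h | h
  · rw [h, Subgroup.index_bot] at h2
    omega
  · rw [h, Subgroup.index_top] at h2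
    exact absurd h2 (by norm_num)

/-- All the steps. -/
theorem steps_of [Finite G] [IsSimpleGroup G] (h : Large Q z) (hO : O2 h)
    (hV : 64 ≤ Nat.card h.V) : Steps h := by
  have hQ : Nat.card Q = 2 * Nat.card h.V := h.card_eq
  have hG : ∀ H : Subgroup G, H.index ≠ 2 :=
    index_ne_two (lt_of_lt_of_le (by omega) (Subgroup.card_le_card_group Q))
  have hT : NoFix h := noFix hG h (by omega)
  exact
  { n7 := fun A a p U hU hne => NSevenB.n7 p hT hO hV hU hne
    gamma := fun A a p U hU hts hn => Gamma.gamma_case p hO hU hts hn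
    aff := fun A a p U hU hts _ hN => aff_case p hO hU hts hN
    two := fun A a p U hU hts hm hN => alpha_two p hO hU hts hm hN
    x1 := fun U aff hc hD => XOneClose.x_one h aff hc hD }

/-- identification of `GL_{n+2}(2)` -/
theorem glrec_of_aff [Finite G] [IsSimpleGroup G] (h : Large Q z) {U : Submodule (ZMod 2) h.V}
    (aff : AffCase h U) {n : ℕ} (hn : 4 ≤ n) (hU : Nat.card U = 2 ^ n) :
    Nonempty (G ≃* Matrix.ProjectiveSpecialLinearGroup (Fin (n + 2)) (ZMod 2)) := by
  refine GLRec.glrec (pre h U) (n + 1) (by omega) ?_ (fun a ha => sq_of_mem_pre h aff.gl.ts ha)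
    aff.cent ?_ ?_ (fun e => aff.aut e)
  · rw [card_pre, hU, pow_succ]; ring
  · intro htop
    have hnorm : (pre h U).Normal := Subgroup.normalizer_eq_top_iff.1 htop
    rcases hnorm.eq_bot_or_eq_top with h1 | h1
    · have := z_mem_pre h U
      rw [h1, Subgroup.mem_bot] at this
      exact h.z_ne this
    · obtain ⟨t, -, -, ht⟩ := XOne.exists_involution h aff.gl (by
        rw [hU]; exact Nat.one_lt_two_pow (by omega))
      exact ht (by rw [h1]; trivial)
  · intro a ha ha1 g hg
    apply aff.ti a ha ha1 g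
    rw [hg, mul_inv_cancel_right]; exact ha

/-- **S1761** modulo the classification for `n = 3` of the simple groups with an involution centralizer
`2^(1+6).L₃(2)`. -/
theorem final_of [Finite G] [IsSimpleGroup G] (z : G) (hz : orderOf z = 2)
    (hE : Cfsg.IsExtraspecial 2 ↥(Cfsg.generalizedFittingSubgroup ↥(Subgroup.centralizer ({z} : Set G))))
    (n : ℕ) (hn : 3 ≤ n)
    (hcard : Nat.card ↥(Cfsg.generalizedFittingSubgroup ↥(Subgroup.centralizer ({z} : Set G))) =
      2 ^ (2 * n + 1))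
    (H3 : (∃ a b : G, a * b ≠ b * a) →
      ∀ (Q' : Subgroup (Subgroup.centralizer ({z} : Set G))) [Q'.Normal],
      Cfsg.IsExtraspecial 2 Q' → Nat.card Q' = 2 ^ 7 →
      Subgroup.centralizer (Q' : Set (Subgroup.centralizer ({z} : Set G))) ≤ Q' →
      ((Subgroup.centralizer ({z} : Set G)) ⧸ Q' ≃* Matrix.SpecialLinearGroup (Fin 3) (ZMod 2)) →
      Nonempty (G ≃* Matrix.SpecialLinearGroup (Fin 5) (ZMod 2)) ∨ Nonempty (G ≃* Cfsg.M24) ∨
      Cfsg.Spor.IsoHe G) :
    (∃ (F : Type) (_ : Field F) (_ : Fintype F), Fintype.card F = 2 ∧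
        Nonempty (G ≃* Matrix.ProjectiveSpecialLinearGroup (Fin (n + 2)) F)) ∨
      (n = 3 ∧ (Cfsg.Spor.IsoM24 G ∨ Cfsg.Spor.IsoHe G)) ∨
      (∀ A : Subgroup ↥(Subgroup.centralizer ({z} : Set G)), A.Normal →
        Subgroup.zpowers (⟨z, Subgroup.mem_centralizer_singleton_iff.mpr rfl⟩ :
          ↥(Subgroup.centralizer ({z} : Set G))) ≤ A →
        A ≤ Cfsg.generalizedFittingSubgroup ↥(Subgroup.centralizer ({z} : Set G)) →
        A = Subgroup.zpowers (⟨z, Subgroup.mem_centralizer_singleton_iff.mpr rfl⟩ :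
          ↥(Subgroup.centralizer ({z} : Set G))) ∨
        A = Cfsg.generalizedFittingSubgroup ↥(Subgroup.centralizer ({z} : Set G))) := by
  classical
  by_cases hwc : ∀ g : G, g * z * g⁻¹ ∈ (Cfsg.generalizedFittingSubgroup
      ↥(Subgroup.centralizer ({z} : Set G))).map (Subgroup.centralizer ({z} : Set G)).subtype →
      g * z * g⁻¹ = z
  · right; right
    exact fun A hA h1 h2 => WCIrr.irreducible_of_fstar z hz hE n hn hcard hwc A hA h1 h2
  by_cases hirr : ∀ A : Subgroup ↥(Subgroup.centralizer ({z} : Set G)), A.Normal →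
        Subgroup.zpowers (⟨z, Subgroup.mem_centralizer_singleton_iff.mpr rfl⟩ :
          ↥(Subgroup.centralizer ({z} : Set G))) ≤ A →
        A ≤ Cfsg.generalizedFittingSubgroup ↥(Subgroup.centralizer ({z} : Set G)) →
        A = Subgroup.zpowers (⟨z, Subgroup.mem_centralizer_singleton_iff.mpr rfl⟩ :
          ↥(Subgroup.centralizer ({z} : Set G))) ∨
        A = Cfsg.generalizedFittingSubgroup ↥(Subgroup.centralizer ({z} : Set G))
  · right; right; exact hirr
  push Not at hwc hirr
  obtain ⟨g, hg, hgz⟩ := hwc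
  obtain ⟨B, hBn, hzB, hBQ, hB1, hB2⟩ := hirr
  have h := large_of_genFitting z hz hE
  set Q := (Cfsg.generalizedFittingSubgroup ↥(Subgroup.centralizer ({z} : Set G))).map
      (Subgroup.centralizer ({z} : Set G)).subtype with hQdef
  have hQ : Nat.card Q = 2 ^ (2 * n + 1) := by
    rw [← hcard]
    exact Subgroup.card_map_of_injective (Subgroup.subtype_injective _)
  have hVQ : Nat.card Q = 2 * Nat.card h.V := h.card_eq
  have hV : Nat.card h.V = 2 ^ (2 * n) := by
    rw [hQ, pow_succ] at hVQ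
    omega
  have p := pair_of_conj h hg hgz
  have hO : O2 h := o2_of_genFitting h hQdef
  -- the invariant subspace
  set B' := B.map (Subgroup.centralizer ({z} : Set G)).subtype with hB'
  have hzB' : (⟨z, Subgroup.mem_centralizer_singleton_iff.mpr rfl⟩ :
      ↥(Subgroup.centralizer ({z} : Set G))) ∈ B := hzB (Subgroup.mem_zpowers _)
  have hc : CInv Q z B' :=
    { le := Subgroup.map_mono hBQ
      z_mem := ⟨_, hzB', rfl⟩
      inv := by
        rintro c hc _ ⟨x, hx, rfl⟩
        exact ⟨⟨c, Subgroup.mem_centralizer_singleton_iff.2 hc⟩ * x *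
          ⟨c, Subgroup.mem_centralizer_singleton_iff.2 hc⟩⁻¹, hBn.conj_mem x hx _, rfl⟩ }
  have hi := inv_sub h hc
  have h0 : sub h B' ≠ ⊥ := by
    intro hbot
    apply hB1
    apply le_antisymm _ hzB
    intro x hx
    have hxB : (x : G) ∈ B' := ⟨x, hx, rfl⟩
    have h1 : h.pr ⟨x, hc.le hxB⟩ ∈ sub h B' := ⟨_, hxB, rfl⟩
    rw [hbot, Submodule.mem_bot] at h1
    rcases h.pr_eq_zero.1 h1 with h2 | h2
    · have : x = 1 := Subtype.ext h2
      rw [this]; exact one_mem _
    · have : x = ⟨z, Subgroup.mem_centralizer_singleton_iff.mpr rfl⟩ := Subtype.ext h2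
      rw [this]; exact Subgroup.mem_zpowers _
  have h1 : sub h B' ≠ ⊤ := by
    intro htop
    apply hB2
    apply Subgroup.map_injective (Subgroup.subtype_injective _)
    apply le_antisymm (Subgroup.map_mono hBQ)
    intro x hx
    have h2 : h.pr ⟨x, hx⟩ ∈ sub h B' := by rw [htop]; trivial
    exact (pr_mem_sub h hc.z_mem ⟨x, hx⟩).1 h2
  by_cases h3 : n = 3
  · subst h3
    have S := steps_of h hO (by rw [hV]; norm_num)
    obtain ⟨U, gl, hU⟩ := S.caseII_three (by rw [hV]; norm_num) p hi h0 h1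
    have hn' := Cfsg.Agent.S1755.gfs_normal (Subgroup.centralizer ({z} : Set G))
    have hcc := Cfsg.Agent.S1313.centralizer_le (Subgroup.centralizer ({z} : Set G))
    obtain ⟨e⟩ := WThree.exists_sl gl (n := 3) (by rw [hU]; norm_num)
      (Cfsg.generalizedFittingSubgroup (Subgroup.centralizer ({z} : Set G))) rfl
    have hna : ∃ a b : G, a * b ≠ b * a := by
      by_contra hcon
      push Not at hcon
      have hall : ∀ a b : Q, a * b = b * a := fun a b => Subtype.ext (hcon a b)
      have hle : Nat.card Q ≤ 2 := by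
        have h4 : (Q : Set G) ⊆ {1, z} := by
          intro x hx
          simp only [Set.mem_insert_iff, Set.mem_singleton_iff]
          exact h.cent x hx fun y _ => hcon x y
        calc Nat.card Q ≤ Nat.card ({1, z} : Set G) := Nat.card_mono (Set.toFinite _) h4
          _ ≤ 2 := by
            rw [Nat.card_coe_set_eq]
            exact (Set.ncard_insert_le _ _).trans (by rw [Set.ncard_singleton])
      rw [hQ] at hle
      norm_num at hle
    rcases H3 hna _ hE hcard hcc e with ⟨⟨k⟩⟩ | ⟨⟨k⟩⟩ | h4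
    · exact Or.inl ⟨ZMod 2, inferInstance, inferInstance, ZMod.card 2,
        ⟨k.trans Cfsg.Agent.SylowL5.Coords.pslTwo.symm⟩⟩
    · exact Or.inr (Or.inl ⟨rfl, Or.inl ⟨k⟩⟩)
    · exact Or.inr (Or.inl ⟨rfl, Or.inr h4⟩)
  · left
    have h256 : 256 ≤ Nat.card h.V := by
      rw [hV]
      calc 256 = 2 ^ 8 := by norm_num
        _ ≤ 2 ^ (2 * n) := Nat.pow_le_pow_right (by norm_num) (by omega)
    have S := steps_of h hO (by omega)
    obtain ⟨U, U', aff, -, -, -, -⟩ := S.caseII h256 p hi h0 h1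
    have hsq := aff.gl.card_sq
    have hU : Nat.card U = 2 ^ n := by
      rw [hV, two_mul, pow_add] at hsq
      exact Nat.mul_self_inj.1 hsq
    obtain ⟨e⟩ := glrec_of_aff h aff (n := n) (by omega) hU
    exact ⟨ZMod 2, inferInstance, inferInstance, ZMod.card 2, ⟨e⟩⟩

end Cfsg.Agent.LargeExtra.Red.Final
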