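import Cfsg.Agent.LargeExtra.Red.Pre
import Cfsg.Agent.LargeExtra.Red.COneTwo
import Cfsg.Agent.LargeExtra.Red.FalseSD

/-!
# S1761, case II: the glue between (N7), (γ), (A1), (A2), (C1), (C2) and (X1) (helper988)

* `Del h`: the images in `V` of the conjugates of `z` in `Q`, except `z`.
* `Steps h`: the outputs of the previous steps; `caseII`: for `|V| ≥ 2^8` there are two complementary
  invariant subspaces of affine type; for `|V| = 2^6`, `H = GL(U)`.
-/

set_option autoImplicit false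

namespace Cfsg.Agent.LargeExtra.Red

open Cfsg.Agent.Co2Type.Quad Cfsg.Agent.LargeExtra.Base Cfsg.Agent.LargeExtra.TwoCentral
open Cfsg.Agent.LargeExtra.Siegel Cfsg.Agent.LargeExtra.SiegelOrbit Cfsg.Agent.LargeExtra.Local
open Cfsg.Agent.LargeExtra.Red.COneTwo Cfsg.Agent.LargeExtra.Red.SiegelE
open Cfsg.Agent.LargeExtra.Red.FalseSD (qsp)
open Cfsg.Agent.LargeExtra.Perp

variable {G : Type*} [Group G] {Q A : Subgroup G} {z a : G}

/-- images of the conjugates `≠ z` of `z` in `Q` -/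
def Del (h : Large Q z) : Set h.V :=
  {v | ∃ (g : G) (hg : g * z * g⁻¹ ∈ Q), g * z * g⁻¹ ≠ z ∧ h.pr ⟨_, hg⟩ = v}

theorem exists_pair_of_mem_Del (h : Large Q z) {v : h.V} (hv : v ∈ Del h) :
    ∃ (A : Subgroup G) (a : G) (p : Pair Q z A a), p.va = v := by
  obtain ⟨g, hg, hne, rfl⟩ := hv
  exact ⟨_, _, pair_of_conj h hg hne, rfl⟩

theorem va_mem_Del (p : Pair Q z A a) : p.va ∈ Del p.lz := by
  obtain ⟨g, h1, -⟩ := p.isConj
  subst h1
  exact ⟨g, p.a_mem, p.ne, rfl⟩

theorem Del_inv (h : Large Q z) {f : h.V ≃ₗ[ZMod 2] h.V} (hf : f ∈ h.act.range) {v : h.V}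
    (hv : v ∈ Del h) : f v ∈ Del h := by
  obtain ⟨c, rfl⟩ := hf
  obtain ⟨g, hg, hne, rfl⟩ := hv
  have hcz : (c : G) * z = z * c := Subgroup.mem_centralizer_singleton_iff.1 c.2
  have e : (c : G) * (g * z * g⁻¹) * (c : G)⁻¹ = (c * g) * z * (c * g)⁻¹ := by group
  have h1 : ((c : G) * g) * z * (c * g)⁻¹ ∈ Q := by
    rw [← e]; exact h.conj_mem _ hcz _ hg
  refine ⟨c * g, h1, ?_, ?_⟩
  · rw [← e]
    intro h2
    apply hne
    have h3 : g * z * g⁻¹ = (c : G)⁻¹ * ((c : G) * (g * z * g⁻¹) * (c : G)⁻¹) * c := by group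
    rw [h3, h2, mul_assoc, ← hcz]; group
  · rw [h.act_pr]
    congr 1
    apply Subtype.ext
    rw [h.conjQ_coe]
    exact e.symm

/-- a choice of pair for every element of `Del` -/
noncomputable def Dt (h : Large Q z) (v : h.V) : Submodule (ZMod 2) h.V := by
  classical
  exact if hv : ∃ (A : Subgroup G) (a : G) (p : Pair Q z A a), p.va = v then
    (hv.choose_spec.choose_spec.choose).D else ⊥

theorem exists_pair_Dt (h : Large Q z) {v : h.V} (hv : v ∈ Del h) :
    ∃ (A : Subgroup G) (a : G) (p : Pair Q z A a), p.va = v ∧ Dt h v = p.D := by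
  classical
  have hv' := exists_pair_of_mem_Del h hv
  refine ⟨_, _, hv'.choose_spec.choose_spec.choose, hv'.choose_spec.choose_spec.choose_spec, ?_⟩
  rw [Dt, dif_pos hv']

/-- The data for (C1), (C2). -/
theorem cdata [Finite G] (h : Large Q z) {U : Submodule (ZMod 2) h.V} (gl : GLCase h U)
    (gam : ∀ (A : Subgroup G) (a : G) (p : Pair Q z A a), p.va ∉ U → GammaCase p U) :
    CData (qsp h) h.act.range U (Del h) (Dt h) where
  isom := fun f hf v => by
    obtain ⟨c, rfl⟩ := hf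
    exact h.q_act c v
  U_inv := gl.inv
  U_ts := gl.ts
  U_perp := by
    intro v hv
    apply gl.perp
    intro u hu
    exact hv u hu
  trans := trans_of_gl gl.gl
  Δ_inv := fun f hf c hc => Del_inv h hf hc
  Δ_ne := by
    intro c hc
    obtain ⟨A, a, p, rfl⟩ := exists_pair_of_mem_Del h hc
    exact p.va_ne
  Δ_q := by
    intro c hc
    obtain ⟨A, a, p, rfl⟩ := exists_pair_of_mem_Del h hc
    exact q_va p
  D_mem := by
    intro c hc hcU
    obtain ⟨A, a, p, rfl, h2⟩ := exists_pair_Dt h hc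
    rw [h2]
    exact p.va_mem_D
  D_inf := by
    intro c hc hcU v hv hvU
    obtain ⟨A, a, p, rfl, h2⟩ := exists_pair_Dt h hc
    rw [h2] at hv
    exact (gam A a p hcU).disj v hvU hv
  D_comm := by
    intro c hc hcU f hf hfU y hy
    obtain ⟨A, a, p, rfl, h2⟩ := exists_pair_Dt h hc
    rw [h2]
    have h3 : f ∈ p.X := by
      rw [(gam A a p hcU).mem_X]
      refine ⟨hf, fun u hu hau => hfU u hu ?_⟩
      show h.b u p.va = 0
      rw [h.b_comm]
      exact hau
    apply p.X_perp h3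
    rw [p.lz.b_comm]
    exact hy

/-- the outputs of (N7), (γ), (A1), (A2), (X1) for a fixed `Large Q z` -/
structure Steps (h : Large Q z) : Prop where
  n7 : ∀ (A : Subgroup G) (a : G) (p : Pair Q z A a) (U : Submodule (ZMod 2) h.V), MinInv h U → U ≠ ⊤ →
    (∀ v ∈ U, h.q v = 0) ∧ (p.va ∈ U ∨ ∃ u ∈ U, p.lz.b p.va u ≠ 0)
  gamma : ∀ (A : Subgroup G) (a : G) (p : Pair Q z A a) (U : Submodule (ZMod 2) h.V), MinInv h U →
    (∀ v ∈ U, h.q v = 0) → (∃ u ∈ U, p.lz.b p.va u ≠ 0) → GammaCase p U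
  aff : ∀ (A : Subgroup G) (a : G) (p : Pair Q z A a) (U : Submodule (ZMod 2) h.V), MinInv h U →
    (∀ v ∈ U, h.q v = 0) → p.va ∈ U →
    (∃ g ∈ Subgroup.normalizer ((pre h U : Subgroup G) : Set G), g * z ≠ z * g) → AffCase h U
  two : ∀ (A : Subgroup G) (a : G) (p : Pair Q z A a) (U : Submodule (ZMod 2) h.V), MinInv h U →
    (∀ v ∈ U, h.q v = 0) → p.va ∈ U →
    (∀ g ∈ Subgroup.normalizer ((pre h U : Subgroup G) : Set G), g * z = z * g) →
    GLCase h U ∧ Nat.card U ≤ 8
  x1 : ∀ (U : Submodule (ZMod 2) h.V), AffCase h U → 16 ≤ Nat.card U →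
    (∀ g : G, g * z * g⁻¹ ∈ Q → g * z * g⁻¹ ∈ pre h U) → False

section

variable {h : Large Q z}

/-- (α)/(γ): `H = GL(U)` -/
theorem Steps.glCase (S : Steps h) (p : Pair Q z A a) {U : Submodule (ZMod 2) h.V} (hU : MinInv h U)
    (hne : U ≠ ⊤) : GLCase h U := by
  obtain ⟨hts, h1⟩ := S.n7 A a p U hU hne
  rcases h1 with h1 | h1
  · by_cases h2 : ∃ g ∈ Subgroup.normalizer ((pre h U : Subgroup G) : Set G), g * z ≠ z * g
    · exact (S.aff A a p U hU hts h1 h2).gl
    · push Not at h2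
      exact (S.two A a p U hU hts h1 h2).1
  · exact (S.gamma A a p U hU hts h1).gl

theorem GLCase.card_sq [Finite Q] {U : Submodule (ZMod 2) h.V} (gl : GLCase h U) :
    Nat.card U * Nat.card U = Nat.card h.V := by
  have h1 := card_perp h U
  have h2 : h.b.orthogonal U = U := by
    apply le_antisymm
    · intro v hv
      apply gl.perp
      intro u hu
      exact (mem_perp h U).1 hv u hu
    · intro v hv
      rw [mem_perp]
      intro u hu
      exact b_eq_zero_of_ts h gl.ts hu hv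
  rw [h2] at h1
  exact h1

/-- the complement given by (C2) is of affine type -/
theorem Steps.affine_of_Del [Finite G] (S : Steps h) (hcard : 256 ≤ Nat.card h.V)
    {U' : Submodule (ZMod 2) h.V} (hi : Inv h U') (h0 : U' ≠ ⊥) (hD : ∀ v ∈ U', v ≠ 0 → v ∈ Del h)
    (hc : Nat.card U' * Nat.card U' = Nat.card h.V) : AffCase h U' ∧ 16 ≤ Nat.card U' := by
  have hfin : Finite h.V := Finite.of_surjective _ h.pr_surjective
  have h16 : 16 ≤ Nat.card U' := by
    by_contra hlt
    push Not at hlt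
    have : Nat.card U' * Nat.card U' ≤ 15 * 15 := Nat.mul_le_mul (by omega) (by omega)
    omega
  obtain ⟨W, hW, hWm⟩ := exists_minInv h hi h0
  obtain ⟨w, hw, hw0⟩ := (Submodule.ne_bot_iff W).1 hWm.ne_bot
  obtain ⟨A, a, p, hp⟩ := exists_pair_of_mem_Del h (hD w (hW hw) hw0)
  have hWt : W ≠ ⊤ := by
    rintro rfl
    have h1 : U' = ⊤ := top_le_iff.1 hW
    rw [h1] at hc
    have h2 : Nat.card (⊤ : Submodule (ZMod 2) h.V) = Nat.card h.V :=
      Nat.card_congr (Submodule.topEquiv (R := ZMod 2) (M := h.V)).toEquiv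
    rw [h2] at hc
    have h3 : 256 * Nat.card h.V ≤ Nat.card h.V * Nat.card h.V := Nat.mul_le_mul_right _ hcard
    omega
  have gl := S.glCase p hWm hWt
  have h1 := gl.card_sq
  have h2 : Nat.card W = Nat.card U' := Nat.mul_self_inj.1 (h1.trans hc.symm)
  have h3 : W = U' := by
    apply SetLike.coe_injective
    exact Set.eq_of_subset_of_ncard_le hW (by
      show Nat.card U' ≤ Nat.card W
      rw [h2]) (Set.toFinite _)
  subst h3
  refine ⟨?_, h16⟩
  have hpW : p.va ∈ W := by rw [hp]; exact hw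
  by_cases h4 : ∃ g ∈ Subgroup.normalizer ((pre h W : Subgroup G) : Set G), g * z ≠ z * g
  · exact S.aff A a p W hWm gl.ts hpW h4
  · push Not at h4
    have := (S.two A a p W hWm gl.ts hpW h4).2
    omega

theorem mem_pre_of_Del {U : Submodule (ZMod 2) h.V} (hD : ∀ v ∈ Del h, v ∈ U) (g : G)
    (hg : g * z * g⁻¹ ∈ Q) : g * z * g⁻¹ ∈ pre h U := by
  by_cases hne : g * z * g⁻¹ = z
  · rw [hne]; exact z_mem_pre h U
  · exact ⟨⟨_, hg⟩, rfl, hD _ ⟨g, hg, hne, rfl⟩⟩

/-- **Case II**, `|V| ≥ 2^8`: two complementary invariant subspaces of affine type. -/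
theorem Steps.caseII [Finite G] (S : Steps h) (hcard : 256 ≤ Nat.card h.V) (p : Pair Q z A a)
    {U₀ : Submodule (ZMod 2) h.V} (hi : Inv h U₀) (h0 : U₀ ≠ ⊥) (h1 : U₀ ≠ ⊤) :
    ∃ U U' : Submodule (ZMod 2) h.V, AffCase h U ∧ AffCase h U' ∧ (∀ v ∈ U, v ∈ U' → v = 0) ∧
      (∀ v, ∃ u ∈ U, v + u ∈ U') ∧ (∀ v, v ∈ Del h ↔ (v ∈ U ∨ v ∈ U') ∧ v ≠ 0) := by
  have hfin : Finite h.V := Finite.of_surjective _ h.pr_surjective
  obtain ⟨U, hU, hUm⟩ := exists_minInv h hi h0
  have hUt : U ≠ ⊤ := by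
    rintro rfl
    exact h1 (top_le_iff.1 hU)
  have gl := S.glCase p hUm hUt
  have hc := gl.card_sq
  have h16 : 16 ≤ Nat.card U := by
    by_contra hlt
    push Not at hlt
    have : Nat.card U * Nat.card U ≤ 15 * 15 := Nat.mul_le_mul (by omega) (by omega)
    omega
  have gam : ∀ (A : Subgroup G) (a : G) (p : Pair Q z A a), p.va ∉ U → GammaCase p U := by
    intro A a p hp
    obtain ⟨hts, h2 | h2⟩ := S.n7 A a p U hUm hUt
    · exact absurd h2 hp
    · exact S.gamma A a p U hUm hts h2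
  -- `AffCase` if some element of `Del` lies in `U`
  have aff : ∀ v ∈ Del h, v ∈ U → AffCase h U := by
    intro v hv hvU
    obtain ⟨A, a, p, rfl⟩ := exists_pair_of_mem_Del h hv
    by_cases h4 : ∃ g ∈ Subgroup.normalizer ((pre h U : Subgroup G) : Set G), g * z ≠ z * g
    · exact S.aff A a p U hUm gl.ts hvU h4
    · push Not at h4
      have := (S.two A a p U hUm gl.ts hvU h4).2
      omega
  by_cases hout : ∃ c ∈ Del h, c ∉ U
  · have cd := cdata h gl gam
    obtain ⟨U', hi', hd, hs, hm, hor⟩ := c2 cd h16 hout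
    have hU'0 : U' ≠ ⊥ := by
      rintro rfl
      obtain ⟨c, hc1, hc2⟩ := hout
      have := (hm c).1 ⟨hc1, hc2⟩
      exact this.2 ((Submodule.mem_bot _).1 this.1)
    -- `|U'| = |U|`
    have hcU' : Nat.card U * Nat.card U' = Nat.card h.V := by
      rw [← Nat.card_prod]
      apply Nat.card_congr
      refine Equiv.ofBijective (fun x : U × U' => (x.1 : h.V) + x.2) ⟨?_, ?_⟩
      · rintro ⟨x1, x2⟩ ⟨y1, y2⟩ hxy
        have hxy' : (x1 : h.V) + x2 = y1 + y2 := hxy
        have e1 : (x1 : h.V) + y1 = x2 + y2 := by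
          calc (x1 : h.V) + y1 = (x1 + x2) + (y1 + x2) := by
                have : ((x1 : h.V) + x2) + (y1 + x2) = x1 + y1 + (x2 + x2) := by abel
                rw [this, h.add_self, add_zero]
            _ = (y1 + y2) + (y1 + x2) := by rw [hxy']
            _ = x2 + y2 := by
                have : ((y1 : h.V) + y2) + (y1 + x2) = (y1 + y1) + (x2 + y2) := by abel
                rw [this, h.add_self, zero_add]
        have e2 := hd _ (U.add_mem x1.2 y1.2) (by rw [e1]; exact U'.add_mem x2.2 y2.2)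
        have e3 : (x1 : h.V) = y1 := by
          calc (x1 : h.V) = (x1 + y1) + y1 := by rw [add_assoc, h.add_self, add_zero]
            _ = y1 := by rw [e2, zero_add]
        have e4 : (x2 : h.V) = y2 := by
          rw [e3] at hxy'
          exact add_left_cancel hxy'
        exact Prod.ext (Subtype.ext e3) (Subtype.ext e4)
      · intro v
        obtain ⟨u, hu, hvu⟩ := hs v
        refine ⟨(⟨u, hu⟩, ⟨_, hvu⟩), ?_⟩
        show u + (v + u) = v
        rw [add_comm v u, ← add_assoc, h.add_self, zero_add]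
    have hcc : Nat.card U' = Nat.card U := by
      have h2 : 0 < Nat.card U := by omega
      exact Nat.eq_of_mul_eq_mul_left h2 (hcU'.trans hc.symm)
    obtain ⟨af', h16'⟩ := S.affine_of_Del hcard hi' hU'0 (fun v hv hv0 => ((hm v).2 ⟨hv, hv0⟩).1)
      (by rw [hcc]; exact hc)
    rcases hor with hor | hor
    · -- `Δ = U'#`
      exfalso
      apply S.x1 U' af' h16'
      apply mem_pre_of_Del
      intro v hv
      by_cases hvU : v ∈ U
      · exact absurd hv (hor v hvU)
      · exact ((hm v).1 ⟨hv, hvU⟩).1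
    · -- two classes
      obtain ⟨u, hu, hu0⟩ := (Submodule.ne_bot_iff U).1 hUm.ne_bot
      refine ⟨U, U', aff u (hor u hu hu0) hu, af', hd, hs, ?_⟩
      intro v
      constructor
      · intro hv
        refine ⟨?_, cd.Δ_ne v hv⟩
        by_cases hvU : v ∈ U
        · exact Or.inl hvU
        · exact Or.inr ((hm v).1 ⟨hv, hvU⟩).1
      · rintro ⟨hv | hv, hv0⟩
        · exact hor v hv hv0
        · exact ((hm v).2 ⟨hv, hv0⟩).1
  · push Not at hout
    exfalso
    exact S.x1 U (aff _ (va_mem_Del p) (hout _ (va_mem_Del p))) h16 (mem_pre_of_Del hout)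

/-- **Case II**, `|V| = 2^6`: `H = GL(U)`, `|U| = 8`. -/
theorem Steps.caseII_three [Finite G] (S : Steps h) (hcard : Nat.card h.V = 64) (p : Pair Q z A a)
    {U₀ : Submodule (ZMod 2) h.V} (hi : Inv h U₀) (h0 : U₀ ≠ ⊥) (h1 : U₀ ≠ ⊤) :
    ∃ U : Submodule (ZMod 2) h.V, GLCase h U ∧ Nat.card U = 8 := by
  have hfin : Finite h.V := Finite.of_surjective _ h.pr_surjective
  obtain ⟨U, hU, hUm⟩ := exists_minInv h hi h0
  have hUt : U ≠ ⊤ := by
    rintro rfl
    exact h1 (top_le_iff.1 hU)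
  have gl := S.glCase p hUm hUt
  have hc := gl.card_sq
  refine ⟨U, gl, ?_⟩
  rw [hcard] at hc
  exact Nat.mul_self_inj.1 (hc.trans (by norm_num))

end

end Cfsg.Agent.LargeExtra.Red
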