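import Cfsg.Agent.LargeExtra.GLRecMain
import Cfsg.Agent.LargeExtra.Red.Pre
import Cfsg.Agent.LargeExtra.Perp

/-!
# S1761, case II, [R11]: identification with `L_{n+2}(2)` (helper751)

`psl_of_aff`: `AffCase h U` with `|U| ≥ 16` in a simple group `G` gives `G ≃* PSL (Fin (n + 2)) F`, `|F| = 2`.
-/

set_option autoImplicit false

namespace Cfsg.Agent.LargeExtra.Red

open Cfsg.Agent.Co2Type.Quad Cfsg.Agent.LargeExtra.Base Cfsg.Agent.LargeExtra.TwoCentral
open Cfsg.Agent.LargeExtra.Local Cfsg.Agent.LargeExtra.Perp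

variable {G : Type*} [Group G] {Q : Subgroup G} {z : G}

theorem GLCase.card_mul_card [Finite Q] {h : Large Q z} {U : Submodule (ZMod 2) h.V}
    (gl : GLCase h U) : Nat.card U * Nat.card U = Nat.card h.V := by
  have hU : h.b.orthogonal U = U := by
    ext v
    rw [mem_perp]
    exact ⟨gl.perp v, fun hv w hw => b_eq_zero_of_ts h gl.ts hw hv⟩
  have := card_perp h U
  rwa [hU] at this

theorem pre_top (h : Large Q z) : pre h ⊤ = Q := by
  ext x
  constructor
  · rintro ⟨y, rfl, -⟩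
    exact y.2
  · intro hx
    exact ⟨⟨x, hx⟩, rfl, Submodule.mem_top⟩

theorem card_Q_eq [Finite Q] (h : Large Q z) : Nat.card Q = 2 * Nat.card h.V := by
  have h1 := card_pre h (⊤ : Submodule (ZMod 2) h.V)
  rw [pre_top] at h1
  rw [h1]
  congr 1
  exact Nat.card_congr (Equiv.Set.univ h.V)

/-- `AffCase` with `|U| = 2 ^ n`, `n ≥ 4`, and `N(pre U) ≠ G`. -/
theorem psl_of_aff_aux [Finite G] (h : Large Q z) {U : Submodule (ZMod 2) h.V} (aff : AffCase h U)
    {n : ℕ} (hn : 4 ≤ n) (hU : Nat.card U = 2 ^ n)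
    (hN : Subgroup.normalizer ((pre h U : Subgroup G) : Set G) ≠ ⊤) :
    Nonempty (G ≃* Matrix.ProjectiveSpecialLinearGroup (Fin (n + 2)) (ZMod 2)) := by
  have hcard : Nat.card (pre h U) = 2 ^ (n + 1) := by
    rw [card_pre, hU, pow_succ, mul_comm]
  refine GLRec.glrec (pre h U) (n + 1) (by omega) hcard (fun a ha => sq_of_mem_pre h aff.gl.ts ha)
    aff.cent hN ?_ aff.aut
  intro a ha ha1 g hg
  apply aff.ti a ha ha1 g
  rw [hg, mul_inv_cancel_right]
  exact ha

theorem normalizer_pre_ne_top [Finite G] [IsSimpleGroup G] (h : Large Q z)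
    {U : Submodule (ZMod 2) h.V} (hts : ∀ v ∈ U, h.q v = 0) (hU : 2 ≤ Nat.card U) :
    Subgroup.normalizer ((pre h U : Subgroup G) : Set G) ≠ ⊤ := by
  intro hN
  have hnorm : (pre h U).Normal := Subgroup.normalizer_eq_top_iff.1 hN
  rcases hnorm.eq_bot_or_eq_top with h1 | h1
  · have hz := z_mem_pre h U
    rw [h1, Subgroup.mem_bot] at hz
    exact h.z_ne hz
  · -- then `G` has exponent two
    have hsq : ∀ g : G, g * g = 1 := fun g =>
      sq_of_mem_pre h hts (by rw [h1]; trivial)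
    have hcomm : ∀ a b : G, a * b = b * a := by
      intro a b
      have ha : a⁻¹ = a := inv_eq_of_mul_eq_one_right (hsq a)
      have hb : b⁻¹ = b := inv_eq_of_mul_eq_one_right (hsq b)
      have hab : (a * b)⁻¹ = a * b := inv_eq_of_mul_eq_one_right (hsq _)
      rw [mul_inv_rev, ha, hb] at hab
      exact hab.symm
    have hz : (Subgroup.zpowers z).Normal := ⟨fun x hx g => by
      rw [hcomm g x, mul_inv_cancel_right]; exact hx⟩
    rcases hz.eq_bot_or_eq_top with h2 | h2
    · rw [Subgroup.zpowers_eq_bot] at h2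
      exact h.z_ne h2
    · have h3 : Nat.card G = 2 := by
        rw [← Subgroup.card_top (G := G), ← h2, Nat.card_zpowers, orderOf_z h]
      have h4 : Nat.card (pre h U) ≤ Nat.card G := Subgroup.card_le_card_group _
      rw [card_pre, h3] at h4
      omega

/-- [R11]: **the identification of `L_{n+2}(2)`**. -/
theorem psl_of_aff [Finite G] [IsSimpleGroup G] (h : Large Q z) {U : Submodule (ZMod 2) h.V}
    (aff : AffCase h U) (hc : 16 ≤ Nat.card U) {n : ℕ} (hn : Nat.card Q = 2 ^ (2 * n + 1)) :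
    ∃ (F : Type) (_ : Field F) (_ : Fintype F), Fintype.card F = 2 ∧
      Nonempty (G ≃* Matrix.ProjectiveSpecialLinearGroup (Fin (n + 2)) F) := by
  have h1 := card_Q_eq h
  have h2 := aff.gl.card_mul_card
  rw [hn, ← h2, pow_succ, mul_comm] at h1
  have h3 : 2 ^ n * 2 ^ n = Nat.card U * Nat.card U := by
    have : 2 ^ (2 * n) = 2 ^ n * 2 ^ n := by rw [← pow_add, two_mul]
    rw [← this]
    exact Nat.eq_of_mul_eq_mul_left (by norm_num) h1
  have hU : Nat.card U = 2 ^ n := (Nat.mul_self_inj.1 h3).symm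
  have hn4 : 4 ≤ n := by
    by_contra hlt
    push Not at hlt
    have : 2 ^ n ≤ 2 ^ 3 := Nat.pow_le_pow_right (by norm_num) (by omega)
    rw [hU] at hc
    omega
  have hN := normalizer_pre_ne_top h aff.gl.ts (by omega : 2 ≤ Nat.card U)
  exact ⟨ZMod 2, inferInstance, inferInstance, ZMod.card 2, psl_of_aff_aux h aff hn4 hU hN⟩

end Cfsg.Agent.LargeExtra.Red
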