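import Cfsg.Agent.LargeExtra.Red.FalseSD
import Cfsg.Agent.LargeExtra.Red.Conj

/-!
# S1761, case II: (N7) (helper539)

A proper minimal `H`-submodule `U` of `V` is totally singular, and `ã ∈ U` or `U ≰ ã^⊥`.

* `four_le`: `4 ≤ |U|` for an `H`-submodule `U ≠ 0`;
* `exists_minimal`: minimal submodules exist;
* `mixed`: `V = U ⟂ U^⊥`, `ã ∉ U ∪ U^⊥` implies `|V| ≤ 16`;
* `n7`.
-/

set_option autoImplicit false

namespace Cfsg.Agent.LargeExtra.Red.NSeven

open Cfsg.Agent.Co2Type.Quad Cfsg.Agent.LargeExtra.Base Cfsg.Agent.LargeExtra.TwoCentral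
open Cfsg.Agent.LargeExtra.Siegel Cfsg.Agent.LargeExtra.SiegelOrbit Cfsg.Agent.LargeExtra.Local
open Cfsg.Agent.LargeExtra.Perp

variable {G : Type*} [Group G] {Q A : Subgroup G} {z a : G}

theorem add_zero_iff (h : Large Q z) {v w : h.V} : v + w = 0 ↔ v = w := by
  constructor
  · intro e
    calc v = v + (w + w) := by rw [h.add_self, add_zero]
      _ = w := by rw [← add_assoc, e, zero_add]
  · rintro rfl; exact h.add_self v

/-- `4 ≤ |U|`. -/
theorem four_le [Finite Q] (h : Large Q z) (hT : NoFix h) {U : Submodule (ZMod 2) h.V} (hU : Inv h U)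
    (hne : U ≠ ⊥) : 4 ≤ Nat.card U := by
  classical
  obtain ⟨u, hu, hu0⟩ := (Submodule.ne_bot_iff U).1 hne
  obtain ⟨w, hw, hw0, hwu⟩ : ∃ w ∈ U, w ≠ 0 ∧ w ≠ u := by
    by_contra hcon
    push Not at hcon
    apply hu0
    apply hT
    intro f hf
    apply hcon _ (hU f hf u hu)
    intro h0
    exact hu0 ((LinearEquiv.map_eq_zero_iff f).1 h0)
  have h1 : ({0, u, w, u + w} : Set h.V) ⊆ U := by
    rintro x (rfl | rfl | rfl | rfl)
    · exact U.zero_mem
    · exact hu
    · exact hw
    · exact U.add_mem hu hw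
  have h2 : ({0, u, w, u + w} : Set h.V).ncard = 4 := by
    have e1 : w ≠ u + w := fun e => hu0 (by simpa using e.symm)
    have e2 : u ≠ u + w := fun e => hw0 (by simpa using e.symm)
    have e3 : (0 : h.V) ≠ u + w := fun e => hwu ((add_zero_iff h).1 e.symm).symm
    rw [Set.ncard_insert_of_notMem, Set.ncard_insert_of_notMem, Set.ncard_pair e1]
    · rintro (e | e)
      · exact hwu e.symm
      · exact e2 e
    · rintro (e | e | e)
      · exact hu0 e.symm
      · exact hw0 e.symm
      · exact e3 e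
  have h3 := Set.ncard_le_ncard h1 (Set.toFinite _)
  have h4 : (U : Set h.V).ncard = Nat.card U := rfl
  omega

/-- A minimal submodule inside a given one. -/
theorem exists_minimal [Finite Q] (h : Large Q z) {W : Submodule (ZMod 2) h.V} (hW : Inv h W) (hne : W ≠ ⊥) :
    ∃ U ≤ W, Inv h U ∧ U ≠ ⊥ ∧ ∀ U', Inv h U' → U' ≤ U → U' = ⊥ ∨ U' = U := by
  classical
  let s : Set (Submodule (ZMod 2) h.V) := {U | U ≤ W ∧ Inv h U ∧ U ≠ ⊥}
  have : Finite (Submodule (ZMod 2) h.V) := Finite.of_injective (fun U => (U : Set h.V)) SetLike.coe_injective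
  obtain ⟨U, hU, hmin⟩ := Set.Finite.exists_minimal (s := s) (Set.toFinite s) ⟨W, le_rfl, hW, hne⟩
  refine ⟨U, hU.1, hU.2.1, hU.2.2, fun U' hU' hle => ?_⟩
  by_cases h0 : U' = ⊥
  · exact Or.inl h0
  · exact Or.inr (le_antisymm hle (hmin ⟨hle.trans hU.1, hU', h0⟩ hle))

/-- The orthogonal space of a submodule is a submodule. -/
theorem inv_perp (h : Large Q z) {U : Submodule (ZMod 2) h.V} (hU : Inv h U) : Inv h (h.b.orthogonal U) := by
  intro f hf v hv
  rw [mem_perp] at hv ⊢
  intro w hw
  have h1 := hv _ (hU _ (inv_mem hf) w hw)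
  rw [← b_of_mem_O h (range_le_O h hf), inv_apply] at h1
  exact h1

theorem hbl (h : Large Q z) (x y w : h.V) : h.b (x + y) w = h.b x w + h.b y w := by
  rw [map_add, LinearMap.add_apply]

/-- `V = U ⟂ U^⊥` and `ã ∉ U ∪ U^⊥`: then `|V| ≤ 16`. -/
theorem mixed [Finite G] (p : Pair Q z A a) {U : Submodule (ZMod 2) p.lz.V} (hU : Inv p.lz U)
    (hn : ∀ v ∈ U, (∀ w ∈ U, p.lz.b v w = 0) → v = 0) (h1 : p.va ∉ U)
    (h2 : p.va ∉ p.lz.b.orthogonal U) : Nat.card p.lz.V ≤ 16 := by
  classical
  obtain ⟨U', hU'⟩ : ∃ U', U' = p.lz.b.orthogonal U := ⟨_, rfl⟩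
  rw [← hU'] at h2
  have hI' : Inv p.lz U' := by rw [hU']; exact inv_perp p.lz hU
  have memU' : ∀ {v : p.lz.V}, v ∈ U' ↔ ∀ w ∈ U, p.lz.b w v = 0 := by
    intro v; rw [hU']; exact mem_perp p.lz U
  have ha0 : p.va ≠ 0 := p.va_ne
  have hqa : p.lz.q p.va = 0 := q_va p
  -- decomposition
  have hdec : ∀ v : p.lz.V, ∃ u ∈ U, ∃ u' ∈ U', v = u + u' := by
    let F : U × U' → p.lz.V := fun x => (x.1 : p.lz.V) + x.2
    have hF : Function.Injective F := by
      rintro ⟨u, u'⟩ ⟨w, w'⟩ (e : (u : p.lz.V) + u' = w + w')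
      have e1 : (u : p.lz.V) + w = u' + w' := by
        calc (u : p.lz.V) + w = ((u : p.lz.V) + u') + (u' + w) := by
              rw [add_assoc, ← add_assoc (u' : p.lz.V), p.lz.add_self, zero_add]
          _ = (w + w') + (u' + w) := by rw [e]
          _ = (w + w) + (u' + w') := by abel
          _ = u' + w' := by rw [p.lz.add_self, zero_add]
      have e2 : (u : p.lz.V) + w = 0 := by
        apply hn _ (U.add_mem u.2 w.2)
        intro x hx
        rw [p.lz.b_comm, e1]
        exact memU'.1 (U'.add_mem u'.2 w'.2) x hx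
      have e3 := (add_zero_iff p.lz).1 e2
      rw [e2] at e1
      have e4 := (add_zero_iff p.lz).1 e1.symm
      exact Prod.ext (Subtype.ext e3) (Subtype.ext e4)
    have hc : Nat.card (U × U') = Nat.card p.lz.V := by
      rw [Nat.card_prod, hU']; exact card_perp p.lz U
    have hS := (Nat.bijective_iff_injective_and_card F).2 ⟨hF, hc⟩
    intro v
    obtain ⟨⟨u, u'⟩, e⟩ := hS.2 v
    exact ⟨u, u.2, u', u'.2, e.symm⟩
  obtain ⟨a1, ha1, a2, ha2, haa⟩ := hdec p.va
  have hb12 : ∀ u ∈ U, ∀ u' ∈ U', p.lz.b u u' = 0 := fun u hu u' hu' => memU'.1 hu' u hu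
  have ha10 : a1 ≠ 0 := by
    rintro rfl
    apply h2
    rw [haa, zero_add]; exact ha2
  have ha20 : a2 ≠ 0 := by
    rintro rfl
    apply h1
    rw [haa, add_zero]; exact ha1
  -- `X` centralises `U ∩ a^⊥`, `U' ∩ a^⊥`
  have fixU : ∀ f ∈ p.X, ∀ v ∈ U, p.lz.b p.va v = 0 → f v = v := fun f hf v hv hva =>
    fix_of_perp p hU h1 hf hv hva
  have fixU' : ∀ f ∈ p.X, ∀ v ∈ U', p.lz.b p.va v = 0 → f v = v := fun f hf v hv hva =>
    fix_of_perp p hI' h2 hf hv hva
  have hfix : ∀ f ∈ p.X, ∀ v, p.lz.b a1 v = 0 → p.lz.b a2 v = 0 → f v = v := by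
    intro f hf v hv1 hv2
    obtain ⟨u, hu, u', hu', rfl⟩ := hdec v
    have e1 : p.lz.b p.va u = 0 := by
      rw [map_add, hb12 a1 ha1 u' hu', add_zero] at hv1
      rw [haa, hbl, hv1, p.lz.b_comm a2 u, hb12 u hu a2 ha2, add_zero]
    have e2 : p.lz.b p.va u' = 0 := by
      rw [map_add, p.lz.b_comm a2 u, hb12 u hu a2 ha2, zero_add] at hv2
      rw [haa, hbl, hv2, hb12 a1 ha1 u' hu', add_zero]
    rw [map_add, fixU f hf u hu e1, fixU' f hf u' hu' e2]
  -- `|D| ≤ 4`
  have hD : Nat.card p.D ≤ 4 := by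
    have e1 := Cfsg.Agent.LargeExtra.Red.BThm.card_le_two_mul p.D (p.lz.b a1) {0, p.va} (fun d hd hd1 => by
      by_contra hcon
      rw [Set.mem_insert_iff, Set.mem_singleton_iff, not_or] at hcon
      obtain ⟨w, hwa, hwd⟩ := exists_perp_one p hcon.1 hcon.2
      obtain ⟨f, hf, hfD⟩ := p.exists_X (p.lz.b w) hwa
      have h3 := hfD d hd
      rw [hwd, one_smul] at h3
      have h4 : p.lz.b a2 d = 0 := by
        have h5 := p.b_D p.va_mem_D hd
        have h6 : p.lz.b p.va d = 0 := h5
        rw [haa, hbl, hd1, zero_add] at h6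
        exact h6
      rw [hfix f hf d hd1 h4] at h3
      exact ha0 (left_eq_add.1 h3))
    have e2 := Cfsg.Agent.LargeExtra.Red.BThm.ncard_two_le 0 p.va
    omega
  -- a vector `v0 ∈ a^⊥` not orthogonal to `a1`
  obtain ⟨v0, hv0, hv1⟩ : ∃ v, p.lz.b p.va v = 0 ∧ p.lz.b a1 v = 1 := by
    have n1 : a1 ≠ p.va := by
      intro e
      apply h1
      rw [← e]; exact ha1
    obtain ⟨w, e1, e2⟩ := exists_perp_one p ha10 n1
    exact ⟨w, by rw [p.lz.b_comm]; exact e1, by rw [p.lz.b_comm]; exact e2⟩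
  -- `f v0 + v0 ∈ {0, a}`
  have hval : ∀ f ∈ p.X, f v0 + v0 = 0 ∨ f v0 + v0 = p.va := by
    intro f hf
    have hD1 : f v0 + v0 ∈ p.D := p.X_perp hf hv0
    -- orthogonal to `a1^⊥ ∩ a2^⊥`
    have hperp : ∀ v, p.lz.b a1 v = 0 → p.lz.b a2 v = 0 → p.lz.b (f v0 + v0) v = 0 := by
      intro v hv1' hv2'
      have e1 := b_of_mem_O p.lz (range_le_O p.lz (p.X_le_H hf)) v0 v
      rw [hfix f hf v hv1' hv2'] at e1
      rw [hbl, e1]
      have : ∀ x : ZMod 2, x + x = 0 := by decide
      exact this _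
    -- a complement
    by_contra hcon
    rw [not_or] at hcon
    obtain ⟨n0, na⟩ := hcon
    -- write `d = f v0 + v0 = s a1 + t a2`
    have hspan : f v0 + v0 = a1 ∨ f v0 + v0 = a2 := by
      obtain ⟨u1, hu1, e1⟩ : ∃ u1 ∈ U, p.lz.b a1 u1 = 1 := by
        by_contra hc
        push Not at hc
        apply ha10
        apply hn a1 ha1
        intro w hw
        by_contra hne
        exact hc w hw (zmod_two_ne hne)
      obtain ⟨u2, hu2, e2⟩ : ∃ u2 ∈ U', p.lz.b a2 u2 = 1 := by
        by_contra hc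
        push Not at hc
        apply ha20
        apply p.lz.b_nondeg
        intro w
        obtain ⟨u, hu, u', hu', rfl⟩ := hdec w
        rw [map_add, p.lz.b_comm a2 u, hb12 u hu a2 ha2, zero_add]
        by_contra hne
        exact hc u' hu' (zmod_two_ne hne)
      have e3 : p.lz.b a2 u1 = 0 := by rw [p.lz.b_comm]; exact hb12 u1 hu1 a2 ha2
      have e4 : p.lz.b a1 u2 = 0 := hb12 a1 ha1 u2 hu2
      -- `b(d, ·) = b(d, u1) b(a1, ·) + b(d, u2) b(a2, ·)`
      have key : ∀ v, p.lz.b (f v0 + v0) v = p.lz.b (f v0 + v0) u1 * p.lz.b a1 v + p.lz.b (f v0 + v0) u2 * p.lz.b a2 v := by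
        intro v
        have c1 : p.lz.b a1 (v + p.lz.b a1 v • u1 + p.lz.b a2 v • u2) = 0 := by
          rw [map_add, map_add, map_smul, map_smul, e1, e4, smul_zero, add_zero, smul_eq_mul, mul_one]
          have : ∀ x : ZMod 2, x + x = 0 := by decide
          exact this _
        have c2 : p.lz.b a2 (v + p.lz.b a1 v • u1 + p.lz.b a2 v • u2) = 0 := by
          rw [map_add, map_add, map_smul, map_smul, e2, e3, smul_zero, add_zero, smul_eq_mul, mul_one]
          have : ∀ x : ZMod 2, x + x = 0 := by decide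
          exact this _
        have c3 := hperp _ c1 c2
        rw [map_add, map_add, map_smul, map_smul, smul_eq_mul, smul_eq_mul] at c3
        have : ∀ x y z y' z' : ZMod 2, x + y * z + y' * z' = 0 → x = z * y + z' * y' := by decide
        exact this _ _ _ _ _ c3
      have hne' : f v0 + v0 + (p.lz.b (f v0 + v0) u1 • a1 + p.lz.b (f v0 + v0) u2 • a2) = 0 := by
        apply p.lz.b_nondeg
        intro w
        rw [hbl p.lz (f v0 + v0), hbl p.lz (_ • a1), map_smul, map_smul, LinearMap.smul_apply,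
          LinearMap.smul_apply, key w, smul_eq_mul, smul_eq_mul]
        have : ∀ x : ZMod 2, x + x = 0 := by decide
        exact this _
      have e5 := (add_zero_iff p.lz).1 hne'
      rcases zmod_two (p.lz.b (f v0 + v0) u1) with c1 | c1 <;> rcases zmod_two (p.lz.b (f v0 + v0) u2) with c2 | c2 <;>
        rw [c1, c2] at e5 <;> simp only [zero_smul, one_smul, zero_add, add_zero] at e5
      · exact absurd e5 n0
      · exact Or.inr e5
      · exact Or.inl e5
      · rw [← haa] at e5
        exact absurd e5 na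
    rcases hspan with e | e
    · rw [e] at hD1
      exact ha10 (disj p hU h1 ha1 hD1)
    · rw [e] at hD1
      exact ha20 (disj p hI' h2 ha2 hD1)
  -- `|X| ≤ 2`
  have hX : Nat.card p.X ≤ 2 := by
    let F : p.X → ({0, p.va} : Set p.lz.V) := fun f => ⟨(f : p.lz.V ≃ₗ[ZMod 2] p.lz.V) v0 + v0, by
      rcases hval f f.2 with e | e
      · rw [e]; simp
      · rw [e]; simp⟩
    have hF : Function.Injective F := by
      rintro ⟨f, hf⟩ ⟨g, hg⟩ e
      have e1 : f v0 + v0 = g v0 + v0 := congrArg Subtype.val e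
      have e2 : f v0 = g v0 := add_right_cancel e1
      apply Subtype.ext
      show f = g
      have e3 : g⁻¹ * f = 1 := by
        apply eq_one_of_fix_perp p.lz hqa
        · intro v
          exact range_le_O p.lz (p.X_le_H (mul_mem (inv_mem hg) hf)) v
        · intro v hv
          show g⁻¹ (f v) = v
          have e4 : f v = g v := by
            -- `v` or `v + v0` is orthogonal to `a1`, `a2`
            rcases zmod_two (p.lz.b a1 v) with c | c
            · have c2 : p.lz.b a2 v = 0 := by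
                have h6 := hv
                rw [haa, hbl, c, zero_add] at h6
                exact h6
              rw [hfix f hf v c c2, hfix g hg v c c2]
            · have c1 : p.lz.b a1 (v + v0) = 0 := by rw [map_add, c, hv1]; decide
              have c2 : p.lz.b a2 (v + v0) = 0 := by
                have h6 : p.lz.b p.va (v + v0) = 0 := by rw [map_add, hv, hv0, add_zero]
                rw [haa, hbl, c1, zero_add] at h6
                exact h6
              have d1 := hfix f hf _ c1 c2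
              have d2 := hfix g hg _ c1 c2
              rw [map_add] at d1 d2
              have d3 : f v + f v0 = g v + g v0 := d1.trans d2.symm
              rw [e2] at d3
              exact add_right_cancel d3
          rw [e4]
          exact apply_inv g v
      exact (inv_mul_eq_one.1 e3).symm
    have e1 := Nat.card_le_card_of_injective F hF
    have e2 := Cfsg.Agent.LargeExtra.Red.BThm.ncard_two_le 0 p.va
    have e3 : Nat.card ({0, p.va} : Set p.lz.V) = ({0, p.va} : Set p.lz.V).ncard := rfl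
    omega
  have hc := p.card_X
  have : Nat.card p.X * Nat.card p.D ≤ 2 * 4 := Nat.mul_le_mul hX hD
  omega

/-- **(N7)**. -/
theorem n7 [Finite G] (p : Pair Q z A a) (hO : O2 p.lz) (hT : NoFix p.lz)
    (hS : ∀ W : Submodule (ZMod 2) p.lz.V, Inv p.lz W → (∀ v ∈ W, p.lz.b p.va v = 0) → p.va ∉ W →
      ∃ Wa, SData p.lz W p.va Wa)
    (h16 : 16 < Nat.card p.lz.V) {U : Submodule (ZMod 2) p.lz.V} (hU : Inv p.lz U) (hne : U ≠ ⊥) (htop : U ≠ ⊤)
    (hmin : ∀ U', Inv p.lz U' → U' ≤ U → U' = ⊥ ∨ U' = U) :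
    (∀ u ∈ U, p.lz.q u = 0) ∧ (p.va ∈ U ∨ ∃ u ∈ U, p.lz.b p.va u = 1) := by
  classical
  have h4 := four_le p.lz hT hU hne
  have hts : ∀ u ∈ U, p.lz.q u = 0 := by
    -- the radical of `U`
    have hrad : Inv p.lz (U ⊓ p.lz.b.orthogonal U) := fun f hf v hv =>
      ⟨hU f hf v hv.1, inv_perp p.lz hU f hf v hv.2⟩
    rcases hmin _ hrad inf_le_left with h0 | h0
    · -- nondegenerate
      exfalso
      have hn : ∀ v ∈ U, (∀ w ∈ U, p.lz.b v w = 0) → v = 0 := by
        intro v hv hv1
        have : v ∈ U ⊓ p.lz.b.orthogonal U :=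
          ⟨hv, (mem_perp _ U).2 fun w hw => by rw [p.lz.b_comm]; exact hv1 w hw⟩
        rw [h0] at this
        exact this
      by_cases hm1 : p.va ∈ U
      · -- use `U^⊥`
        set U' := p.lz.b.orthogonal U with hU'
        have hI' : Inv p.lz U' := inv_perp p.lz hU
        have hn' : ∀ v ∈ U', (∀ w ∈ U', p.lz.b v w = 0) → v = 0 := by
          intro v hv hv1
          have h5 : v ∈ p.lz.b.orthogonal U' := (mem_perp _ U').2 fun w hw => by
            rw [p.lz.b_comm]; exact hv1 w hw
          rw [hU', perp_perp] at h5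
          have : v ∈ U ⊓ p.lz.b.orthogonal U := ⟨h5, hv⟩
          rw [h0] at this
          exact this
        have hne' : U' ≠ ⊥ := by
          intro e
          apply htop
          have h5 := perp_perp p.lz U
          rw [← hU', e] at h5
          rw [← h5, eq_top_iff]
          intro v _
          rw [mem_perp]
          intro w hw
          rw [Submodule.mem_bot] at hw
          rw [hw, map_zero, LinearMap.zero_apply]
        have hperp : ∀ v ∈ U', p.lz.b p.va v = 0 := fun v hv => (mem_perp _ U).1 hv _ hm1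
        have hnm : p.va ∉ U' := by
          intro hm2
          have : p.va ∈ U ⊓ p.lz.b.orthogonal U := ⟨hm1, hm2⟩
          rw [h0] at this
          exact p.va_ne this
        obtain ⟨Wa, d⟩ := hS U' hI' hperp hnm
        exact FalseSD.false_nd hO hT d hn' hne'
      by_cases hm2 : p.va ∈ p.lz.b.orthogonal U
      · have hperp : ∀ v ∈ U, p.lz.b p.va v = 0 := fun v hv => by
          rw [p.lz.b_comm]; exact (mem_perp _ U).1 hm2 v hv
        obtain ⟨Wa, d⟩ := hS U hU hperp hm1
        exact FalseSD.false_nd hO hT d hn hne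
      · have := mixed p hU hn hm1 hm2
        omega
    · -- totally isotropic
      have hb : ∀ u ∈ U, ∀ w ∈ U, p.lz.b u w = 0 := by
        intro u hu w hw
        rw [← h0] at hw
        exact (mem_perp _ U).1 hw.2 u hu
      let K : Submodule (ZMod 2) p.lz.V :=
        { carrier := {u | u ∈ U ∧ p.lz.q u = 0}
          zero_mem' := ⟨U.zero_mem, p.lz.q_zero⟩
          add_mem' := by
            rintro u w ⟨hu, hqu⟩ ⟨hw, hqw⟩
            exact ⟨U.add_mem hu hw, by rw [p.lz.q_add', hqu, hqw, hb u hu w hw]; decide⟩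
          smul_mem' := by
            rintro c u ⟨hu, hqu⟩
            rcases zmod_two c with rfl | rfl
            · rw [zero_smul]; exact ⟨U.zero_mem, p.lz.q_zero⟩
            · rw [one_smul]; exact ⟨hu, hqu⟩ }
      have hK : Inv p.lz K := fun f hf v hv =>
        ⟨hU f hf v hv.1, (q_of_mem_O p.lz (range_le_O p.lz hf) v).trans hv.2⟩
      rcases hmin K hK (fun v hv => hv.1) with e | e
      · exfalso
        have hq1 : ∀ u ∈ U, u ≠ 0 → p.lz.q u = 1 := by
          intro u hu hu0
          apply zmod_two_ne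
          intro h5
          apply hu0
          have : u ∈ K := ⟨hu, h5⟩
          rw [e] at this
          exact this
        obtain ⟨u, hu, hu0⟩ := (Submodule.ne_bot_iff U).1 hne
        apply hu0
        apply hT
        intro f hf
        have hfu := hU f hf u hu
        have hfu0 : f u ≠ 0 := fun h5 => hu0 ((LinearEquiv.map_eq_zero_iff f).1 h5)
        by_contra hne'
        have h6 : f u + u ≠ 0 := fun h5 => hne' ((add_zero_iff p.lz).1 h5)
        have h7 := hq1 _ (U.add_mem hfu hu) h6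
        rw [p.lz.q_add', hq1 _ hfu hfu0, hq1 u hu hu0, hb _ hfu u hu] at h7
        exact absurd h7 (by decide)
      · intro u hu
        rw [← e] at hu
        exact hu.2
  refine ⟨hts, ?_⟩
  by_contra hcon
  rw [not_or] at hcon
  obtain ⟨hm, hc⟩ := hcon
  have hperp : ∀ v ∈ U, p.lz.b p.va v = 0 := by
    intro v hv
    by_contra hne'
    exact hc ⟨v, hv, zmod_two_ne hne'⟩
  obtain ⟨Wa, d⟩ := hS U hU hperp hm
  exact FalseSD.false_ts hO d hts h4

end Cfsg.Agent.LargeExtra.Red.NSeven
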