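import Cfsg.Agent.LargeExtra.Red.Family

/-!
# S1761, case II: (N3), the data `SData` of an invariant subgroup `B ≤ C_Q(a)`, `a ∉ B` (helper988)
-/

set_option autoImplicit false

namespace Cfsg.Agent.LargeExtra.Red

open Cfsg.Agent.Co2Type.Quad Cfsg.Agent.LargeExtra.Base Cfsg.Agent.LargeExtra.TwoCentral
open Cfsg.Agent.LargeExtra.Siegel Cfsg.Agent.LargeExtra.SiegelOrbit Cfsg.Agent.LargeExtra.Local

variable {G : Type*} [Group G] {Q A B Ba : Subgroup G} {z a : G}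

/-- the parameter space `Wa` -/
noncomputable def Wa (p : BPair Q z A a B Ba) : Submodule (ZMod 2) p.pair.lz.V :=
  Siegel.W p.pair.lz (q_va p.pair) (img p.pair.lz Ba)

theorem mem_Wa (p : BPair Q z A a B Ba) {w : p.pair.lz.V} :
    w ∈ Wa p ↔ ∃ (hw : p.pair.lz.b p.pair.va w = 0) (c : Subgroup.centralizer ({z} : Set G)),
      (c : G) ∈ Ba ∧ p.pair.lz.act c = sg p.pair.lz p.pair.va w (q_va p.pair) hw := by
  constructor
  · rintro ⟨hw, c, hc, h1⟩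
    exact ⟨hw, c, hc, h1⟩
  · rintro ⟨hw, c, hc, h1⟩
    exact ⟨hw, c, hc, h1⟩

theorem va_mem_Wa (p : BPair Q z A a B Ba) : p.pair.va ∈ Wa p :=
  a_mem_W p.pair.lz (q_va p.pair) p.pair.va_ne _

/-- two Siegel elements with the same centre agree only if the parameters agree mod the centre -/
theorem eq_of_sg_eq (h : Large Q z) {u w w' : h.V} (hu : h.q u = 0) (hw : h.b u w = 0)
    (hw' : h.b u w' = 0) (hu0 : u ≠ 0) (he : sg h u w hu hw = sg h u w' hu hw') :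
    w' = w ∨ w' = w + u := by
  have h3 : h.b u (w + w') = 0 := by rw [map_add, hw, hw', add_zero]
  have h1 : sg h u (w + w') hu h3 = 1 := by
    rw [← sg_mul h hu hw hw' h3, ← he, sg_mul_self]
  rcases (sg_eq_one h hu h3 hu0).1 h1 with h2 | h2
  · left
    calc w' = w + (w + w') := by rw [← add_assoc, h.add_self, zero_add]
      _ = w := by rw [h2, add_zero]
  · right
    calc w' = w + (w + w') := by rw [← add_assoc, h.add_self, zero_add]
      _ = w + u := by rw [h2]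

section

variable [Finite G] {p : BPair Q z A a B Ba} (o : Off p)
include o

/-- an element `c ∈ C(z) ∩ C(a)` acting trivially on `B / ⟨z⟩` acts trivially on `Ba` mod `⟨a⟩` -/
theorem Off.conj_Ba {c : G} (hcz : c * z = z * c) (hca : c * a = a * c)
    (hcB : ∀ b ∈ B, c * b * c⁻¹ = b ∨ c * b * c⁻¹ = b * z) {β : G} (hβ : β ∈ Ba) :
    c * β * c⁻¹ = β ∨ c * β * c⁻¹ = β * a := by
  obtain ⟨g, hg, hg1, hg2, hg3⟩ := exists_cycle p.pair
  have hb := (p.mem_iff hg1).1 hβ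
  have hk := comm_mem_RX p.pair hcz hca hg
  obtain ⟨hk1, hk2⟩ := o.conj_RX hk
  have e0 : c * g * c⁻¹ = (c * g * c⁻¹ * g⁻¹) * g := by group
  generalize c * g * c⁻¹ * g⁻¹ = k at hk hk1 hk2 e0
  generalize hbb : g⁻¹ * β * g = b at hb
  have eβ : β = g * b * g⁻¹ := by rw [← hbb]; group
  have e1 : c * β * c⁻¹ = (c * g * c⁻¹) * (c * b * c⁻¹) * (c * g * c⁻¹)⁻¹ := by rw [eβ]; group
  rw [e0] at e1
  rcases hcB b hb with h1 | h1
  · rw [h1] at e1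
    have e2 : c * β * c⁻¹ = k * β * k⁻¹ := by rw [e1, eβ]; group
    rw [e2]
    exact hk2 β hβ
  · rw [h1] at e1
    have e2 : c * β * c⁻¹ = k * (β * a) * k⁻¹ := by
      rw [e1, eβ, ← hg1]; group
    have e3 : k * (β * a) * k⁻¹ = k * β * k⁻¹ * a := by
      have h5 : k⁻¹ * a = a * k⁻¹ := (show Commute k a from hk1).inv_left.eq
      calc k * (β * a) * k⁻¹ = k * β * (a * k⁻¹) := by group
        _ = k * β * k⁻¹ * a := by rw [← h5]; group
    rw [e2, e3]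
    rcases hk2 β hβ with h6 | h6 <;> rw [h6]
    · right; rfl
    · left; rw [mul_assoc, p.pair.la.z_sq, mul_one]

/-- `β` and `y β' y⁻¹` commute for `β, β' ∈ Ba`, `y a y⁻¹ = a z` -/
theorem Off.comm_conj {y : G} (hy : y * a * y⁻¹ = a * z) {β β' : G} (hβ : β ∈ Ba)
    (hβ' : β' ∈ Ba) : β * (y * β' * y⁻¹) = (y * β' * y⁻¹) * β := by
  obtain ⟨g, hg, hg1, hg2, hg3⟩ := exists_cycle p.pair
  have h1 : y * β' * y⁻¹ ∈ Ba.map (MulAut.conj g).toMonoidHom := by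
    rw [← p.cBa.map_eq (hy.trans hg2.symm)]
    exact conj_mem_map y hβ'
  rw [mem_map_conj] at h1
  have hb := (p.mem_iff hg1).1 hβ
  have h2 := o.comm_BBa hb h1
  generalize y * β' * y⁻¹ = γ at h1 h2 ⊢
  calc β * γ = g * ((g⁻¹ * β * g) * (g⁻¹ * γ * g)) * g⁻¹ := by group
    _ = g * ((g⁻¹ * γ * g) * (g⁻¹ * β * g)) * g⁻¹ := by rw [h2]
    _ = γ * β := by group

/-- the isometry: if `β = g b g⁻¹` acts as `sg ã w`, then `q w = q b` -/
theorem Off.q_eq {g : G} (hg : g * z * g⁻¹ = a) {b : G} (hb : b ∈ B)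
    {c : Subgroup.centralizer ({z} : Set G)} (hc : (c : G) = g * b * g⁻¹) {w : p.pair.lz.V}
    (hw : p.pair.lz.b p.pair.va w = 0)
    (hact : p.pair.lz.act c = sg p.pair.lz p.pair.va w (q_va p.pair) hw) :
    p.pair.lz.q w = p.pair.lz.q (p.pair.lz.pr ⟨b, p.cB.le hb⟩) := by
  have hcB : (c : G) ∈ Ba := by rw [hc]; exact p.conj_mem hg hb
  obtain ⟨y, hyQ, hy⟩ := exists_y p.pair
  have hcz : (c : G) * z = z * c := Subgroup.mem_centralizer_singleton_iff.1 c.2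
  -- `y' = c y c⁻¹ y⁻¹`
  have hy'Q : (c : G) * y * (c : G)⁻¹ * y⁻¹ ∈ Q :=
    mul_mem (p.pair.lz.conj_mem _ hcz y hyQ) (inv_mem hyQ)
  have hbay : p.pair.lz.b p.pair.va (p.pair.lz.pr ⟨y, hyQ⟩) = 1 := by
    apply zmod_two_ne
    intro h1
    have h2 := (p.pair.lz.b_pr _ _).1 h1
    have h3 : y * a * y⁻¹ = a := conj_eq_of_comm h2.symm
    rw [hy] at h3
    exact p.pair.lz.z_ne (mul_eq_left.1 h3)
  have hpr : p.pair.lz.pr ⟨_, hy'Q⟩ = w + (p.pair.lz.b w (p.pair.lz.pr ⟨y, hyQ⟩) +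
      p.pair.lz.q w) • p.pair.va := by
    have h1 : (⟨_, hy'Q⟩ : Q) = p.pair.lz.conjQ c ⟨y, hyQ⟩ * (⟨y, hyQ⟩ : Q)⁻¹ := rfl
    rw [h1, p.pair.lz.pr_mul, p.pair.lz.pr_inv, p.pair.lz.neg_eq, ← p.pair.lz.act_pr, hact,
      sg_apply, hbay, one_smul, mul_one]
    have e : ∀ u v t : p.pair.lz.V, u + v + t + u = v + t + (u + u) := fun u v t => by abel
    rw [e, p.pair.lz.add_self, add_zero]
  have hq1 : p.pair.lz.q (p.pair.lz.pr ⟨_, hy'Q⟩) = p.pair.lz.q w := by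
    rw [hpr]
    rcases zmod_two (p.pair.lz.b w (p.pair.lz.pr ⟨y, hyQ⟩) + p.pair.lz.q w) with h1 | h1 <;> rw [h1]
    · rw [zero_smul, add_zero]
    · rw [one_smul, p.pair.lz.q_add', q_va, p.pair.lz.b_comm, hw, add_zero, add_zero]
  rw [← hq1]
  -- squares
  have hcomm := o.comm_conj hy hcB (inv_mem hcB)
  have hsq : ((c : G) * y * (c : G)⁻¹ * y⁻¹) * ((c : G) * y * (c : G)⁻¹ * y⁻¹) =
      ((c : G) * c) * (y * ((c : G) * c)⁻¹ * y⁻¹) := by
    have e1 : (c : G) * y * (c : G)⁻¹ * y⁻¹ = c * (y * (c : G)⁻¹ * y⁻¹) := by group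
    rw [e1]
    calc (c : G) * (y * (c : G)⁻¹ * y⁻¹) * (c * (y * (c : G)⁻¹ * y⁻¹))
        = c * ((y * (c : G)⁻¹ * y⁻¹) * c) * (y * (c : G)⁻¹ * y⁻¹) := by group
      _ = c * (c * (y * (c : G)⁻¹ * y⁻¹)) * (y * (c : G)⁻¹ * y⁻¹) := by rw [← hcomm]
      _ = (c * c) * (y * ((c : G) * c)⁻¹ * y⁻¹) := by rw [mul_inv_rev]; group
  have hcc : (c : G) * c = g * (b * b) * g⁻¹ := by rw [hc]; group
  rcases p.pair.lz.sq b (p.cB.le hb) with h1 | h1
  · rw [(p.pair.lz.q_eq_zero (x := ⟨b, p.cB.le hb⟩)).2 h1, p.pair.lz.q_eq_zero]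
    show ((c : G) * y * (c : G)⁻¹ * y⁻¹) * ((c : G) * y * (c : G)⁻¹ * y⁻¹) = 1
    rw [hsq, hcc, h1]; group
  · rw [(p.pair.lz.q_eq_one (x := ⟨b, p.cB.le hb⟩)).2 h1, p.pair.lz.q_eq_one]
    show ((c : G) * y * (c : G)⁻¹ * y⁻¹) * ((c : G) * y * (c : G)⁻¹ * y⁻¹) = z
    rw [hsq, hcc, h1, hg]
    have e2 : y * a⁻¹ * y⁻¹ = (y * a * y⁻¹)⁻¹ := by group
    rw [e2, hy, mul_inv_rev, p.pair.lz.z_inv, p.pair.la.z_inv, ← p.pair.comm_za, ← mul_assoc,
      p.pair.la.z_sq, one_mul]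

/-- the relation between `B / ⟨z⟩` and `Wa` -/
def Gam (_o : Off p) (g : G) (hg : g * z * g⁻¹ = a) :
    Submodule (ZMod 2) (sub p.pair.lz B × p.pair.lz.V) where
  carrier := {x | ∃ (b : G) (hb : b ∈ B) (hw : p.pair.lz.b p.pair.va x.2 = 0)
    (c : Subgroup.centralizer ({z} : Set G)), p.pair.lz.pr ⟨b, p.cB.le hb⟩ = x.1 ∧
      (c : G) = g * b * g⁻¹ ∧ p.pair.lz.act c = sg p.pair.lz p.pair.va x.2 (q_va p.pair) hw}
  zero_mem' := by
    refine ⟨1, B.one_mem, map_zero _, 1, p.pair.lz.pr_one, by simp, ?_⟩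
    rw [map_one]
    exact (sg_zero p.pair.lz _ _).symm
  add_mem' := by
    rintro ⟨x1, x2⟩ ⟨y1, y2⟩ ⟨b, hb, hw, c, h1, h2, h3⟩ ⟨b', hb', hw', c', h1', h2', h3'⟩
    have hw'' : p.pair.lz.b p.pair.va (x2 + y2) = 0 := by
      rw [map_add]; exact (congrArg₂ (· + ·) hw hw').trans (add_zero _)
    refine ⟨b * b', mul_mem hb hb', hw'', c * c', ?_, ?_, ?_⟩
    · have : (⟨b * b', p.cB.le (mul_mem hb hb')⟩ : Q) = ⟨b, p.cB.le hb⟩ * ⟨b', p.cB.le hb'⟩ := rfl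
      rw [this, p.pair.lz.pr_mul, h1, h1']
      rfl
    · rw [Subgroup.coe_mul, h2, h2']; group
    · rw [map_mul, h3, h3']
      exact sg_mul p.pair.lz _ _ _ _
  smul_mem' := by
    rintro c ⟨x1, x2⟩ ⟨b, hb, hw, c', h1, h2, h3⟩
    rcases zmod_two c with rfl | rfl
    · refine ⟨1, B.one_mem, ?_, 1, ?_, by simp, ?_⟩
      · rw [zero_smul]; exact map_zero _
      · rw [zero_smul]; exact p.pair.lz.pr_one
      · rw [map_one]
        rw [← sg_zero p.pair.lz (q_va p.pair) (map_zero _)]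
        exact sg_congr _ _ _ _ _ rfl (by rw [zero_smul]; rfl)
    · refine ⟨b, hb, ?_, c', ?_, h2, ?_⟩
      · rw [one_smul]; exact hw
      · rw [one_smul]; exact h1
      · rw [h3]
        exact sg_congr _ _ _ _ _ rfl (by rw [one_smul])

end

end Cfsg.Agent.LargeExtra.Red
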