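import Mathlib

/-!
# Siegel transformations over the field with two elements (helper539, S1761 [R1]/[R3])

`QSp V`: a nondegenerate quadratic space over `ZMod 2`.  `S.IsE t c v`: the linear automorphism `t` is the Siegel
transformation `E(c, v) : y ↦ y + b(y,v) c + b(y,c) (v + q(v) c)`.
-/

set_option autoImplicit false

namespace Cfsg.Agent.LargeExtra.Red.SiegelE

/-- A nondegenerate quadratic space over `ZMod 2`. -/
structure QSp (V : Type*) [AddCommGroup V] [Module (ZMod 2) V] where
  q : V → ZMod 2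
  b : LinearMap.BilinForm (ZMod 2) V
  q_add : ∀ v w, q (v + w) = q v + q w + b v w
  b_self : ∀ v, b v v = 0
  nondeg : ∀ v, (∀ w, b v w = 0) → v = 0

theorem zcases (x : ZMod 2) : x = 0 ∨ x = 1 := by revert x; decide

theorem zadd_self (x : ZMod 2) : x + x = 0 := by revert x; decide

theorem zone_add_one : (1 : ZMod 2) + 1 = 0 := by decide

section

variable {V : Type*} [AddCommGroup V] [Module (ZMod 2) V]

theorem vadd_self (v : V) : v + v = 0 := by
  have : (2 : ZMod 2) • v = v + v := two_smul _ v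
  rw [← this, show (2 : ZMod 2) = 0 by decide, zero_smul]

theorem add_add_cancel' (v w : V) : v + (v + w) = w := by
  rw [← add_assoc, vadd_self, zero_add]

theorem eq_of_add_eq_zero {v w : V} (h : v + w = 0) : v = w := by
  have := add_add_cancel' w v
  rw [add_comm w v, h, add_zero] at this
  exact this.symm

theorem add_ne_right {v w : V} (h : v ≠ 0) : v + w ≠ w := fun h' => h (by
  have := congrArg (fun x => x + w) h'
  simpa [add_assoc, vadd_self] using this)

namespace QSp

variable (S : QSp V)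

theorem b_comm (v w : V) : S.b v w = S.b w v := by
  have h1 := S.q_add v w
  rw [add_comm v w, S.q_add w v, add_comm (S.q w)] at h1
  exact (add_left_cancel h1).symm

theorem q_zero : S.q 0 = 0 := by
  have h1 := S.q_add 0 0
  rw [add_zero, S.b_self, add_zero, zadd_self] at h1
  exact h1

/-- An isometry for `q` is one for `b`. -/
theorem b_isom {h : V ≃ₗ[ZMod 2] V} (hh : ∀ v, S.q (h v) = S.q v) (v w : V) : S.b (h v) (h w) = S.b v w := by
  have h1 := S.q_add (h v) (h w)
  rw [← map_add, hh, hh, hh, S.q_add v w] at h1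
  exact (add_left_cancel h1).symm

/-- `b(·,u)` and `b(·,w)` are independent for `u ∉ {0, w}`. -/
theorem exists_sep {u w : V} (hu : u ≠ 0) (huw : u ≠ w) : ∃ y, S.b y u = 1 ∧ S.b y w = 0 := by
  by_contra hcon
  push Not at hcon
  have key : ∀ y, S.b y w = 0 → S.b y u = 0 := fun y hy => by
    rcases zcases (S.b y u) with h | h
    · exact h
    · exact absurd hy (hcon y h)
  by_cases hw : ∀ y, S.b y w = 0
  · apply hu
    apply S.nondeg
    intro y
    rw [S.b_comm]
    exact key y (hw y)
  · push Not at hw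
    obtain ⟨y0, hy0⟩ := hw
    have hy1 : S.b y0 w = 1 := by
      rcases zcases (S.b y0 w) with h | h
      · exact absurd h hy0
      · exact h
    have h2 : ∀ y, S.b y u = S.b y0 u * S.b y w := by
      intro y
      rcases zcases (S.b y w) with h | h
      · rw [h, mul_zero]; exact key y h
      · rw [h, mul_one]
        have h3 : S.b (y + y0) w = 0 := by
          rw [map_add, LinearMap.add_apply, h, hy1]; decide
        have h4 := key _ h3
        rw [map_add, LinearMap.add_apply] at h4
        rcases zcases (S.b y u) with h5 | h5 <;> rcases zcases (S.b y0 u) with h6 | h6 <;>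
          rw [h5, h6] at h4 <;> rw [h5, h6] <;> revert h4 <;> decide
    rcases zcases (S.b y0 u) with h | h
    · apply hu
      apply S.nondeg
      intro y
      rw [S.b_comm, h2, h, zero_mul]
    · apply huw
      apply eq_of_add_eq_zero
      apply S.nondeg
      intro y
      rw [map_add, LinearMap.add_apply, S.b_comm u, S.b_comm w, h2, h, one_mul, zadd_self]

/-- `t = E(c, v)`. -/
def IsE (t : V ≃ₗ[ZMod 2] V) (c v : V) : Prop :=
  ∀ y, t y = y + S.b y v • c + S.b y c • (v + S.q v • c)

variable {S}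

theorem IsE.unique {t t' : V ≃ₗ[ZMod 2] V} {c v : V} (h : S.IsE t c v) (h' : S.IsE t' c v) : t = t' := by
  ext y
  rw [h y, h' y]

theorem IsE.conj {t h : V ≃ₗ[ZMod 2] V} {c v : V} (ht : S.IsE t c v) (hh : ∀ v, S.q (h v) = S.q v) :
    S.IsE (h * t * h⁻¹) (h c) (h v) := by
  intro y
  have e : (h * t * h⁻¹) y = h (t (h⁻¹ y)) := rfl
  have hy : h (h⁻¹ y) = y := LinearEquiv.apply_symm_apply h y
  have e1 : S.b (h⁻¹ y) v = S.b y (h v) := by
    rw [← S.b_isom hh (h⁻¹ y) v, hy]
  have e2 : S.b (h⁻¹ y) c = S.b y (h c) := by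
    rw [← S.b_isom hh (h⁻¹ y) c, hy]
  rw [e, ht, map_add, map_add, map_smul, map_smul, map_add, map_smul, hy, e1, e2, hh]

/-- `E(c, v + c) = E(c, v)`. -/
theorem IsE.add_left {t : V ≃ₗ[ZMod 2] V} {c v : V} (ht : S.IsE t c v) (hc : S.q c = 0) (hv : S.b v c = 0) :
    S.IsE t c (v + c) := by
  intro y
  rw [ht y, map_add, S.q_add, hc, hv, add_zero, add_zero, add_smul]
  rcases zcases (S.b y c) with h | h
  · simp only [h, zero_smul, add_zero]
  · rw [h, one_smul, one_smul, one_smul]
    have h1 := vadd_self c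
    calc y + S.b y v • c + (v + S.q v • c) = y + S.b y v • c + (v + S.q v • c) + 0 := by rw [add_zero]
      _ = y + S.b y v • c + (v + S.q v • c) + (c + c) := by rw [h1]
      _ = y + (S.b y v • c + c) + (v + c + S.q v • c) := by abel

theorem IsE.sq {t : V ≃ₗ[ZMod 2] V} {c v : V} (ht : S.IsE t c v) (hv : S.b v c = 0) :
    t * t = 1 := by
  ext y
  show t (t y) = y
  have hcc : t c = c := by
    rw [ht c, S.b_comm c v, hv, S.b_self, zero_smul, zero_smul, add_zero, add_zero]
  have hvv : t v = v := by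
    rw [ht v, hv, S.b_self, zero_smul, zero_smul, add_zero, add_zero]
  conv_lhs => rw [ht y]
  rw [map_add, map_add, map_smul, map_smul, map_add, map_smul, hcc, hvv, ht y]
  have h1 := vadd_self (S.b y v • c)
  have h2 := vadd_self (S.b y c • (v + S.q v • c))
  calc y + S.b y v • c + S.b y c • (v + S.q v • c) + S.b y v • c + S.b y c • (v + S.q v • c)
      = y + (S.b y v • c + S.b y v • c) + (S.b y c • (v + S.q v • c) + S.b y c • (v + S.q v • c)) := by abel
    _ = y := by rw [h1, h2, add_zero, add_zero]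

theorem IsE.inv {t : V ≃ₗ[ZMod 2] V} {c v : V} (ht : S.IsE t c v) (hv : S.b v c = 0) :
    t⁻¹ = t := inv_eq_of_mul_eq_one_left (ht.sq hv)

/-- Siegel transformations with the same centre commute. -/
theorem IsE.comm_same {t t' : V ≃ₗ[ZMod 2] V} {c v v' : V} (ht : S.IsE t c v) (ht' : S.IsE t' c v')
    (hv : S.b v c = 0) (hv' : S.b v' c = 0) : t * t' = t' * t := by
  have hcc : t c = c := by
    rw [ht c, S.b_comm c v, hv, S.b_self, zero_smul, zero_smul, add_zero, add_zero]
  have hcc' : t' c = c := by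
    rw [ht' c, S.b_comm c v', hv', S.b_self, zero_smul, zero_smul, add_zero, add_zero]
  have h1 : t v' = v' + S.b v' v • c := by
    rw [ht v', hv', zero_smul, add_zero]
  have h2 : t' v = v + S.b v' v • c := by
    rw [ht' v, hv, zero_smul, add_zero, S.b_comm v v']
  ext y
  show t (t' y) = t' (t y)
  conv_lhs => rw [ht' y]
  conv_rhs => rw [ht y]
  rw [map_add, map_add, map_smul, map_smul, map_add, map_smul, hcc, h1, ht y,
    map_add, map_add, map_smul, map_smul, map_add, map_smul, hcc', h2, ht' y]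
  rcases zcases (S.b y v) with e1 | e1 <;> rcases zcases (S.b y v') with e2 | e2 <;>
    rcases zcases (S.b y c) with e3 | e3 <;> rw [e1, e2, e3] <;>
    simp only [zero_smul, one_smul, add_zero] <;> abel

/-- A nontrivial Siegel transformation. -/
theorem IsE.ne_one {t : V ≃ₗ[ZMod 2] V} {c v : V} (ht : S.IsE t c v) (hc : c ≠ 0) (hv : v ≠ 0) (hvc : v ≠ c) :
    t ≠ 1 := by
  rintro rfl
  obtain ⟨y, h1, h2⟩ := S.exists_sep hv hvc
  have h3 := ht y
  rw [h1, h2, one_smul, zero_smul, add_zero] at h3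
  have h4 : (1 : V ≃ₗ[ZMod 2] V) y = y := rfl
  rw [h4] at h3
  exact hc (by simpa using h3.symm)

end QSp

end

/-! ### a dihedral group of order dividing 8 -/

section dihedral

variable {G : Type*} [Group G]

theorem isPGroup_pair {t s : G} (ht : t * t = 1) (hs : s * s = 1) (h : (t * s) ^ 4 = 1) :
    IsPGroup 2 (Subgroup.closure {t, s} : Subgroup G) := by
  have htinv : t⁻¹ = t := inv_eq_of_mul_eq_one_left ht
  have hsinv : s⁻¹ = s := inv_eq_of_mul_eq_one_left hs
  have hconj : t * (t * s) * t⁻¹ = (t * s)⁻¹ := by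
    rw [mul_inv_rev, hsinv, htinv]
    calc t * (t * s) * t = (t * t) * s * t := by group
      _ = s * t := by rw [ht, one_mul]
  have hk : ∀ k : ℤ, t * (t * s) ^ k = (t * s) ^ (-k) * t := by
    intro k
    have h1 : (t * (t * s) * t⁻¹) ^ k = t * (t * s) ^ k * t⁻¹ := conj_zpow
    rw [hconj, inv_zpow, ← zpow_neg] at h1
    rw [h1]
    group
  have hs' : s = (t * s) ^ (-1 : ℤ) * t := by
    rw [zpow_neg_one, mul_inv_rev, htinv, hsinv, mul_assoc, ht, mul_one]
  have key : ∀ g ∈ Subgroup.closure ({t, s} : Set G), ∃ k : ℤ, g = (t * s) ^ k ∨ g = (t * s) ^ k * t := by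
    intro g hg
    induction hg using Subgroup.closure_induction with
    | mem x hx =>
      rcases hx with rfl | hx
      · exact ⟨0, Or.inr (by simp)⟩
      · rw [Set.mem_singleton_iff] at hx
        exact ⟨-1, Or.inr (hx.trans hs')⟩
    | one => exact ⟨0, Or.inl (by simp)⟩
    | mul x y _ _ hx hy =>
      obtain ⟨k, hk1⟩ := hx
      obtain ⟨l, hl⟩ := hy
      rcases hk1 with rfl | rfl <;> rcases hl with rfl | rfl
      · exact ⟨k + l, Or.inl (by rw [zpow_add])⟩
      · exact ⟨k + l, Or.inr (by rw [zpow_add, mul_assoc])⟩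
      · exact ⟨k - l, Or.inr (by rw [mul_assoc, hk, ← mul_assoc, ← zpow_add]; rfl)⟩
      · refine ⟨k - l, Or.inl ?_⟩
        rw [mul_assoc, ← mul_assoc t, hk, mul_assoc _ t t, ht, mul_one, ← zpow_add]; rfl
    | inv x _ hx =>
      obtain ⟨k, hk1⟩ := hx
      rcases hk1 with rfl | rfl
      · exact ⟨-k, Or.inl (by rw [zpow_neg])⟩
      · refine ⟨k, Or.inr ?_⟩
        rw [mul_inv_rev, htinv, ← zpow_neg, hk, neg_neg]
  rintro ⟨g, hg⟩
  refine ⟨2, ?_⟩
  apply Subtype.ext
  show g ^ (2 ^ 2) = 1
  obtain ⟨k, hk1⟩ := key g hg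
  rcases hk1 with rfl | rfl
  · rw [show (2 ^ 2 : ℕ) = 4 from rfl, ← zpow_natCast, ← zpow_mul, mul_comm, zpow_mul, zpow_natCast, h, one_zpow]
  · have h2 : ((t * s) ^ k * t) * ((t * s) ^ k * t) = 1 := by
      rw [mul_assoc, ← mul_assoc t, hk, mul_assoc _ t t, ht, mul_one, ← zpow_add, add_neg_cancel, zpow_zero]
    rw [show (2 ^ 2 : ℕ) = 2 * 2 from rfl, pow_mul, pow_two ((t * s) ^ k * t), h2, one_pow]

end dihedral

end Cfsg.Agent.LargeExtra.Red.SiegelE
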