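import Cfsg.Agent.LargeExtra.Red.Pre
import Cfsg.Agent.LargeExtra.Red.TIClose

/-!
# S1761, case II, (X1): `z^G ∩ Q ⊆ E`, `E = pre U` with `N(E)/E = Aut(E)` (helper448)
-/

set_option autoImplicit false

namespace Cfsg.Agent.LargeExtra.Red.XOne

open Cfsg.Agent.Co2Type.Quad Cfsg.Agent.LargeExtra.Base Cfsg.Agent.LargeExtra.TwoCentral
open Cfsg.Agent.LargeExtra.Siegel Cfsg.Agent.LargeExtra.SiegelOrbit Cfsg.Agent.LargeExtra.Local
open Cfsg.Agent.LargeExtra.Red

variable {G : Type*} [Group G] {Q A : Subgroup G} {z a : G}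

/-- `C_G(z)` normalises `pre U` -/
theorem mem_normalizer (h : Large Q z) {U : Submodule (ZMod 2) h.V} (hU : Inv h U) {c : G}
    (hc : c * z = z * c) : c ∈ Subgroup.normalizer ((pre h U : Subgroup G) : Set G) := by
  have h1 := (cinv_pre h hU).inv
  have hc' : c⁻¹ * z = z * c⁻¹ := (show Commute c z from hc).inv_left.eq
  rw [Subgroup.mem_normalizer_iff]
  intro x
  refine ⟨h1 c hc x, fun hx => ?_⟩
  have h2 := h1 c⁻¹ hc' _ hx
  have e : c⁻¹ * (c * x * c⁻¹) * c⁻¹⁻¹ = x := by group
  rwa [e] at h2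

/-- the hypotheses of `TIClose` -/
theorem hyp [Finite G] (h : Large Q z) {U : Submodule (ZMod 2) h.V} (aff : AffCase h U)
    (hc : 16 ≤ Nat.card U) (hD : ∀ g, g * z * g⁻¹ ∈ Q → g * z * g⁻¹ ∈ pre h U) :
    TIClose.Hyp (pre h U) z := by
  have hti : TIClose.TI (pre h U) :=
    { sq := fun x hx => sq_of_mem_pre h aff.gl.ts hx, cent := aff.cent, ti := aff.ti }
  refine { ti := hti, card := ?_, aut := aff.aut, conj := aff.conj, rank := ?_ }
  · rw [card_pre]; omega
  · rintro t ht hzt ⟨v, hv, hrank⟩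
    have hz := z_mem_pre h U
    by_cases hv1 : v = 1
    · apply aff.cent
      intro y hy
      have h1 : y * (t * y * t⁻¹) = 1 := by
        rcases hrank y hy with h1 | h1
        · exact h1
        · rw [h1, hv1]
      have h2 : t * y * t⁻¹ = y := by
        have h3 := hti.sq y hy
        exact mul_left_cancel (h1.trans h3.symm)
      calc t * y = t * y * t⁻¹ * t := by group
        _ = y * t := by rw [h2]
    · obtain ⟨n, hn⟩ := isConj_iff.1 (aff.conj v hv hv1)
      have hnN : n ∈ Subgroup.normalizer ((pre h U : Subgroup G) : Set G) :=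
        aff.ti z hz h.z_ne n (by rw [hn]; exact hv)
      have hnI : n⁻¹ ∈ Subgroup.normalizer ((pre h U : Subgroup G) : Set G) := inv_mem hnN
      -- the conjugate of `t` with centre `z`
      have hr' : ∀ x ∈ pre h U, x * ((n⁻¹ * t * n) * x * (n⁻¹ * t * n)⁻¹) = 1 ∨
          x * ((n⁻¹ * t * n) * x * (n⁻¹ * t * n)⁻¹) = z := by
        intro x hx
        have h1 := (Subgroup.mem_normalizer_iff.1 hnN x).1 hx
        have e : x * ((n⁻¹ * t * n) * x * (n⁻¹ * t * n)⁻¹) =
            n⁻¹ * ((n * x * n⁻¹) * (t * (n * x * n⁻¹) * t⁻¹)) * n := by group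
        rcases hrank _ h1 with h2 | h2
        · left; rw [e, h2]; group
        · right; rw [e, h2, ← hn]; group
      have htz : (n⁻¹ * t * n) * z = z * (n⁻¹ * t * n) := by
        rcases hr' z hz with h2 | h2
        · have h3 : (n⁻¹ * t * n) * z * (n⁻¹ * t * n)⁻¹ = z :=
            mul_left_cancel (h2.trans h.z_sq.symm)
          rw [mul_inv_eq_iff_eq_mul] at h3
          exact h3
        · exfalso
          have h3 : (n⁻¹ * t * n) * z * (n⁻¹ * t * n)⁻¹ = 1 :=
            mul_left_cancel (h2.trans (mul_one z).symm)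
          apply h.z_ne
          rw [mul_inv_eq_iff_eq_mul, one_mul] at h3
          exact (mul_eq_left (a := n⁻¹ * t * n)).1 h3
      have htC : n⁻¹ * t * n ∈ Subgroup.centralizer ({z} : Set G) :=
        Subgroup.mem_centralizer_singleton_iff.2 htz
      have hact : h.act ⟨n⁻¹ * t * n, htC⟩ = 1 := by
        apply aff.gl.faithful _ ⟨_, rfl⟩
        intro u hu
        obtain ⟨x, rfl⟩ := h.pr_surjective u
        have hx : (x : G) ∈ pre h U := (coe_mem_pre h x).2 hu
        rw [h.act_pr]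
        apply h.pr_eq_pr.2
        rw [h.conjQ_coe]
        have hxx := hti.sq _ hx
        rcases hr' _ hx with h2 | h2
        · left
          exact mul_left_cancel (h2.trans hxx.symm)
        · right
          have h3 : (x : G) * ((x : G) * z) = z := by rw [← mul_assoc, hxx, one_mul]
          exact mul_left_cancel (h2.trans h3.symm)
      have hQt : n⁻¹ * t * n ∈ Q := h.mem_of_act ⟨_, htC⟩ hact
      obtain ⟨k, hk⟩ := isConj_iff.1 hzt
      have hk' : (n⁻¹ * k) * z * (n⁻¹ * k)⁻¹ = n⁻¹ * t * n := by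
        rw [← hk]; group
      have h4 := hD (n⁻¹ * k) (by rw [hk']; exact hQt)
      rw [hk'] at h4
      rw [Subgroup.mem_normalizer_iff] at hnN
      have h5 := (hnN _).1 h4
      have e : n * (n⁻¹ * t * n) * n⁻¹ = t := by group
      rwa [e] at h5

/-- an involution of `Q` outside `pre U` -/
theorem exists_involution [Finite G] (h : Large Q z) {U : Submodule (ZMod 2) h.V} (gl : GLCase h U)
    (hc : 2 ≤ Nat.card U) : ∃ t ∈ Q, t * t = 1 ∧ t ∉ pre h U := by
  have h1 : ∃ v, v ∉ U := by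
    by_contra hcon
    push Not at hcon
    have h2 : ∀ v : h.V, v = 0 := fun v => h.b_nondeg fun w =>
      b_eq_zero_of_ts h gl.ts (hcon v) (hcon w)
    have : Subsingleton U := ⟨fun x y => Subtype.ext ((h2 x).trans (h2 y).symm)⟩
    have h3 : Nat.card U ≤ 1 := Finite.card_le_one_iff_subsingleton.2 this
    omega
  obtain ⟨v, hv⟩ := h1
  have h2 : ∃ w, w ∉ U ∧ h.q w = 0 := by
    by_cases hq : h.q v = 0
    · exact ⟨v, hv, hq⟩
    · have hq1 : h.q v = 1 := by
        have : ∀ k : ZMod 2, k ≠ 0 → k = 1 := by decide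
        exact this _ hq
      have h3 : ∃ u ∈ U, h.b u v ≠ 0 := by
        by_contra hcon
        push Not at hcon
        exact hv (gl.perp v hcon)
      obtain ⟨u, hu, hb⟩ := h3
      have hb1 : h.b u v = 1 := by
        have : ∀ k : ZMod 2, k ≠ 0 → k = 1 := by decide
        exact this _ hb
      refine ⟨u + v, fun hcon => hv ?_, ?_⟩
      · have h4 := U.sub_mem hcon hu
        rwa [add_sub_cancel_left] at h4
      · rw [h.q_add', gl.ts u hu, hq1, hb1]; decide
  obtain ⟨w, hw, hqw⟩ := h2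
  obtain ⟨x, rfl⟩ := h.pr_surjective w
  exact ⟨x, x.2, h.q_eq_zero.1 hqw, fun hx => hw ((coe_mem_pre h x).1 hx)⟩

/-- (X1): contradiction (`gold` is S1169) -/
theorem x_one_false [Finite G] (h : Large Q z) {U : Submodule (ZMod 2) h.V} (aff : AffCase h U)
    (hc : 16 ≤ Nat.card U) (hD : ∀ g, g * z * g⁻¹ ∈ Q → g * z * g⁻¹ ∈ pre h U)
    (gold : ∀ (S : Sylow 2 G) (B : Subgroup G), B ≠ ⊥ → IsMulCommutative B →
      Cfsg.IsStronglyClosed B (S : Subgroup G) →
      IsMulCommutative (S : Subgroup G) ∨ ∃ H : Subgroup G, Cfsg.IsStronglyEmbedded H) : False := by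
  obtain ⟨t, htQ, htt, htU⟩ := exists_involution h aff.gl (by omega)
  exact (hyp h aff hc hD).false_of_involution gold
    (mem_normalizer h aff.gl.inv (h.comm_z t htQ)) htt htU

end Cfsg.Agent.LargeExtra.Red.XOne
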